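import Groth.Prelude.Def_Pic13
import Groth.Prelude.Def_ClSub2
import Groth.Prelude.Def_Canon
import Groth.Prelude.Def_LefMon
import Mathlib.AlgebraicGeometry.Morphisms.Smooth

/-!
# Interfaces for the structure theory of bielliptic surfaces

* `K857.IsFibr k f`: `f : X ⟶ E` is a morphism of `k`-schemes onto a smooth proper integral curve of genus one
  with `f_* O_X = O_E`.
* `K857.IsGenusOne k f`: all closed fibres of `f` are integral with `h¹(O) = 1`.
* `K857.IsBiell k X ω`: the hypotheses of the rows on bielliptic surfaces over an algebraically closed field.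
-/

set_option autoImplicit false
universe u
open CategoryTheory CategoryTheory.Limits AlgebraicGeometry

namespace K857

variable (k : Type u) [Field k]

/-- `f : X ⟶ E` is a fibration over a smooth proper integral curve `E` of genus one, `f_* O_X = O_E`. -/
structure IsFibr {X E : Scheme.{u}} [X.Over (Spec (CommRingCat.of k))] [E.Over (Spec (CommRingCat.of k))]
    (f : X ⟶ E) : Prop where
  over : f ≫ (E ↘ Spec (CommRingCat.of k)) = X ↘ Spec (CommRingCat.of k)
  integral : IsIntegral E
  proper : IsProper (E ↘ Spec (CommRingCat.of k))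
  smooth : SmoothOfRelativeDimension 1 (E ↘ Spec (CommRingCat.of k))
  genus : Module.finrank k (Coh.HH E (Coh.structureModule E) 1) = 1
  unit : IsIso (ClSub.unitToPush f)

/-- all closed fibres of `f : X ⟶ E` are integral with `h¹(O) = 1`. -/
structure IsGenusOne {X E : Scheme.{u}} [E.Over (Spec (CommRingCat.of k))] (f : X ⟶ E) : Prop where
  integral : ∀ x : Spec (CommRingCat.of k) ⟶ E, x ≫ (E ↘ Spec (CommRingCat.of k)) = 𝟙 _ →
    IsIntegral (pullback f x)
  h1 : ∀ x : Spec (CommRingCat.of k) ⟶ E, x ≫ (E ↘ Spec (CommRingCat.of k)) = 𝟙 _ →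
    letI : (pullback f x).Over (Spec (CommRingCat.of k)) := ⟨pullback.snd f x⟩
    Module.finrank k (Coh.HH (pullback f x) (Coh.structureModule (pullback f x)) 1) = 1

/-- the hypotheses on a (quasi-)bielliptic surface over an algebraically closed field in the rows
S15368–S15376, S19592. -/
structure IsBiell (X : Scheme.{u}) [X.Over (Spec (CommRingCat.of k))] (ω : X.Modules) : Prop where
  int : IsIntegral X
  prop : IsProper (X ↘ Spec (CommRingCat.of k))
  smooth : SmoothOfRelativeDimension 2 (X ↘ Spec (CommRingCat.of k))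
  proj : ∃ H : X.Modules, CohB1.IsAmple H
  canon : Canon.IsTopDiff (X ↘ Spec (CommRingCat.of k)) 2 ω
  num : Pic13.IsNumEquivZero k X ω
  b2 : ∀ ℓ : ℕ, ℓ.Prime → (ℓ : k) ≠ 0 → EtAdic.betti X ℓ 2 = 2

end K857
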