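import Groth.Agent.Biell.K857.ChartEx

/-!
# An atlas of two charts
-/

set_option autoImplicit false
universe u

open CategoryTheory CategoryTheory.Limits AlgebraicGeometry TopologicalSpace Opposite
open Groth.Agent.Picfga.RegLocus Groth.Agent
open K857.OReg K857.WeiField

namespace K857

namespace AtlasAux

variable {X E : Scheme.{u}} [IsIntegral X] [IsIntegral E] {f : X ⟶ E} [IsDominant f]

theorem ff_id (g : X.functionField) : ff (𝟙 X) g = g := by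
  have hg : g ∈ O (reg g) := fun _ hx => hx
  obtain ⟨a, ha⟩ := exists_sec hg
  rw [← ha, ff_germ_appLE (𝟙 X) (reg g) (reg g) le_rfl]
  congr 1
  have h1 : (𝟙 X : X ⟶ X).appLE (reg g) (reg g) le_rfl = 𝟙 _ := by
    change (𝟙 X : X ⟶ X).app (reg g) ≫ X.presheaf.map _ = 𝟙 _
    rw [Scheme.Hom.id_app]
    exact X.presheaf.map_id _
  exact congr($(h1).hom a)

theorem restrict_chart [QuasiSeparatedSpace X] {A B : E.Opens} (hA : IsAffineOpen A) (hB : IsAffineOpen B)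
    [Nonempty B] (hBA : B ≤ A) {V V' : X.Opens} {e : X.functionField}
    (hC : IsChart (ff f) (O A) (f ⁻¹ᵁ A) V V' e) (hVV' : IsAffineOpen (V ⊓ V')) :
    IsChart (ff f) (O B) (f ⁻¹ᵁ B) (V ⊓ f ⁻¹ᵁ B) (V' ⊓ f ⁻¹ᵁ B) e := by
  have h1 := ChartBC.isChart_baseChange (IsPullback.of_horiz_isIso ⟨by simp⟩ :
    IsPullback (𝟙 X) f f (𝟙 E)) hA hC hVV' hB (by simpa using hBA)
  rw [ff_id] at h1
  exact h1

theorem exists_unit {B : E.Opens} {V V' V₁ V₁' : X.Opens} {e e₁ : X.functionField}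
    (hC : IsChart (ff f) (O B) (f ⁻¹ᵁ B) V V' e) (hC₁ : IsChart (ff f) (O B) (f ⁻¹ᵁ B) V₁ V₁' e₁) :
    ∃ w : E.functionField, w ≠ 0 ∧ w ∈ O B ∧ w⁻¹ ∈ O B ∧ Rel V₁ V₁' V V' e₁ (-(ff f w * e)) := by
  have := hC.ne
  have := hC.ne'
  have := hC₁.ne
  have := hC₁.ne'
  have hcc : V₁ ⊔ V₁' = V ⊔ V' := hC₁.cover.trans hC.cover.symm
  have key : ∀ {V V' V₁ V₁' : X.Opens} {e e₁ : X.functionField}
      (hC : IsChart (ff f) (O B) (f ⁻¹ᵁ B) V V' e) (hC₁ : IsChart (ff f) (O B) (f ⁻¹ᵁ B) V₁ V₁' e₁),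
      ∃ r ∈ O B, Rel V₁ V₁' V V' e₁ (ff f r * e) := by
    intro V V' V₁ V₁' e e₁ hC hC₁
    have := hC.ne
    have := hC.ne'
    have := hC₁.ne
    have := hC₁.ne'
    have hcc : V ⊔ V' = V₁ ⊔ V₁' := hC.cover.trans hC₁.cover.symm
    obtain ⟨d, hd, hrel⟩ := exists_rel (U := V₁) (U' := V₁') hC.aff hC.aff' (hcc ▸ le_sup_left)
      (hcc ▸ le_sup_right) hC₁.he
    obtain ⟨r, hr, a, ha, b, hb, hrab⟩ := hC.gen d hd
    have h2 := (Rel.left_split (V := V₁) (V' := V₁') ha hb).symm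
    have h3 := hrel.sub h2
    rw [sub_zero, hrab, add_sub_cancel_right] at h3
    exact ⟨r, hr, h3⟩
  obtain ⟨r, hr, H1⟩ := key hC hC₁
  obtain ⟨r', hr', H2⟩ := key hC₁ hC
  have hVB : V ≤ f ⁻¹ᵁ B := hC.cover ▸ le_sup_left
  have hVB' : V' ≤ f ⁻¹ᵁ B := hC.cover ▸ le_sup_right
  have H3 := H1.trans (H2.mul (O_mono hVB (ff_mem f hr)) (O_mono hVB' (ff_mem f hr)))
    (hcc ▸ le_sup_left) (hcc ▸ le_sup_right)
  obtain ⟨s, h1, -, -, h4⟩ := H3
  rw [inf_idem] at h1 h4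
  have h5 := hC₁.free (1 - r * r') (sub_mem (one_mem _) (mul_mem hr hr')) s h1 _ h4
    (by rw [map_sub, map_one, map_mul]; ring)
  have h6 : r * r' = 1 := by linear_combination -h5
  have hr0 : r ≠ 0 := left_ne_zero_of_mul_eq_one h6
  refine ⟨-r, neg_ne_zero.mpr hr0, neg_mem hr, ?_, ?_⟩
  · have h7 : (-r)⁻¹ = -r' := by
      rw [inv_neg, ← eq_inv_of_mul_eq_one_right h6]
    rw [h7]
    exact neg_mem hr'
  · rw [map_neg, neg_mul, neg_neg]
    exact H1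

end AtlasAux

/-- Two charts covering the base, with the comparison unit. -/
structure Atlas {X E : Scheme.{u}} [IsIntegral X] [IsIntegral E] (f : X ⟶ E) [IsDominant f]
    (A A₁ : E.Opens) (V V' V₁ V₁' : X.Opens) (e e₁ : X.functionField) (w : E.functionField) : Prop where
  affA : IsAffineOpen A
  affA₁ : IsAffineOpen A₁
  neA : Nonempty A
  neA₁ : Nonempty A₁
  cover : A ⊔ A₁ = ⊤
  chart : IsChart (ff f) (O A) (f ⁻¹ᵁ A) V V' e
  chart₁ : IsChart (ff f) (O A₁) (f ⁻¹ᵁ A₁) V₁ V₁' e₁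
  chartB : IsChart (ff f) (O (A ⊓ A₁)) (f ⁻¹ᵁ (A ⊓ A₁)) (V ⊓ f ⁻¹ᵁ (A ⊓ A₁)) (V' ⊓ f ⁻¹ᵁ (A ⊓ A₁)) e
  affV : IsAffineOpen (V ⊓ V')
  affV₁ : IsAffineOpen (V₁ ⊓ V₁')
  w0 : w ≠ 0
  hw : w ∈ O (A ⊓ A₁)
  hw' : w⁻¹ ∈ O (A ⊓ A₁)
  rel : Rel (V₁ ⊓ f ⁻¹ᵁ (A ⊓ A₁)) (V₁' ⊓ f ⁻¹ᵁ (A ⊓ A₁)) (V ⊓ f ⁻¹ᵁ (A ⊓ A₁))
      (V' ⊓ f ⁻¹ᵁ (A ⊓ A₁)) e₁ (-(ff f w * e))

variable {k : Type u} [Field k] [IsAlgClosed k] {X E : Scheme.{u}}
    [X.Over (Spec (CommRingCat.of k))] [E.Over (Spec (CommRingCat.of k))] {f : X ⟶ E}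

theorem exists_atlas (h : Setup k f) (hproj : ∃ H : X.Modules, CohB1.IsAmple H) [IsIntegral X]
    [IsIntegral E] [IsDominant f] :
    ∃ (A A₁ : E.Opens) (V V' V₁ V₁' : X.Opens) (e e₁ : X.functionField) (w : E.functionField),
      Atlas f A A₁ V V' V₁ V₁' e e₁ w := by
  have := h.isProper
  have := h.isNoetherianX
  have := h.isNoetherianE
  have := h.sepE
  have := h.fibr.proper
  have hj : JacobsonSpace E := LocallyOfFiniteType.jacobsonSpace (E ↘ Spec (CommRingCat.of k))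
  let pt := fun (s : E) (hs : IsClosed ({s} : Set E)) =>
    pointOfClosedPoint (E ↘ Spec (CommRingCat.of k)) s hs
  have hpt : ∀ s hs (y : Spec (CommRingCat.of k)), pt s hs y = s := fun s hs y =>
    pointOfClosedPoint_apply _ _ _ _
  have hpk : ∀ s hs, pt s hs ≫ (E ↘ Spec (CommRingCat.of k)) = 𝟙 _ := fun s hs =>
    pointOfClosedPoint_comp _ _ _
  -- two closed points
  obtain ⟨s₀, -, hs₀⟩ := nonempty_inter_closedPoints (X := E) (Z := Set.univ)
    Set.univ_nonempty isOpen_univ.isLocallyClosed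
  replace hs₀ : IsClosed ({s₀} : Set E) := hs₀
  have hne : (({s₀} : Set E)ᶜ).Nonempty := by
    by_contra hcon
    rw [Set.not_nonempty_iff_eq_empty, Set.compl_empty_iff] at hcon
    have hsub : Subsingleton E := by
      rw [← Set.subsingleton_univ_iff, ← hcon]
      exact Set.subsingleton_singleton
    have h1 : topologicalKrullDim E ≤ 0 := by
      have : Subsingleton (IrreducibleCloseds E) := ⟨fun a b => by
        apply IrreducibleCloseds.ext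
        ext y
        obtain ⟨a', ha'⟩ := a.isIrreducible.nonempty
        obtain ⟨b', hb'⟩ := b.isIrreducible.nonempty
        exact ⟨fun _ => by rw [Subsingleton.elim y b']; exact hb', fun _ => by
          rw [Subsingleton.elim y a']; exact ha'⟩⟩
      exact Order.krullDim_nonpos_of_subsingleton
    rw [h.dimE] at h1
    norm_cast at h1
  obtain ⟨s₁, hs₁ne, hs₁⟩ := nonempty_inter_closedPoints (X := E) hne
    hs₀.isOpen_compl.isLocallyClosed
  replace hs₁ : IsClosed ({s₁} : Set E) := hs₁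
  -- first chart
  let G₀ : E.Opens := ⟨{s₁}ᶜ, hs₁.isOpen_compl⟩
  have hG₀ : G₀ ≠ ⊤ := fun htop => by
    have : s₁ ∈ G₀ := by rw [htop]; trivial
    exact this rfl
  obtain ⟨A, V, V', e, hA, hAG, hxA, hAne, hVV', hC⟩ := ChartEx.exists_chart h hproj
    (fun _ : Unit => pt s₀ hs₀) (fun _ => hpk _ _) hG₀ (fun _ y _ => by
      change pt s₀ hs₀ y ∈ G₀
      rw [hpt]
      exact fun heq => hs₁ne heq.symm)
  -- second chart
  have hAfin : ((A : Set E)ᶜ).Finite := by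
    refine Groth.Agent.Picfga.CurvePts.finite_of_forall_isClosed_singleton A.2.isClosed_compl fun y hy => ?_
    refine Groth.Agent.Picfga.CurvePts.isClosed_singleton_of_dim_le_one h.dimE.le ?_
    rintro rfl
    exact hy (genericPoint_mem A)
  obtain ⟨a, ha, hacl⟩ := nonempty_inter_closedPoints (X := E) (Z := (A : Set E))
    ⟨_, genericPoint_mem A⟩ A.2.isLocallyClosed
  replace hacl : IsClosed ({a} : Set E) := hacl
  let G₁ : E.Opens := ⟨{a}ᶜ, hacl.isOpen_compl⟩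
  have hG₁ : G₁ ≠ ⊤ := fun htop => by
    have : a ∈ G₁ := by rw [htop]; trivial
    exact this rfl
  have := hAfin.to_subtype
  obtain ⟨n, ⟨φ⟩⟩ := Finite.exists_equiv_fin ((A : Set E)ᶜ : Set E)
  have hclz : ∀ z : ((A : Set E)ᶜ : Set E), IsClosed ({(z : E)} : Set E) := fun z => by
    refine Groth.Agent.Picfga.CurvePts.isClosed_singleton_of_dim_le_one h.dimE.le ?_
    intro h0
    exact z.2 (by rw [h0]; exact genericPoint_mem A)
  have hn : Nonempty (Fin n) := by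
    have h1 : s₁ ∈ ((A : Set E)ᶜ : Set E) := fun hs => hAG hs rfl
    exact ⟨φ ⟨s₁, h1⟩⟩
  obtain ⟨A₁, V₁, V₁', e₁, hA₁, -, hxA₁, hA₁ne, hVV₁', hC₁⟩ := ChartEx.exists_chart h hproj
    (fun j : Fin n => pt (φ.symm j).1 (hclz _)) (fun _ => hpk _ _) hG₁ (fun j y _ => by
      change pt _ _ y ∈ G₁
      rw [hpt]
      intro heq
      exact (φ.symm j).2 (by rw [Set.mem_singleton_iff.mp heq]; exact ha))
  have hcov : A ⊔ A₁ = ⊤ := by
    rw [eq_top_iff]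
    intro y _
    by_cases hy : y ∈ A
    · exact Or.inl hy
    · right
      obtain ⟨p⟩ : Nonempty (Spec (CommRingCat.of k)) := inferInstance
      have h1 := hxA₁ (φ ⟨y, hy⟩) (x := p) trivial
      change pt _ _ p ∈ A₁ at h1
      rw [hpt, Equiv.symm_apply_apply] at h1
      exact h1
  have hB : IsAffineOpen (A ⊓ A₁) := hA.inf hA₁
  have hBne := nonempty_inf A A₁
  have hCB := AtlasAux.restrict_chart hA hB inf_le_left hC hVV'
  have hCB₁ := AtlasAux.restrict_chart hA₁ hB inf_le_right hC₁ hVV₁'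
  obtain ⟨w, hw0, hw, hw', hrel⟩ := AtlasAux.exists_unit hCB hCB₁
  exact ⟨A, A₁, V, V', V₁, V₁', e, e₁, w, hA, hA₁, hAne, hA₁ne, hcov, hC, hC₁, hCB, hVV', hVV₁', hw0,
    hw, hw', hrel⟩

end K857
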