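import Groth.Agent.Biell.K857.Global2

/-!
# Change of chart for the global short Weierstrass coordinates
-/

set_option autoImplicit false
universe u

open CategoryTheory CategoryTheory.Limits AlgebraicGeometry TopologicalSpace Opposite
open Groth.Agent.Picfga.RegLocus
open K857.OReg K857.WeiField K857.EqnGeo K857.LD

namespace K857.Global

variable {X S Z Y : Scheme.{u}} [IsIntegral X] [IsIntegral S] [IsIntegral Z] [IsIntegral Y]
variable {f : X ⟶ S} {g : Z ⟶ S} {p : Y ⟶ X} {q : Y ⟶ Z} {δ : Z ⟶ Y} [IsDominant f] [IsDominant p]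
    [IsDominant q] {A A₁ : S.Opens} {V V' V₁ V₁' : X.Opens} {e e₁ : X.functionField} {Δc : Y.Opens}

theorem _root_.K857.OReg.Rel.pull {X Y : Scheme.{u}} [IsIntegral X] [IsIntegral Y] (p : Y ⟶ X)
    [IsDominant p] {U U' V V' : X.Opens} {t d : X.functionField} (h : Rel U U' V V' t d) :
    Rel (p ⁻¹ᵁ U) (p ⁻¹ᵁ U') (p ⁻¹ᵁ V) (p ⁻¹ᵁ V') (ff p t) (ff p d) := by
  obtain ⟨s, h1, h2, h3, h4⟩ := h
  refine ⟨ff p s, ff_mem p h1, ?_, ?_, ?_⟩
  · have := ff_mem p h2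
    rwa [map_add] at this
  · have := ff_mem p h3
    rwa [map_add] at this
  · have := ff_mem p h4
    rwa [map_add, map_add] at this

variable [IsDominant g]

/-- Change of the chart. -/
theorem Nor.change (hS : Sit f g p q δ A V V' e Δc) {W : Z.Opens} {U : Y.Opens} {z : Y.functionField}
    (h : Nor q p δ V V' e Δc W U z) (hWA : W ≤ g ⁻¹ᵁ A) (hWA₁ : W ≤ g ⁻¹ᵁ A₁) {w : S.functionField}
    (hw0 : w ≠ 0) (hw : w ∈ O (A ⊓ A₁)) (hw' : w⁻¹ ∈ O (A ⊓ A₁))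
    (hrel : Rel (V₁ ⊓ f ⁻¹ᵁ (A ⊓ A₁)) (V₁' ⊓ f ⁻¹ᵁ (A ⊓ A₁)) (V ⊓ f ⁻¹ᵁ (A ⊓ A₁))
      (V' ⊓ f ⁻¹ᵁ (A ⊓ A₁)) e₁ (-(ff f w * e))) :
    Nor q p δ V₁ V₁' e₁ Δc W U (ff q (ff g w)⁻¹ * z) := by
  have hWB : W ≤ g ⁻¹ᵁ (A ⊓ A₁) := fun x hx => ⟨hWA hx, hWA₁ hx⟩
  have hgw : ff g w ∈ O W := O_mono hWB (ff_mem g hw)
  have hgw' : (ff g w)⁻¹ ∈ O W := by
    rw [← map_inv₀]
    exact O_mono hWB (ff_mem g hw')
  have hgw0 : ff g w ≠ 0 := (map_ne_zero _).mpr hw0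
  have hpq : ff p (ff f w) = ff q (ff g w) := by
    have hdom : IsDominant (p ≫ f) := inferInstance
    have e1 := ff_comp p f w
    have key : ∀ (m m' : Y ⟶ S) (_ : IsDominant m) (_ : IsDominant m'), m = m' → ff m w = ff m' w := by
      rintro m m' _ _ rfl; rfl
    have hdom' : IsDominant (q ≫ g) := by rw [← hS.hc.w]; exact hdom
    rw [← e1, ← ff_comp q g w]
    exact key _ _ _ _ hS.hc.w
  have := h.neU
  obtain ⟨hU, hU'⟩ := h.nonempty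
  obtain ⟨z', hD, hz⟩ := h.dat
  have hWne := hD.ne
  obtain ⟨s, hs⟩ := exists_sec hgw'
  obtain ⟨s', hs'⟩ := exists_sec hgw
  have hss : s * s' = 1 := by
    apply Z.germToFunctionField_injective W
    rw [map_mul, hs, hs', inv_mul_cancel₀ hgw0, map_one]
  let c := q.appLE W U hD.le s
  let c' := q.appLE W U hD.le s'
  have hcc : c * c' = 1 := by
    change q.appLE W U hD.le s * q.appLE W U hD.le s' = 1
    rw [← map_mul, hss, map_one]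
  have hc : Y.germToFunctionField U c = ff q (ff g w)⁻¹ := by
    rw [← hs]; exact (ff_germ_appLE q W U hD.le s).symm
  refine ⟨inferInstance, ⟨c * z', ⟨hD.affW, hD.affU, hD.pre, hD.le, hD.ne, ?_, ?_⟩, ?_⟩, ?_⟩
  · intro h0
    apply hD.z0
    calc z' = (c * c') * z' := by rw [hcc, one_mul]
      _ = c' * (c * z') := by ring
      _ = 0 := by rw [h0, mul_zero]
  · rw [hD.ideal]
    apply le_antisymm
    · rw [Ideal.span_singleton_le_span_singleton]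
      exact ⟨c', by rw [mul_assoc, mul_comm z', ← mul_assoc, hcc, one_mul]⟩
    · rw [Ideal.span_singleton_le_span_singleton]
      exact ⟨c, mul_comm _ _⟩
  · rw [map_mul, hc]
    exact congrArg _ hz
  · have hqA : q ⁻¹ᵁ W ≤ p ⁻¹ᵁ f ⁻¹ᵁ (A ⊓ A₁) := by
      intro y hy
      have h1 : g (q y) ∈ A ⊓ A₁ := hWB hy
      have h2 : f (p y) = g (q y) := by
        rw [← Scheme.Hom.comp_apply, ← Scheme.Hom.comp_apply, hS.hc.w]
      change f (p y) ∈ A ⊓ A₁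
      rw [h2]; exact h1
    have hcov : q ⁻¹ᵁ W ≤ (p ⁻¹ᵁ V ⊓ q ⁻¹ᵁ W) ⊔ (p ⁻¹ᵁ V' ⊓ q ⁻¹ᵁ W) := by
      intro y hy
      have h1 : p y ∈ f ⁻¹ᵁ A := (hqA hy).1
      rw [← hS.hC.cover] at h1
      rcases h1 with h1 | h1
      · left; exact ⟨h1, hy⟩
      · right; exact ⟨h1, hy⟩
    have h1 := Rel.mul (r := ff q (ff g w)) (O_mono inf_le_left (ff_mem q hgw))
      (O_mono hD.le (ff_mem q hgw)) h.rel
    have h2 := (hrel.pull p).symm.neg
    have h3 : Rel (p ⁻¹ᵁ V ⊓ q ⁻¹ᵁ W) (p ⁻¹ᵁ V' ⊓ q ⁻¹ᵁ W) (p ⁻¹ᵁ V₁ ⊓ q ⁻¹ᵁ W) (p ⁻¹ᵁ V₁' ⊓ q ⁻¹ᵁ W)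
        (ff q (ff g w) * ff p e) (- ff p e₁) := by
      have : -ff p (-(ff f w * e)) = ff q (ff g w) * ff p e := by
        rw [map_neg, neg_neg, map_mul, hpq]
      rw [this] at h2
      refine h2.mono ?_ ?_ ?_ ?_
      · exact fun y hy => ⟨hy.1, hqA hy.2⟩
      · exact fun y hy => ⟨hy.1, hqA hy.2⟩
      · exact fun y hy => ⟨hy.1, hqA hy.2⟩
      · exact fun y hy => ⟨hy.1, hqA hy.2⟩
    have h4 := h1.trans h3 (inf_le_left.trans hcov) (hD.le.trans hcov)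
    unfold Cls
    rw [map_one, one_mul]
    convert h4 using 1
    · rw [mul_inv, map_inv₀, inv_inv]
    · rw [neg_neg]

end K857.Global
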