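import Mathlib.RingTheory.Flat.Basic
import Mathlib.RingTheory.IsTensorProduct
import Mathlib.LinearAlgebra.TensorProduct.Prod

/-!
# Flat base change of a two-term Cech complex
-/

set_option autoImplicit false
universe u v

namespace K857.ChartAlg

open TensorProduct

variable {A R : Type u} [CommRing A] [CommRing R] [Algebra A R]
  {C C' C'' P P' P'' : Type u} [AddCommGroup C] [AddCommGroup C'] [AddCommGroup C'']
  [AddCommGroup P] [AddCommGroup P'] [AddCommGroup P''] [Module A C] [Module A C'] [Module A C'']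
  [Module R P] [Module R P'] [Module R P''] [Module A P] [Module A P'] [Module A P'']
  [IsScalarTower A R P] [IsScalarTower A R P'] [IsScalarTower A R P'']
  {l : C →ₗ[A] P} {l' : C' →ₗ[A] P'} {l'' : C'' →ₗ[A] P''}
  (hl : IsBaseChange R l) (hl' : IsBaseChange R l') (hl'' : IsBaseChange R l'')
  (i : C →ₗ[A] C'') (i' : C' →ₗ[A] C'') (j : P →ₗ[R] P'') (j' : P' →ₗ[R] P'')
  (hj : ∀ c, j (l c) = l'' (i c)) (hj' : ∀ c, j' (l' c) = l'' (i' c))

include hj hj' in
theorem comp_eq (t : R ⊗[A] (C × C')) :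
    hl''.equiv ((i.coprod (-i')).lTensor R t) =
      j (hl.equiv ((TensorProduct.prodRight A R R C C' t).1)) -
        j' (hl'.equiv ((TensorProduct.prodRight A R R C C' t).2)) := by
  induction t using TensorProduct.induction_on with
  | zero => simp
  | tmul r c =>
    obtain ⟨c, c'⟩ := c
    simp only [LinearMap.lTensor_tmul, LinearMap.coprod_apply, LinearMap.neg_apply,
      IsBaseChange.equiv_tmul, TensorProduct.prodRight_tmul, map_smul, hj, hj', map_add, map_neg,
      smul_add, smul_neg]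
    abel
  | add a b ha hb =>
    simp only [map_add, ha, hb, Prod.fst_add, Prod.snd_add]
    abel

include hl hl' hl'' hj hj' in
theorem exists_of_eq [Module.Flat A R] (u : A →ₗ[A] C) (u' : A →ₗ[A] C')
    (hex : ∀ c c', i c = i' c' ↔ ∃ a, u a = c ∧ u' a = c') (p : P) (p' : P') (h : j p = j' p') :
    ∃ r : R, p = r • l (u 1) ∧ p' = r • l' (u' 1) := by
  have hE : Function.Exact (u.prod u') (i.coprod (-i')) := by
    rintro ⟨c, c'⟩
    simp only [LinearMap.coprod_apply, LinearMap.neg_apply, ← sub_eq_add_neg, sub_eq_zero,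
      Set.mem_range]
    refine (hex c c').trans (exists_congr fun a => ?_)
    exact (Prod.mk.injEq _ _ _ _).symm ▸ Iff.rfl
  have hE' := Module.Flat.lTensor_exact (M := R) hE
  let t : R ⊗[A] (C × C') := (TensorProduct.prodRight A R R C C').symm
    (hl.equiv.symm p, hl'.equiv.symm p')
  have ht : TensorProduct.prodRight A R R C C' t = (hl.equiv.symm p, hl'.equiv.symm p') :=
    LinearEquiv.apply_symm_apply _ _
  have h0 : (i.coprod (-i')).lTensor R t = 0 := by
    apply hl''.equiv.injective
    rw [comp_eq hl hl' hl'' i i' j j' hj hj', ht, map_zero]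
    simp [h]
  obtain ⟨s, hs⟩ := (hE' t).1 h0
  obtain ⟨r, hr⟩ : ∃ r : R, s = r ⊗ₜ (1 : A) := by
    refine ⟨TensorProduct.rid A R s, ?_⟩
    exact ((TensorProduct.rid A R).symm_apply_apply s).symm
  have h1 : t = r ⊗ₜ[A] ((u 1, u' 1) : C × C') := by
    rw [← hs, hr]; simp
  rw [h1] at ht
  simp only [TensorProduct.prodRight_tmul, Prod.mk.injEq] at ht
  refine ⟨r, ?_, ?_⟩
  · rw [← hl.equiv_tmul, ht.1, LinearEquiv.apply_symm_apply]
  · rw [← hl'.equiv_tmul, ht.2, LinearEquiv.apply_symm_apply]

include hl hl' hl'' hj hj' in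
/-- The generator and its freeness after base change. -/
theorem free_of (e : C'') (hgen : ∀ d : C'', ∃ (a : A) (c : C) (c' : C'), d = a • e + (i' c' - i c))
    (hfree : ∀ (a : A) (c : C) (c' : C'), a • e = i' c' - i c → a = 0)
    (r : R) (p : P) (p' : P') (h : r • l'' e = j' p' - j p) : r = 0 := by
  -- the coefficient map
  have huniq : ∀ (a b : A) (c d : C) (c' d' : C'), a • e + (i' c' - i c) = b • e + (i' d' - i d) →
      a = b := by
    intro a b c d c' d' hab
    have := hfree (a - b) (d - c) (d' - c') (by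
      rw [sub_smul, map_sub, map_sub]
      have h2 := sub_eq_zero.mpr hab
      rw [← sub_eq_zero, ← h2]; abel)
    exact sub_eq_zero.mp this
  choose co x y hxy using hgen
  let φ : C'' →ₗ[A] A :=
    { toFun := co
      map_add' := fun d d' => huniq _ _ (x (d + d')) (x d + x d') (y (d + d')) (y d + y d') (by
        rw [← hxy, add_smul, map_add, map_add]
        conv_lhs => rw [hxy d, hxy d']
        abel)
      map_smul' := fun a d => huniq _ _ (x (a • d)) (a • x d) (y (a • d)) (a • y d) (by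
        rw [← hxy, smul_eq_mul, mul_smul, map_smul, map_smul]
        conv_lhs => rw [hxy d]
        simp only [RingHom.id_apply, smul_add, smul_sub]) }
  have hφ : ∀ d, φ d • e + (i' (y d) - i (x d)) = d := fun d => (hxy d).symm
  have hφe : φ e = 1 := huniq _ _ (x e) 0 (y e) 0 (by rw [hφ]; simp)
  have hφi : ∀ c, φ (i c) = 0 := fun c => huniq _ _ (x (i c)) (-c) (y (i c)) 0 (by
    rw [hφ]; simp)
  have hφi' : ∀ c, φ (i' c) = 0 := fun c => huniq _ _ (x (i' c)) 0 (y (i' c)) c (by
    rw [hφ]; simp)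
  let ψ : P'' →ₗ[R] R := hl''.lift ((Algebra.linearMap A R).comp φ)
  have hψ : ∀ d, ψ (l'' d) = algebraMap A R (φ d) := fun d => hl''.lift_eq _ d
  have h1 : ψ ∘ₗ j = 0 := hl.algHom_ext _ _ (fun c => by simp [hj, hψ, hφi])
  have h2 : ψ ∘ₗ j' = 0 := hl'.algHom_ext _ _ (fun c => by simp [hj', hψ, hφi'])
  have h3 := congrArg ψ h
  rw [map_smul, hψ, hφe, map_one, smul_eq_mul, mul_one, map_sub] at h3
  have h4 : ψ (j' p') = 0 := LinearMap.congr_fun h2 p'
  have h5 : ψ (j p) = 0 := LinearMap.congr_fun h1 p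
  rw [h3, h4, h5, sub_zero]

end K857.ChartAlg
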