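import Groth.Agent.Biell.K857.ChartAlg
import Mathlib.Algebra.Category.Ring.Constructions
import Mathlib.RingTheory.RingHom.Flat

/-!
# Flat base change of a two-term Cech complex of rings
-/

set_option autoImplicit false
universe u

open CategoryTheory CategoryTheory.Limits

namespace K857.ChartRing

variable {A R C C' C'' P P' P'' : CommRingCat.{u}}
  {a : A ⟶ C} {a' : A ⟶ C'} {i : C ⟶ C''} {i' : C' ⟶ C''} {φ : A ⟶ R}
  {l : C ⟶ P} {b : R ⟶ P} {l' : C' ⟶ P'} {b' : R ⟶ P'} {l'' : C'' ⟶ P''} {b'' : R ⟶ P''}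
  {j : P ⟶ P''} {j' : P' ⟶ P''}

/-- every element of a pushout is a sum of products -/
theorem induction {a'' : A ⟶ C''} (H : IsPushout a'' φ l'' b'') (motive : P'' → Prop)
    (h0 : motive 0) (hadd : ∀ x y, motive x → motive y → motive (x + y))
    (hmul : ∀ c r, motive (l'' c * b'' r)) (x : P'') : motive x := by
  algebraize [a''.hom, φ.hom, l''.hom, b''.hom, (a'' ≫ l'').hom]
  have hw : a'' ≫ l'' = φ ≫ b'' := H.w
  have t1 : IsScalarTower A C'' P'' := .of_algebraMap_eq fun x => rfl
  have t2 : IsScalarTower A R P'' := .of_algebraMap_eq fun x => congr($(hw).hom x)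
  have h1 : Algebra.IsPushout A R C'' P'' := by
    rw [← CommRingCat.isPushout_iff_isPushout]
    exact H.flip
  have key : ∀ s : R, motive (b'' s * x) := by
    refine h1.out.inductionOn x (fun x => ∀ s : R, motive (b'' s * x)) ?_ ?_ ?_ ?_
    · intro s; rw [mul_zero]; exact h0
    · intro m s
      rw [mul_comm]
      exact hmul m s
    · intro s n hn t
      have : b'' t * (s • n) = b'' (t * s) * n := by
        rw [Algebra.smul_def, map_mul, mul_assoc]; rfl
      rw [this]; exact hn _
    · intro n₁ n₂ h₁ h₂ s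
      rw [mul_add]; exact hadd _ _ (h₁ s) (h₂ s)
  have := key 1
  rwa [map_one, one_mul] at this

theorem gen (H'' : IsPushout (a ≫ i) φ l'' b'')
    (hj : l ≫ j = i ≫ l'') (hj' : l' ≫ j' = i' ≫ l'') (hb : b ≫ j = b'') (hb' : b' ≫ j' = b'')
    (e : C'') (hgen : ∀ d : C'', ∃ (α : A) (c : C) (c' : C'), d = (a ≫ i) α * e + (i' c' - i c))
    (d : P'') : ∃ (r : R) (p : P) (p' : P'), d = b'' r * l'' e + (j' p' - j p) := by
  refine induction H'' (fun d => ∃ (r : R) (p : P) (p' : P'), d = b'' r * l'' e + (j' p' - j p))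
    ⟨0, 0, 0, by simp⟩ ?_ ?_ d
  · rintro x y ⟨r, p, p', rfl⟩ ⟨s, q, q', rfl⟩
    exact ⟨r + s, p + q, p' + q', by simp only [map_add]; ring⟩
  · intro c r
    obtain ⟨α, x, x', hc⟩ := hgen c
    refine ⟨φ α * r, l x * b r, l' x' * b' r, ?_⟩
    have h1 : l'' ((a ≫ i) α) = b'' (φ α) := congr($(H''.w).hom α)
    have h2 : j (l x) = l'' (i x) := congr($(hj).hom x)
    have h3 : j' (l' x') = l'' (i' x') := congr($(hj').hom x')
    have h4 : j (b r) = b'' r := congr($(hb).hom r)
    have h5 : j' (b' r) = b'' r := congr($(hb').hom r)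
    rw [hc]
    simp only [map_add, map_sub, map_mul, h2, h3, h4, h5]
    rw [h1]
    ring

theorem free (hai : a ≫ i = a' ≫ i')
    (H : IsPushout a φ l b) (H' : IsPushout a' φ l' b') (H'' : IsPushout (a ≫ i) φ l'' b'')
    (hj : l ≫ j = i ≫ l'') (hj' : l' ≫ j' = i' ≫ l'') (hb : b ≫ j = b'') (hb' : b' ≫ j' = b'')
    (e : C'') (hgen : ∀ d : C'', ∃ (α : A) (c : C) (c' : C'), d = (a ≫ i) α * e + (i' c' - i c))
    (hfree : ∀ (α : A) (c : C) (c' : C'), (a ≫ i) α * e = i' c' - i c → α = 0)
    (r : R) (p : P) (p' : P') (h : b'' r * l'' e = j' p' - j p) : r = 0 := by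
  algebraize [a.hom, a'.hom, (a ≫ i).hom, φ.hom, l.hom, l'.hom, l''.hom, b.hom, b'.hom, b''.hom,
    (a ≫ l).hom, (a' ≫ l').hom, ((a ≫ i) ≫ l'').hom]
  have t1 : IsScalarTower A C P := .of_algebraMap_eq fun x => rfl
  have t2 : IsScalarTower A R P := .of_algebraMap_eq fun x => congr($(H.w).hom x)
  have t1' : IsScalarTower A C' P' := .of_algebraMap_eq fun x => rfl
  have t2' : IsScalarTower A R P' := .of_algebraMap_eq fun x => congr($(H'.w).hom x)
  have t1'' : IsScalarTower A C'' P'' := .of_algebraMap_eq fun x => rfl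
  have t2'' : IsScalarTower A R P'' := .of_algebraMap_eq fun x => congr($(H''.w).hom x)
  have h1 : Algebra.IsPushout A R C P := by
    rw [← CommRingCat.isPushout_iff_isPushout]; exact H.flip
  have h1' : Algebra.IsPushout A R C' P' := by
    rw [← CommRingCat.isPushout_iff_isPushout]; exact H'.flip
  have h1'' : Algebra.IsPushout A R C'' P'' := by
    rw [← CommRingCat.isPushout_iff_isPushout]; exact H''.flip
  let iL : C →ₗ[A] C'' := { i.hom with
    map_smul' := fun r x => by
      simp only [Algebra.smul_def]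
      change i (a r * x) = (a ≫ i) r * i x
      rw [map_mul]; rfl }
  let iL' : C' →ₗ[A] C'' := { i'.hom with
    map_smul' := fun r x => by
      simp only [Algebra.smul_def]
      change i' (a' r * x) = (a ≫ i) r * i' x
      rw [map_mul, hai]; rfl }
  let jL : P →ₗ[R] P'' := { j.hom with
    map_smul' := fun r x => by
      simp only [Algebra.smul_def]
      change j (b r * x) = b'' r * j x
      rw [map_mul, ← hb]; rfl }
  let jL' : P' →ₗ[R] P'' := { j'.hom with
    map_smul' := fun r x => by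
      simp only [Algebra.smul_def]
      change j' (b' r * x) = b'' r * j' x
      rw [map_mul, ← hb']; rfl }
  refine ChartAlg.free_of h1.out h1'.out h1''.out iL iL' jL jL' ?_ ?_ e ?_ ?_ r p p' ?_
  · intro c; exact congr($(hj).hom c)
  · intro c; exact congr($(hj').hom c)
  · intro d
    obtain ⟨α, c, c', hd⟩ := hgen d
    exact ⟨α, c, c', by rw [Algebra.smul_def]; exact hd⟩
  · intro α c c' h
    rw [Algebra.smul_def] at h
    exact hfree α c c' h
  · rw [Algebra.smul_def]; exact h

end K857.ChartRing
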