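import Groth.Agent.Biell.K857.OReg
import Mathlib.AlgebraicGeometry.Morphisms.UnderlyingMap

/-!
# Maps of function fields along dominant morphisms, and rings of regular functions
-/

set_option autoImplicit false
universe u

open CategoryTheory CategoryTheory.Limits AlgebraicGeometry TopologicalSpace Opposite
open Groth.Agent.Picfga.RegLocus

namespace K857.OReg

variable {X Y Z : Scheme.{u}} [IsIntegral X] [IsIntegral Y] [IsIntegral Z]

theorem map_genericPoint (q : Y ⟶ X) [IsDominant q] : q (genericPoint Y) = genericPoint X := by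
  have h := (genericPoint_spec Y).image q.continuous
  have h2 : IsGenericPoint (q (genericPoint Y)) (⊤ : Set X) := by
    rw [Set.image_univ, q.denseRange.closure_range] at h
    exact h
  exact h2.eq (genericPoint_spec X)

/-- the homomorphism of function fields of a dominant morphism -/
noncomputable def ff (q : Y ⟶ X) [IsDominant q] : X.functionField →+* Y.functionField :=
  (X.presheaf.stalkSpecializes (specializes_of_eq (map_genericPoint q)) ≫
    q.stalkMap (genericPoint Y)).hom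

theorem nonempty_preimage (q : Y ⟶ X) [IsDominant q] (U : X.Opens) [Nonempty U] :
    Nonempty (q ⁻¹ᵁ U : Y.Opens) :=
  ⟨⟨genericPoint Y, by
    change q (genericPoint Y) ∈ U
    rw [map_genericPoint]; exact genericPoint_mem U⟩⟩

theorem ff_germ (q : Y ⟶ X) [IsDominant q] (U : X.Opens) [Nonempty U]
    [Nonempty (q ⁻¹ᵁ U : Y.Opens)] (a : Γ(X, U)) :
    ff q (X.germToFunctionField U a) = Y.germToFunctionField (q ⁻¹ᵁ U) (q.app U a) := by
  have h1 : X.germToFunctionField U ≫ (X.presheaf.stalkSpecializes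
      (specializes_of_eq (map_genericPoint q)) ≫ q.stalkMap (genericPoint Y)) =
      q.app U ≫ Y.germToFunctionField (q ⁻¹ᵁ U) := by
    rw [Scheme.germToFunctionField, TopCat.Presheaf.germ_stalkSpecializes_assoc,
      Scheme.Hom.germ_stalkMap]
  exact congr($(h1).hom a)

theorem ff_germ_appLE (q : Y ⟶ X) [IsDominant q] (U : X.Opens) [Nonempty U]
    (V : Y.Opens) [Nonempty V] (h : V ≤ q ⁻¹ᵁ U) (a : Γ(X, U)) :
    ff q (X.germToFunctionField U a) = Y.germToFunctionField V (q.appLE U V h a) := by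
  have := nonempty_preimage q U
  rw [ff_germ, Scheme.Hom.appLE]
  exact (germ_rs h _).symm

theorem ff_mem (q : Y ⟶ X) [IsDominant q] {U : X.Opens} {g : X.functionField} (hg : g ∈ O U) :
    ff q g ∈ O (q ⁻¹ᵁ U) := by
  by_cases hU : Nonempty U
  · obtain ⟨a, rfl⟩ := exists_sec hg
    have := nonempty_preimage q U
    rw [ff_germ]
    exact germ_mem _
  · intro x hx
    exact (hU ⟨⟨_, hx⟩⟩).elim

theorem ff_comp (p : Z ⟶ Y) (q : Y ⟶ X) [IsDominant p] [IsDominant q] [IsDominant (p ≫ q)]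
    (g : X.functionField) : ff (p ≫ q) g = ff p (ff q g) := by
  have hg : g ∈ O (reg g) := fun _ hx => hx
  obtain ⟨a, ha⟩ := exists_sec hg
  have h1 := nonempty_preimage q (reg g)
  have h2 := nonempty_preimage p (q ⁻¹ᵁ reg g)
  have h3 : p ⁻¹ᵁ q ⁻¹ᵁ reg g ≤ (p ≫ q) ⁻¹ᵁ reg g := fun x hx => hx
  rw [← ha, ff_germ_appLE q (reg g) (q ⁻¹ᵁ reg g) le_rfl,
    ff_germ_appLE p (q ⁻¹ᵁ reg g) (p ⁻¹ᵁ q ⁻¹ᵁ reg g) le_rfl,
    ff_germ_appLE (p ≫ q) (reg g) (p ⁻¹ᵁ q ⁻¹ᵁ reg g) h3]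
  congr 1
  have h4 := Scheme.Hom.appLE_comp_appLE p q (reg g) (q ⁻¹ᵁ reg g) (p ⁻¹ᵁ q ⁻¹ᵁ reg g) le_rfl le_rfl
  exact congr($(h4.symm).hom a)

theorem ff_injective (q : Y ⟶ X) [IsDominant q] : Function.Injective (ff q) := (ff q).injective

/-! ### Restriction to a closed subscheme -/

/-- the restriction of functions along `δ` -/
noncomputable def pb (δ : X ⟶ Y) (V : Y.Opens) [Nonempty V] [Nonempty (δ ⁻¹ᵁ V : X.Opens)] :
    O V →+* X.functionField :=
  (X.germToFunctionField (δ ⁻¹ᵁ V)).hom.comp ((δ.app V).hom.comp (secEquiv V).symm.toRingHom)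

theorem pb_germ (δ : X ⟶ Y) (V : Y.Opens) [Nonempty V] [Nonempty (δ ⁻¹ᵁ V : X.Opens)]
    (a : Γ(Y, V)) (h : Y.germToFunctionField V a ∈ O V) :
    pb δ V ⟨Y.germToFunctionField V a, h⟩ = X.germToFunctionField (δ ⁻¹ᵁ V) (δ.app V a) := by
  have : (secEquiv V).symm ⟨Y.germToFunctionField V a, h⟩ = a := by
    rw [RingEquiv.symm_apply_eq]; rfl
  change X.germToFunctionField (δ ⁻¹ᵁ V) (δ.app V ((secEquiv V).symm ⟨_, h⟩)) = _
  rw [this]

theorem pb_mem (δ : X ⟶ Y) (V : Y.Opens) [Nonempty V] [Nonempty (δ ⁻¹ᵁ V : X.Opens)] (g : O V) :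
    pb δ V g ∈ O (δ ⁻¹ᵁ V) := germ_mem _

theorem pb_restrict (δ : X ⟶ Y) {V V' : Y.Opens} (hV : V' ≤ V) [Nonempty V]
    [Nonempty (δ ⁻¹ᵁ V : X.Opens)] [Nonempty V'] [Nonempty (δ ⁻¹ᵁ V' : X.Opens)]
    (g : Y.functionField) (h : g ∈ O V) (h' : g ∈ O V') : pb δ V' ⟨g, h'⟩ = pb δ V ⟨g, h⟩ := by
  obtain ⟨a, rfl⟩ := exists_sec h
  have e : Y.germToFunctionField V' (rs hV a) = Y.germToFunctionField V a := germ_rs hV a
  rw [pb_germ]
  have h2 : (⟨Y.germToFunctionField V a, h'⟩ : O V') =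
      ⟨Y.germToFunctionField V' (rs hV a), germ_mem _⟩ := Subtype.ext e.symm
  rw [h2, pb_germ]
  have h3 : δ.app V' (rs hV a) = rs (δ.preimage_mono hV) (δ.app V a) := by
    have := δ.naturality (homOfLE hV).op
    exact congr($(this).hom a)
  rw [h3, germ_rs]

/-- for a section of `q`, restriction inverts pull back -/
theorem pb_ff (q : Y ⟶ X) [IsDominant q] (δ : X ⟶ Y) (hδ : δ ≫ q = 𝟙 X) (V : Y.Opens) [Nonempty V]
    [Nonempty (δ ⁻¹ᵁ V : X.Opens)] (W : X.Opens) (hVW : V ≤ q ⁻¹ᵁ W) (r : X.functionField)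
    (hr : r ∈ O W) (h : ff q r ∈ O V) : pb δ V ⟨ff q r, h⟩ = r := by
  have hW : Nonempty W := ⟨⟨q (genericPoint Y), hVW (genericPoint_mem V)⟩⟩
  obtain ⟨a, rfl⟩ := exists_sec hr
  have e := ff_germ_appLE q W V hVW a
  have h2 : (⟨ff q (X.germToFunctionField W a), h⟩ : O V) =
      ⟨Y.germToFunctionField V (q.appLE W V hVW a), germ_mem _⟩ := Subtype.ext e
  rw [h2, pb_germ]
  have hle : δ ⁻¹ᵁ V ≤ W := by
    intro x hx
    have h1 : q (δ x) ∈ W := hVW hx
    have h3 : q (δ x) = x := by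
      rw [← Scheme.Hom.comp_apply, hδ]; rfl
    rwa [h3] at h1
  have h4 : δ.app V (q.appLE W V hVW a) = rs hle a := by
    have h5 : q.appLE W V hVW ≫ δ.app V = (δ ≫ q).appLE W (δ ⁻¹ᵁ V)
        (by rw [hδ]; exact hle) := by
      rw [Scheme.Hom.app_eq_appLE, Scheme.Hom.appLE_comp_appLE]
    have h6 : (δ ≫ q).appLE W (δ ⁻¹ᵁ V) (by rw [hδ]; exact hle) =
        X.presheaf.map (homOfLE hle).op := by
      simp only [hδ]
      rw [Scheme.Hom.appLE, Scheme.Hom.id_app]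
      rfl
    rw [h6] at h5
    exact congr($(h5).hom a)
  rw [h4, germ_rs]

end K857.OReg
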