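import Groth.Agent.Biell.K857.WeiField
import Groth.Agent.Biell.K857.FF
import Groth.Agent.Biell.K857.ChartRing
import Mathlib.AlgebraicGeometry.Morphisms.Flat

/-!
# Flat base change of a chart
-/

set_option autoImplicit false
universe u

open CategoryTheory CategoryTheory.Limits AlgebraicGeometry TopologicalSpace Opposite
open Groth.Agent.Picfga.RegLocus
open K857.OReg K857.WeiField

namespace K857.ChartBC

variable {X S T Y : Scheme.{u}} {f : X ⟶ S} {g : T ⟶ S} {p : Y ⟶ X} {q : Y ⟶ T}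

/-- Charts of a fibre product. -/
theorem chart (hc : IsPullback p q f g) {A : S.Opens} {V : X.Opens} {W : T.Opens}
    (hA : IsAffineOpen A) (hV : IsAffineOpen V) (hW : IsAffineOpen W) (hVA : V ≤ f ⁻¹ᵁ A)
    (hWA : W ≤ g ⁻¹ᵁ A) {P : Y.Opens} (hP : P = p ⁻¹ᵁ V ⊓ q ⁻¹ᵁ W) :
    IsAffineOpen P ∧
      IsPushout (f.appLE A V hVA) (g.appLE A W hWA) (p.appLE V P (by rw [hP]; exact inf_le_left))
        (q.appLE W P (by rw [hP]; exact inf_le_right)) := by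
  constructor
  · have : IsAffine _ := hA
    have : IsAffine _ := hV
    have : IsAffine _ := hW
    exact .of_isIso (Scheme.Hom.isPullback_resLE hc hWA hVA hP).isoPullback.hom
  · exact (isIso_pushoutSection_iff hc hWA hVA hP).mp
      (isIso_pushoutSection_of_isAffineOpen hc hWA hVA hP hA hW hV)

section

variable [IsIntegral X] [IsIntegral S] [IsIntegral T] [IsIntegral Y] [IsDominant f]
  [IsDominant p] [IsDominant q]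

/-- ring form of the generation statement -/
theorem ring_gen {A : S.Opens} [Nonempty A] {V V' : X.Opens} [Nonempty V] [Nonempty V']
    [Nonempty (V ⊓ V' : X.Opens)] (hVA : V ≤ f ⁻¹ᵁ A) {e : Γ(X, V ⊓ V')}
    (hgen : ∀ d ∈ O (V ⊓ V'), ∃ r ∈ O A, ∃ x ∈ O V, ∃ x' ∈ O V',
      d = ff f r * X.germToFunctionField (V ⊓ V') e + (x' - x)) (d : Γ(X, V ⊓ V')) :
    ∃ (α : Γ(S, A)) (c : Γ(X, V)) (c' : Γ(X, V')),
      d = f.appLE A (V ⊓ V') (inf_le_left.trans hVA) α * e + (rs inf_le_right c' - rs inf_le_left c) := by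
  obtain ⟨r, hr, x, hx, x', hx', h⟩ := hgen _ (germ_mem d)
  obtain ⟨α, rfl⟩ := exists_sec hr
  obtain ⟨c, rfl⟩ := exists_sec hx
  obtain ⟨c', rfl⟩ := exists_sec hx'
  refine ⟨α, c, c', ?_⟩
  apply X.germToFunctionField_injective (V ⊓ V')
  rw [h, map_add, map_mul, map_sub, germ_rs, germ_rs,
    ff_germ_appLE f A (V ⊓ V') (inf_le_left.trans hVA)]

/-- ring form of the freeness statement -/
theorem ring_free {A : S.Opens} [Nonempty A] {V V' : X.Opens} [Nonempty V] [Nonempty V']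
    [Nonempty (V ⊓ V' : X.Opens)] (hVA : V ≤ f ⁻¹ᵁ A) {e : Γ(X, V ⊓ V')}
    (hfree : ∀ r ∈ O A, ∀ x ∈ O V, ∀ x' ∈ O V',
      ff f r * X.germToFunctionField (V ⊓ V') e = x' - x → r = 0)
    (α : Γ(S, A)) (c : Γ(X, V)) (c' : Γ(X, V'))
    (h : f.appLE A (V ⊓ V') (inf_le_left.trans hVA) α * e = rs inf_le_right c' - rs inf_le_left c) :
    α = 0 := by
  have h1 := congrArg (X.germToFunctionField (V ⊓ V')) h
  rw [map_mul, map_sub, germ_rs, germ_rs, ← ff_germ_appLE f A (V ⊓ V')] at h1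
  have := hfree _ (germ_mem α) _ (germ_mem c) _ (germ_mem c') h1
  exact S.germToFunctionField_injective A (by rw [this, map_zero])

variable (hc : IsPullback p q f g)

include hc in
theorem isChart_baseChange [Flat g] [QuasiSeparatedSpace X] {A : S.Opens} (hA : IsAffineOpen A)
    {V V' : X.Opens} {e : X.functionField} (hC : IsChart (ff f) (O A) (f ⁻¹ᵁ A) V V' e)
    (hVV' : IsAffineOpen (V ⊓ V')) {W : T.Opens} (hW : IsAffineOpen W) [Nonempty W]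
    (hWA : W ≤ g ⁻¹ᵁ A) :
    IsChart (ff q) (O W) (q ⁻¹ᵁ W) (p ⁻¹ᵁ V ⊓ q ⁻¹ᵁ W) (p ⁻¹ᵁ V' ⊓ q ⁻¹ᵁ W) (ff p e) := by
  have := hC.ne
  have := hC.ne'
  have hVA : V ≤ f ⁻¹ᵁ A := hC.cover ▸ le_sup_left
  have hV'A : V' ≤ f ⁻¹ᵁ A := hC.cover ▸ le_sup_right
  have hAne : Nonempty A := ⟨⟨_, hVA (genericPoint_mem V)⟩⟩
  have := nonempty_inf V V'
  have := nonempty_preimage p V
  have := nonempty_preimage p V'
  have := nonempty_preimage p (V ⊓ V')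
  have := nonempty_preimage q W
  have := nonempty_inf (p ⁻¹ᵁ V) (q ⁻¹ᵁ W)
  have := nonempty_inf (p ⁻¹ᵁ V') (q ⁻¹ᵁ W)
  have := nonempty_inf (p ⁻¹ᵁ (V ⊓ V')) (q ⁻¹ᵁ W)
  have hqA : q ⁻¹ᵁ W ≤ p ⁻¹ᵁ f ⁻¹ᵁ A := by
    intro y hy
    have h1 : g (q y) ∈ A := hWA hy
    have h2 : f (p y) = g (q y) := by
      rw [← Scheme.Hom.comp_apply, ← Scheme.Hom.comp_apply, hc.w]
    change f (p y) ∈ A
    rw [h2]; exact h1
  obtain ⟨e, rfl⟩ := exists_sec hC.he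
  have c1 := chart hc hA hC.aff hW hVA hWA (P := p ⁻¹ᵁ V ⊓ q ⁻¹ᵁ W) rfl
  have c1' := chart hc hA hC.aff' hW hV'A hWA (P := p ⁻¹ᵁ V' ⊓ q ⁻¹ᵁ W) rfl
  have c1'' := chart hc hA hVV' hW (inf_le_left.trans hVA) hWA
    (P := p ⁻¹ᵁ (V ⊓ V') ⊓ q ⁻¹ᵁ W) rfl
  have hle : p ⁻¹ᵁ (V ⊓ V') ⊓ q ⁻¹ᵁ W ≤ p ⁻¹ᵁ V ⊓ q ⁻¹ᵁ W := inf_le_inf_right _ (fun x hx => hx.1)
  have hle' : p ⁻¹ᵁ (V ⊓ V') ⊓ q ⁻¹ᵁ W ≤ p ⁻¹ᵁ V' ⊓ q ⁻¹ᵁ W := inf_le_inf_right _ (fun x hx => hx.2)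
  have hj : p.appLE V (p ⁻¹ᵁ V ⊓ q ⁻¹ᵁ W) inf_le_left ≫ Y.presheaf.map (homOfLE hle).op =
      X.presheaf.map (homOfLE (inf_le_left : V ⊓ V' ≤ V)).op ≫
        p.appLE (V ⊓ V') (p ⁻¹ᵁ (V ⊓ V') ⊓ q ⁻¹ᵁ W) inf_le_left := by
    rw [Scheme.Hom.appLE_map, Scheme.Hom.map_appLE]
  have hj' : p.appLE V' (p ⁻¹ᵁ V' ⊓ q ⁻¹ᵁ W) inf_le_left ≫ Y.presheaf.map (homOfLE hle').op =
      X.presheaf.map (homOfLE (inf_le_right : V ⊓ V' ≤ V')).op ≫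
        p.appLE (V ⊓ V') (p ⁻¹ᵁ (V ⊓ V') ⊓ q ⁻¹ᵁ W) inf_le_left := by
    rw [Scheme.Hom.appLE_map, Scheme.Hom.map_appLE]
  have hb : q.appLE W (p ⁻¹ᵁ V ⊓ q ⁻¹ᵁ W) inf_le_right ≫ Y.presheaf.map (homOfLE hle).op =
      q.appLE W (p ⁻¹ᵁ (V ⊓ V') ⊓ q ⁻¹ᵁ W) inf_le_right := by
    rw [Scheme.Hom.appLE_map]
  have hb' : q.appLE W (p ⁻¹ᵁ V' ⊓ q ⁻¹ᵁ W) inf_le_right ≫ Y.presheaf.map (homOfLE hle').op =
      q.appLE W (p ⁻¹ᵁ (V ⊓ V') ⊓ q ⁻¹ᵁ W) inf_le_right := by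
    rw [Scheme.Hom.appLE_map]
  have hai : f.appLE A V hVA ≫ X.presheaf.map (homOfLE (inf_le_left : V ⊓ V' ≤ V)).op =
      f.appLE A V' hV'A ≫ X.presheaf.map (homOfLE (inf_le_right : V ⊓ V' ≤ V')).op := by
    rw [Scheme.Hom.appLE_map, Scheme.Hom.appLE_map]
  have hai0 : f.appLE A V hVA ≫ X.presheaf.map (homOfLE (inf_le_left : V ⊓ V' ≤ V)).op =
      f.appLE A (V ⊓ V') (inf_le_left.trans hVA) := by
    rw [Scheme.Hom.appLE_map]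
  have H'' := c1''.2
  rw [← hai0] at H''
  have hgen : ∀ d : Γ(X, V ⊓ V'), ∃ (α : Γ(S, A)) (c : Γ(X, V)) (c' : Γ(X, V')),
      d = (f.appLE A V hVA ≫ X.presheaf.map (homOfLE (inf_le_left : V ⊓ V' ≤ V)).op) α * e +
        (rs inf_le_right c' - rs inf_le_left c) := by
    rw [hai0]
    exact ring_gen hVA hC.gen
  have hfree : ∀ (α : Γ(S, A)) (c : Γ(X, V)) (c' : Γ(X, V')),
      (f.appLE A V hVA ≫ X.presheaf.map (homOfLE (inf_le_left : V ⊓ V' ≤ V)).op) α * e =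
        rs inf_le_right c' - rs inf_le_left c → α = 0 := by
    rw [hai0]
    exact ring_free hVA hC.free
  have hinf : p ⁻¹ᵁ (V ⊓ V') ⊓ q ⁻¹ᵁ W ≤ (p ⁻¹ᵁ V ⊓ q ⁻¹ᵁ W) ⊓ (p ⁻¹ᵁ V' ⊓ q ⁻¹ᵁ W) := le_inf hle hle'
  have hinf' : (p ⁻¹ᵁ V ⊓ q ⁻¹ᵁ W) ⊓ (p ⁻¹ᵁ V' ⊓ q ⁻¹ᵁ W) ≤ p ⁻¹ᵁ (V ⊓ V') ⊓ q ⁻¹ᵁ W :=
    fun x hx => ⟨⟨hx.1.1, hx.2.1⟩, hx.1.2⟩
  refine ⟨c1.1, c1'.1, ?_, inferInstance, inferInstance, ?_, fun r hr => ff_mem q hr, ?_, ?_, ?_⟩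
  · apply le_antisymm
    · exact sup_le inf_le_right inf_le_right
    · intro y hy
      have h1 : p y ∈ f ⁻¹ᵁ A := hqA hy
      rw [← hC.cover] at h1
      rcases h1 with h1 | h1
      · left; exact ⟨h1, hy⟩
      · right; exact ⟨h1, hy⟩
  · -- H0
    have hcpt : IsCompact (X := X) (f ⁻¹ᵁ A : X.Opens) := by
      rw [← hC.cover]
      exact hC.aff.isCompact.union hC.aff'.isCompact
    have hqs : IsQuasiSeparated (α := X) (f ⁻¹ᵁ A : X.Opens) := IsQuasiSeparated.of_quasiSeparatedSpace _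
    have hqA' : q ⁻¹ᵁ W = p ⁻¹ᵁ f ⁻¹ᵁ A ⊓ q ⁻¹ᵁ W := (inf_eq_right.mpr hqA).symm
    have hP := (isIso_pushoutSection_iff hc hWA le_rfl hqA').mp
      (isIso_pushoutSection_of_isQuasiSeparated_of_flat_right hc hWA le_rfl hqA' hA hW hcpt hqs)
    intro y hy
    obtain ⟨y, rfl⟩ := exists_sec hy
    refine ChartRing.induction hP (fun y => ∃ r ∈ O W, ff q r = Y.germToFunctionField (q ⁻¹ᵁ W) y)
      ⟨0, zero_mem _, by simp⟩ ?_ ?_ y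
    · rintro y y' ⟨r, hr, h⟩ ⟨r', hr', h'⟩
      exact ⟨r + r', add_mem hr hr', by rw [map_add, map_add, h, h']⟩
    · intro c r
      have : Nonempty (f ⁻¹ᵁ A : X.Opens) := nonempty_preimage f A
      obtain ⟨α, hα, hα'⟩ := hC.H0 _ (germ_mem c)
      obtain ⟨α, rfl⟩ := exists_sec hα
      have hc' : c = f.appLE A (f ⁻¹ᵁ A) le_rfl α := by
        apply X.germToFunctionField_injective (f ⁻¹ᵁ A)
        rw [← hα', ff_germ_appLE f A (f ⁻¹ᵁ A) le_rfl]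
      refine ⟨T.germToFunctionField W (g.appLE A W hWA α * r), germ_mem _, ?_⟩
      rw [ff_germ_appLE q W (q ⁻¹ᵁ W) le_rfl, map_mul, hc']
      congr 2
      exact congr($(hP.w.symm).hom α)
  · exact O_mono (hinf'.trans inf_le_left) (ff_mem p (germ_mem e))
  · intro d hd
    obtain ⟨d, rfl⟩ := exists_sec (O_mono hinf hd)
    obtain ⟨r, x, x', hd'⟩ := ChartRing.gen (i := X.presheaf.map (homOfLE (inf_le_left : V ⊓ V' ≤ V)).op)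
      (i' := X.presheaf.map (homOfLE (inf_le_right : V ⊓ V' ≤ V')).op) H'' hj hj' hb hb' e hgen d
    refine ⟨_, germ_mem r, _, germ_mem x, _, germ_mem x', ?_⟩
    have h1 := congrArg (Y.germToFunctionField (p ⁻¹ᵁ (V ⊓ V') ⊓ q ⁻¹ᵁ W)) hd'
    have h2 : Y.germToFunctionField (p ⁻¹ᵁ (V ⊓ V') ⊓ q ⁻¹ᵁ W) (rs hle' x') =
      Y.germToFunctionField _ x' := germ_rs hle' x'
    have h3 : Y.germToFunctionField (p ⁻¹ᵁ (V ⊓ V') ⊓ q ⁻¹ᵁ W) (rs hle x) =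
      Y.germToFunctionField _ x := germ_rs hle x
    rw [ff_germ_appLE q W (p ⁻¹ᵁ (V ⊓ V') ⊓ q ⁻¹ᵁ W) inf_le_right,
      ff_germ_appLE p (V ⊓ V') (p ⁻¹ᵁ (V ⊓ V') ⊓ q ⁻¹ᵁ W) inf_le_left, ← h2, ← h3]
    rw [map_add, map_mul, map_sub] at h1
    exact h1
  · intro r hr x hx x' hx' h
    obtain ⟨r, rfl⟩ := exists_sec hr
    obtain ⟨x, rfl⟩ := exists_sec hx
    obtain ⟨x', rfl⟩ := exists_sec hx'
    have h2 : Y.germToFunctionField (p ⁻¹ᵁ (V ⊓ V') ⊓ q ⁻¹ᵁ W) (rs hle' x') =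
      Y.germToFunctionField _ x' := germ_rs hle' x'
    have h3 : Y.germToFunctionField (p ⁻¹ᵁ (V ⊓ V') ⊓ q ⁻¹ᵁ W) (rs hle x) =
      Y.germToFunctionField _ x := germ_rs hle x
    rw [ff_germ_appLE q W (p ⁻¹ᵁ (V ⊓ V') ⊓ q ⁻¹ᵁ W) inf_le_right,
      ff_germ_appLE p (V ⊓ V') (p ⁻¹ᵁ (V ⊓ V') ⊓ q ⁻¹ᵁ W) inf_le_left, ← h2, ← h3, ← map_mul,
      ← map_sub] at h
    have h4 := ChartRing.free (i := X.presheaf.map (homOfLE (inf_le_left : V ⊓ V' ≤ V)).op)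
      (i' := X.presheaf.map (homOfLE (inf_le_right : V ⊓ V' ≤ V')).op) hai c1.2 c1'.2 H'' hj hj'
      hb hb' e hgen hfree r x x' (Y.germToFunctionField_injective _ h)
    rw [h4, map_zero]

end

end K857.ChartBC
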