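import Groth.Agent.Biell.K857.FibreMap

/-!
# Generation and freeness of `R¹f_*O` near a finite set of points of the base
-/

set_option autoImplicit false
universe u

open CategoryTheory CategoryTheory.Limits AlgebraicGeometry TopologicalSpace Opposite
open Groth.Agent.Picfga.RegLocus Groth.Agent
open K857.OReg K857.ClassMap K857.FibreMap

namespace K857.GenAt

variable {k : Type u} [Field k] [IsAlgClosed k] {X E : Scheme.{u}}
    [X.Over (Spec (CommRingCat.of k))] [E.Over (Spec (CommRingCat.of k))] {f : X ⟶ E}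

theorem isClosedImmersion_pt (h : Setup k f) {x : Spec (CommRingCat.of k) ⟶ E}
    (hk : x ≫ (E ↘ Spec (CommRingCat.of k)) = 𝟙 _) : IsClosedImmersion x := by
  have := h.fibr.proper
  have h1 : IsClosedImmersion (x ≫ (E ↘ Spec (CommRingCat.of k))) := by rw [hk]; infer_instance
  exact IsClosedImmersion.of_comp x (E ↘ Spec (CommRingCat.of k))

variable {A : E.Opens} {V V' : X.Opens}

theorem exists_gen_at (h : Setup k f) {x : Spec (CommRingCat.of k) ⟶ E}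
    (hk : x ≫ (E ↘ Spec (CommRingCat.of k)) = 𝟙 _) (hA : IsAffineOpen A) (hx : ⊤ ≤ x ⁻¹ᵁ A)
    (hV : IsAffineOpen V) (hV' : IsAffineOpen V') (hVV' : IsAffineOpen (V ⊓ V'))
    (hcov : V ⊔ V' = f ⁻¹ᵁ A) (hVA : V ⊓ V' ≤ f ⁻¹ᵁ A) :
    ∃ e : Γ(X, V ⊓ V'), ∀ t : Γ(X, V ⊓ V'), ∃ (r : Γ(E, A)) (a : Γ(X, V)) (b : Γ(X, V')),
      t - f.appLE A (V ⊓ V') hVA r * e - (rs inf_le_right b - rs inf_le_left a) ∈
        Ideal.map (f.appLE A (V ⊓ V') hVA).hom (RingHom.ker (x.appLE A ⊤ hx).hom) := by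
  have := isClosedImmersion_pt h hk
  let _ : (pullback f x).Over (Spec (CommRingCat.of k)) := ⟨pullback.snd f x⟩
  have H : IsPullback (pullback.fst f x) (pullback.snd f x) f x := IsPullback.of_hasPullback f x
  have h1 := h.gen.h1 x hk
  have hfree : Module.Free k (Coh.HH (pullback f x) (Coh.structureModule (pullback f x)) 1) :=
    Module.Free.of_divisionRing k _
  obtain ⟨v, -, hv⟩ := finrank_eq_one_iff'.mp h1
  obtain ⟨e, he⟩ := clF_surjective (pullback.snd f x) A H hx hcov hV hV' hVV' v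
  refine ⟨e, fun t => ?_⟩
  obtain ⟨c, hc⟩ := hv (clF (pullback.snd f x) A H hx hcov t)
  obtain ⟨r, rfl⟩ := val_surj' hk hx c
  obtain ⟨a, b, hab⟩ := clF_eq_zero (pullback.snd f x) A H hx hcov hA (val_surjective hk hx) hV hV'
    hVV' hVA (t - f.appLE A (V ⊓ V') hVA r * e) (by
      have h2 := clF_smul (pullback.snd f x) A H hx hcov hVA r e
      rw [map_sub, h2, he, hc, sub_self])
  exact ⟨r, a, b, hab⟩

theorem clF_ne (h : Setup k f) {x : Spec (CommRingCat.of k) ⟶ E}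
    (hk : x ≫ (E ↘ Spec (CommRingCat.of k)) = 𝟙 _) (hx : ⊤ ≤ x ⁻¹ᵁ A)
    (hV : IsAffineOpen V) (hV' : IsAffineOpen V') (hVV' : IsAffineOpen (V ⊓ V'))
    (hcov : V ⊔ V' = f ⁻¹ᵁ A) :
    ∃ t, clF (pullback.snd f x) A (IsPullback.of_hasPullback f x) hx hcov t ≠ 0 := by
  by_contra hcon
  push Not at hcon
  have := isClosedImmersion_pt h hk
  have h1 := h.not_subsingleton_H1 x hk
  apply h1
  have h2 := clF_surjective (pullback.snd f x) A (IsPullback.of_hasPullback f x) hx hcov hV hV' hVV'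
  refine ⟨fun a b => ?_⟩
  obtain ⟨a, rfl⟩ := h2 a
  obtain ⟨b, rfl⟩ := h2 b
  exact (hcon a).trans (hcon b).symm

theorem nonempty_inter (h : Setup k f) {x : Spec (CommRingCat.of k) ⟶ E}
    (hk : x ≫ (E ↘ Spec (CommRingCat.of k)) = 𝟙 _) (hx : ⊤ ≤ x ⁻¹ᵁ A)
    (hV : IsAffineOpen V) (hV' : IsAffineOpen V') (hVV' : IsAffineOpen (V ⊓ V'))
    (hcov : V ⊔ V' = f ⁻¹ᵁ A) : Nonempty (V ⊓ V' : X.Opens) := by
  obtain ⟨t, ht⟩ := clF_ne h hk hx hV hV' hVV' hcov
  by_contra hne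
  have h1 : V ⊓ V' = ⊥ := by
    ext w
    exact ⟨fun hw => (hne ⟨⟨w, hw⟩⟩).elim, fun hw => hw.elim⟩
  have h2 : ∀ W : X.Opens, W = ⊥ → Subsingleton Γ(X, W) := by
    rintro W rfl
    infer_instance
  have := h2 _ h1
  apply ht
  rw [Subsingleton.elim t 0, map_zero]

/-- The generator is not a torsion class. -/
theorem val_eq_zero (h : Setup k f) {x : Spec (CommRingCat.of k) ⟶ E}
    (hk : x ≫ (E ↘ Spec (CommRingCat.of k)) = 𝟙 _) (hx : ⊤ ≤ x ⁻¹ᵁ A)
    (hV : IsAffineOpen V) (hV' : IsAffineOpen V') (hVV' : IsAffineOpen (V ⊓ V'))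
    (hcov : V ⊔ V' = f ⁻¹ᵁ A) (hVA : V ⊓ V' ≤ f ⁻¹ᵁ A) {e : Γ(X, V ⊓ V')}
    (hgen : ∀ t : Γ(X, V ⊓ V'), ∃ (r : Γ(E, A)) (a : Γ(X, V)) (b : Γ(X, V')),
      t = f.appLE A (V ⊓ V') hVA r * e + (rs inf_le_right b - rs inf_le_left a))
    (r : Γ(E, A)) (a : Γ(X, V)) (b : Γ(X, V'))
    (hr : f.appLE A (V ⊓ V') hVA r * e = rs inf_le_right b - rs inf_le_left a) :
    val x hx r = 0 := by
  obtain ⟨t, ht⟩ := clF_ne h hk hx hV hV' hVV' hcov
  by_contra hne
  apply ht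
  let _ : (pullback f x).Over (Spec (CommRingCat.of k)) := ⟨pullback.snd f x⟩
  have h1 := clF_smul (pullback.snd f x) A (IsPullback.of_hasPullback f x) hx hcov hVA r e
  rw [hr, clF_split] at h1
  have h2 : clF (pullback.snd f x) A (IsPullback.of_hasPullback f x) hx hcov e = 0 :=
    (smul_eq_zero.mp h1.symm).resolve_left hne
  obtain ⟨r', a', b', rfl⟩ := hgen t
  have h3 := clF_smul (pullback.snd f x) A (IsPullback.of_hasPullback f x) hx hcov hVA r' e
  rw [map_add, clF_split, h3, h2, smul_zero, add_zero]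

/-- Semi-local generation. -/
theorem exists_gen [IsLocallyNoetherian E] (h : Setup k f) {ι : Type} [Finite ι]
    (x : ι → (Spec (CommRingCat.of k) ⟶ E))
    (hk : ∀ j, x j ≫ (E ↘ Spec (CommRingCat.of k)) = 𝟙 _) (hA : IsAffineOpen A) (hx : ∀ j, ⊤ ≤ x j ⁻¹ᵁ A)
    (hV : IsAffineOpen V) (hV' : IsAffineOpen V') (hVV' : IsAffineOpen (V ⊓ V'))
    (hcov : V ⊔ V' = f ⁻¹ᵁ A) (hVA : V ⊓ V' ≤ f ⁻¹ᵁ A) :
    ∃ (e : Γ(X, V ⊓ V')) (g : Γ(E, A)), (∀ j, val (x j) (hx j) g ≠ 0) ∧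
      ∀ t : Γ(X, V ⊓ V'), ∃ (r : Γ(E, A)) (a : Γ(X, V)) (b : Γ(X, V')),
        f.appLE A (V ⊓ V') hVA g * t = f.appLE A (V ⊓ V') hVA r * e +
          (rs inf_le_right b - rs inf_le_left a) := by
  classical
  have := h.isProper
  obtain ⟨M, _, _, cl, hfin, hsurj, hsmul, hzero⟩ := exists_fin f hA hV hV' hcov hVA
  let _ : Fintype ι := Fintype.ofFinite ι
  let T : Finset (Ideal Γ(E, A)) :=
    Finset.univ.image fun j => RingHom.ker ((x j).appLE A ⊤ (hx j)).hom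
  obtain ⟨ē, g, hg, hgen⟩ := NakGen.exists_gen (M := M) T (by
      intro 𝔪 h𝔪
      obtain ⟨j, -, rfl⟩ := Finset.mem_image.mp h𝔪
      exact isMaximal_ker (hk j) (hx j)) (by
      intro 𝔪 h𝔪
      obtain ⟨j, -, rfl⟩ := Finset.mem_image.mp h𝔪
      obtain ⟨e, he⟩ := exists_gen_at h (hk j) hA (hx j) hV hV' hVV' hcov hVA
      refine ⟨cl e, fun m => ?_⟩
      obtain ⟨t, rfl⟩ := hsurj m
      obtain ⟨r, a, b, hrab⟩ := he t
      refine ⟨r, ?_⟩
      have key : ∀ u ∈ Ideal.map (f.appLE A (V ⊓ V') hVA).hom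
          (RingHom.ker ((x j).appLE A ⊤ (hx j)).hom), ∀ c, cl (c * u) ∈
            RingHom.ker ((x j).appLE A ⊤ (hx j)).hom • (⊤ : Submodule Γ(E, A) M) := by
        intro u hu
        refine Submodule.span_induction ?_ ?_ ?_ ?_ hu
        · rintro _ ⟨r, hr, rfl⟩ c
          rw [mul_comm, hsmul]
          exact Submodule.smul_mem_smul hr trivial
        · intro c
          rw [mul_zero, map_zero]
          exact zero_mem _
        · intro u u' _ _ hu hu' c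
          rw [mul_add, map_add]
          exact add_mem (hu c) (hu' c)
        · intro d u _ hu c
          rw [smul_eq_mul, ← mul_assoc]
          exact hu _
      have h1 := key _ hrab 1
      have h2 : cl (rs inf_le_right b - rs inf_le_left a) = 0 := (hzero _).2 ⟨a, b, rfl⟩
      rw [one_mul, map_sub, map_sub, hsmul, h2, sub_zero] at h1
      exact h1)
  obtain ⟨e, rfl⟩ := hsurj ē
  refine ⟨e, g, fun j hj => ?_, fun t => ?_⟩
  · refine hg _ (Finset.mem_image.mpr ⟨j, Finset.mem_univ _, rfl⟩) ?_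
    rw [ker_val]
    exact hj
  · obtain ⟨r, hr⟩ := hgen (cl t)
    rw [← hsmul g t, ← hsmul r e, ← sub_eq_zero, ← map_sub, hzero] at hr
    obtain ⟨a, b, hab⟩ := hr
    exact ⟨r, a, b, by rw [← hab]; ring⟩

end K857.GenAt
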