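import Groth.Agent.Biell.K857.H1Cech

/-!
# A function with one simple pole kills `H¹(O)`
-/

set_option autoImplicit false
universe u

open CategoryTheory CategoryTheory.Limits AlgebraicGeometry TopologicalSpace Opposite
open Groth.Agent.Picfga.RegLocus Groth.Agent
open K857.OReg

namespace K857.SimplePole

variable {X : Scheme.{u}} [IsIntegral X]

theorem pow_form {U' : X.Opens} {w α β : X.functionField} (hw : w ≠ 0) (hz : w⁻¹ ∈ O U')
    (hβ : β ∈ O U') (hα : α = w - β) (n : ℕ) : ∃ s ∈ O U', α ^ (n + 1) = w ^ (n + 1) - w ^ n * s := by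
  induction n with
  | zero => exact ⟨β, hβ, by rw [hα]; ring⟩
  | succ n ih =>
    obtain ⟨s, hs, e⟩ := ih
    refine ⟨s + β - w⁻¹ * β * s, sub_mem (add_mem hs hβ) (mul_mem (mul_mem hz hβ) hs), ?_⟩
    have h1 : w ^ (n + 1) * (w⁻¹ * β * s) = w ^ n * β * s := by
      rw [pow_succ]
      field_simp
    calc α ^ (n + 1 + 1) = α ^ (n + 1) * α := pow_succ _ _
      _ = (w ^ (n + 1) - w ^ n * s) * (w - β) := by rw [e, hα]
      _ = w ^ (n + 1 + 1) - (w ^ (n + 1) * (s + β) - w ^ n * β * s) := by ring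
      _ = w ^ (n + 1 + 1) - w ^ (n + 1) * (s + β - w⁻¹ * β * s) := by rw [mul_sub, h1]

theorem split {U U' : X.Opens} {z α β : X.functionField} (hz0 : z ≠ 0) (hz : z ∈ O U')
    (hα : α ∈ O U) (hβ : β ∈ O U') (h : z⁻¹ = β + α)
    (hker : ∀ g ∈ O U', ∃ c ∈ O (⊤ : X.Opens), ∃ h ∈ O U', g = c + z * h)
    (hloc : ∀ t ∈ O (U ⊓ U'), ∃ n : ℕ, z ^ n * t ∈ O U') :
    ∀ t ∈ O (U ⊓ U'), ∃ a ∈ O U, ∃ b ∈ O U', t = b - a := by
  have key : ∀ (n : ℕ), ∀ g ∈ O U', ∃ a ∈ O U, ∃ b ∈ O U', (z⁻¹) ^ n * g = b - a := by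
    intro n
    induction n with
    | zero => exact fun g hg => ⟨0, zero_mem _, g, hg, by ring⟩
    | succ n ih =>
      intro g hg
      obtain ⟨c, hc, h', hh', rfl⟩ := hker g hg
      obtain ⟨s, hs, e⟩ := pow_form (inv_ne_zero hz0) (by rwa [inv_inv]) hβ
        (show α = z⁻¹ - β by rw [h]; ring) n
      have hcU : c ∈ O U := O_mono le_top hc
      have hcU' : c ∈ O U' := O_mono le_top hc
      obtain ⟨a, ha, b, hb, hab⟩ := ih (c * s + h') (add_mem (mul_mem hcU' hs) hh')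
      refine ⟨a - c * α ^ (n + 1), sub_mem ha (mul_mem hcU (pow_mem hα _)), b, hb, ?_⟩
      have h1 : (z⁻¹) ^ (n + 1) * (z * h') = (z⁻¹) ^ n * h' := by
        rw [pow_succ]
        field_simp
      have h2 : (z⁻¹) ^ (n + 1) = α ^ (n + 1) + (z⁻¹) ^ n * s := by rw [e]; ring
      calc (z⁻¹) ^ (n + 1) * (c + z * h') = c * (z⁻¹) ^ (n + 1) + (z⁻¹) ^ (n + 1) * (z * h') := by ring
        _ = c * (α ^ (n + 1) + (z⁻¹) ^ n * s) + (z⁻¹) ^ n * h' := by rw [h1, ← h2]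
        _ = c * α ^ (n + 1) + (z⁻¹) ^ n * (c * s + h') := by ring
        _ = b - (a - c * α ^ (n + 1)) := by rw [hab]; ring
  intro t ht
  obtain ⟨n, hn⟩ := hloc t ht
  obtain ⟨a, ha, b, hb, hab⟩ := key n _ hn
  refine ⟨a, ha, b, hb, ?_⟩
  rw [← hab, ← mul_assoc, ← mul_pow, inv_mul_cancel₀ hz0, one_pow, one_mul]

end K857.SimplePole
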