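import Groth.Agent.Biell.K857.Global2
import Groth.Agent.Biell.K857.SimplePole

/-!
# The class of a local equation of the section is a unit at points whose fibre has `H¹(O) ≠ 0`
-/

set_option autoImplicit false
universe u

open CategoryTheory CategoryTheory.Limits AlgebraicGeometry TopologicalSpace Opposite
open Groth.Agent.Picfga.RegLocus
open K857.OReg K857.WeiField K857.EqnGeo K857.LD

namespace K857.Global

/-- Pulling back a function from a base function vanishing at the point. -/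
theorem app_eq_zero {Z K : Scheme.{u}} [IsReduced K] (xk : K ⟶ Z) {W : Z.Opens} (s : Γ(Z, W))
    (h : ∀ y : K, xk y ∉ Z.basicOpen s) : xk.app W s = 0 := by
  rw [← basicOpen_eq_bot_iff, ← Scheme.preimage_basicOpen]
  ext y
  exact ⟨fun hy => (h y hy).elim, fun hy => hy.elim⟩

variable {X S Z Y F : Scheme.{u}} [IsIntegral X] [IsIntegral S] [IsIntegral Z] [IsIntegral Y]
  [IsIntegral F]

/-- The restriction of a product with a base function vanishing at the point. -/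
theorem pb_ff_eq_zero {K : Scheme.{u}} [IsReduced K] (q : Y ⟶ Z) [IsDominant q] (xk : K ⟶ Z)
    (i : F ⟶ Y) (s : F ⟶ K) (hw : i ≫ q = s ≫ xk) {W : Z.Opens} [Nonempty W] {r : Z.functionField}
    (a : Γ(Z, W)) (ha : Z.germToFunctionField W a = r) (hv : ∀ y : K, xk y ∉ Z.basicOpen a)
    {P : Y.Opens} [Nonempty P] [Nonempty (i ⁻¹ᵁ P : F.Opens)] (hP : P ≤ q ⁻¹ᵁ W) (h : ff q r ∈ O P) :
    pb i P ⟨ff q r, h⟩ = 0 := by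
  subst ha
  have e := ff_germ_appLE q W P hP a
  have h2 : (⟨ff q (Z.germToFunctionField W a), h⟩ : O P) =
      ⟨Y.germToFunctionField P (q.appLE W P hP a), germ_mem _⟩ := Subtype.ext e
  rw [h2, pb_germ]
  have h0 := app_eq_zero xk a hv
  have hle : i ⁻¹ᵁ P ≤ (s ≫ xk) ⁻¹ᵁ W := by
    rw [← hw]
    exact i.preimage_mono hP
  have hle' : i ⁻¹ᵁ P ≤ s ⁻¹ᵁ (xk ⁻¹ᵁ W) := hle
  have h3 : i.app P (q.appLE W P hP a) = 0 := by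
    have h4 : q.appLE W P hP ≫ i.app P = (i ≫ q).appLE W (i ⁻¹ᵁ P) (by rw [hw]; exact hle) := by
      rw [Scheme.Hom.app_eq_appLE, Scheme.Hom.appLE_comp_appLE]
    have h5 : (i ≫ q).appLE W (i ⁻¹ᵁ P) (by rw [hw]; exact hle) = (s ≫ xk).appLE W (i ⁻¹ᵁ P) hle := by
      simp only [hw]
    have h6 : (s ≫ xk).appLE W (i ⁻¹ᵁ P) hle = xk.app W ≫ s.appLE (xk ⁻¹ᵁ W) (i ⁻¹ᵁ P) hle' := by
      rw [Scheme.Hom.app_eq_appLE]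
      exact (Scheme.Hom.appLE_comp_appLE s xk W (xk ⁻¹ᵁ W) (i ⁻¹ᵁ P) le_rfl hle').symm
    have h7 : (q.appLE W P hP ≫ i.app P) a = (xk.app W ≫ s.appLE (xk ⁻¹ᵁ W) (i ⁻¹ᵁ P) hle') a := by
      rw [h4, h5, h6]
    change (q.appLE W P hP ≫ i.app P) a = 0
    rw [h7]
    change s.appLE (xk ⁻¹ᵁ W) (i ⁻¹ᵁ P) hle' (xk.app W a) = 0
    rw [h0, map_zero]
  rw [h3, map_zero]

theorem pb_mem_of_le (i : F ⟶ Y) {P₀ P : Y.Opens} (hP : P₀ ≤ P) [Nonempty P₀]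
    [Nonempty (i ⁻¹ᵁ P₀ : F.Opens)] {g : Y.functionField} (hg : g ∈ O P) (hg₀ : g ∈ O P₀) :
    pb i P₀ ⟨g, hg₀⟩ ∈ O (i ⁻¹ᵁ P) := by
  have h1 : Nonempty P := ⟨⟨genericPoint Y, hP (genericPoint_mem P₀)⟩⟩
  have h2 : Nonempty (i ⁻¹ᵁ P : F.Opens) :=
    ⟨⟨genericPoint F, i.preimage_mono hP (genericPoint_mem (i ⁻¹ᵁ P₀))⟩⟩
  rw [pb_restrict i hP g hg]
  exact pb_mem _ _ _

omit [IsIntegral Y] in
theorem subsingleton_of_affine (h : IsAffineOpen (⊤ : F.Opens)) :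
    Subsingleton (Coh.HH F (Coh.structureModule F) 1) := by
  have : Nonempty (⊤ : F.Opens) := ⟨⟨genericPoint F, trivial⟩⟩
  exact H1Cech.subsingleton (U := ⊤) (V := ⊤) (by simp) h h fun t ht =>
    ⟨0, zero_mem _, t, O_mono (by simp) ht, by simp⟩

omit [IsIntegral Y] in
theorem unit_of_mem_basicOpen {W : Z.Opens} [Nonempty W] (a : Γ(Z, W)) {x : Z}
    (hx : x ∈ Z.basicOpen a) :
    Z.germToFunctionField W a ≠ 0 ∧ x ∈ reg (Z.germToFunctionField W a)⁻¹ := by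
  have hxW : x ∈ W := Z.basicOpen_le a hx
  rw [Scheme.mem_basicOpen _ _ _ hxW] at hx
  obtain ⟨u, hu⟩ := hx
  have h1 : algebraMap (Z.presheaf.stalk x) Z.functionField ↑u⁻¹ *
      algebraMap (Z.presheaf.stalk x) Z.functionField ↑u = 1 := by
    rw [← map_mul, Units.inv_mul, map_one]
  have h2 : algebraMap (Z.presheaf.stalk x) Z.functionField ↑u = Z.germToFunctionField W a := by
    rw [hu]
    exact Z.algebraMap_germ_eq_germToFunctionField hxW a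
  rw [h2] at h1
  exact ⟨right_ne_zero_of_mul_eq_one h1, ⟨_, eq_inv_of_mul_eq_one_left h1⟩⟩

variable {f : X ⟶ S} {g : Z ⟶ S} {p : Y ⟶ X} {q : Y ⟶ Z} {δ : Z ⟶ Y} [IsDominant f] [IsDominant p]
    [IsDominant q] {A : S.Opens} {V V' : X.Opens} {e : X.functionField} {Δc : Y.Opens}
    [IsClosedImmersion δ]

theorem unitAt [Flat g] [QuasiSeparatedSpace X] (hS : Sit f g p q δ A V V' e Δc) {K : Scheme.{u}}
    [IsReduced K] [Subsingleton K] (xk : K ⟶ Z) [IsClosedImmersion xk] (i : F ⟶ Y) (s : F ⟶ K)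
    (hF : IsPullback i s q xk) (x : Z) (hx : x ∈ Set.range xk)
    (haff : ∀ U : F.Opens, U ≠ ⊤ → IsAffineOpen U)
    (hH : ¬ Subsingleton (Coh.HH F (Coh.structureModule F) 1)) :
    UnitAt q p δ g A V V' e Δc x := by
  have hi : IsClosedImmersion i := MorphismProperty.of_isPullback hF.flip inferInstance
  obtain ⟨y, rfl⟩ := hx
  have hyall : ∀ y', xk y' = xk y := fun y' => by rw [Subsingleton.elim y' y]
  intro W U z _ hD hxW hWA r hr hcls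
  have hWne : Nonempty W := hD.ne
  obtain ⟨hUne, hUne'⟩ := nonempty_of_dat hD
  have hΔne := hS.ne
  obtain ⟨a, rfl⟩ := exists_sec hr
  by_contra hcon
  -- the section vanishes at the point
  have hv : ∀ y' : K, xk y' ∉ Z.basicOpen a := by
    intro y' hy'
    rw [hyall] at hy'
    exact hcon (unit_of_mem_basicOpen a hy')
  -- the point of the fibre on the section
  have hq : q (δ (xk y)) = xk y := by
    rw [← Scheme.Hom.comp_apply, hS.hδ]; rfl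
  obtain ⟨y₀, hy₀⟩ : ∃ y₀ : F, i y₀ = δ (xk y) := by
    have : δ (xk y) ∈ Set.range i := by
      rw [← hF.isoPullback_hom_fst]
      obtain ⟨w, hw⟩ : δ (xk y) ∈ Set.range (pullback.fst q xk) := by
        rw [Scheme.Pullback.range_fst]
        exact ⟨y, hq.symm⟩
      exact ⟨hF.isoPullback.inv w, by
        rw [← Scheme.Hom.comp_apply, Iso.inv_hom_id_assoc, hw]⟩
    exact this
  -- the opens
  have hFW : i ⁻¹ᵁ (q ⁻¹ᵁ W) = ⊤ := by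
    ext w
    refine ⟨fun _ => trivial, fun _ => ?_⟩
    change q (i w) ∈ W
    have : q (i w) = xk (s w) := by rw [← Scheme.Hom.comp_apply, hF.w]; rfl
    rw [this, hyall]
    exact hxW
  have hFU : IsAffineOpen (i ⁻¹ᵁ U) := hD.affU.preimage i
  have hC := chart_at hS hD.affW hWne hWA
  have hy₀U : y₀ ∈ i ⁻¹ᵁ U := by
    change i y₀ ∈ U
    rw [hy₀]
    change xk y ∈ δ ⁻¹ᵁ U
    rw [hD.pre]; exact hxW
  have n1 : Nonempty (i ⁻¹ᵁ U : F.Opens) := ⟨⟨y₀, hy₀U⟩⟩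
  have hcovU : i ⁻¹ᵁ (q ⁻¹ᵁ W ⊓ Δc) ⊔ i ⁻¹ᵁ U = ⊤ := by
    rw [eq_top_iff]
    intro w _
    by_cases hw : i w ∈ Set.range δ
    · right
      obtain ⟨v, hv'⟩ := hw
      have h1 : v ∈ W := by
        have h2 : q (i w) ∈ W := by
          have : w ∈ i ⁻¹ᵁ (q ⁻¹ᵁ W) := by rw [hFW]; trivial
          exact this
        rw [← hv', ← Scheme.Hom.comp_apply, hS.hδ] at h2
        exact h2
      change i w ∈ U
      rw [← hv']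
      rw [← hD.pre] at h1
      exact h1
    · left
      refine ⟨?_, (hS.hΔ _).2 hw⟩
      have : w ∈ i ⁻¹ᵁ (q ⁻¹ᵁ W) := by rw [hFW]; trivial
      exact this
  have n0 : Nonempty (i ⁻¹ᵁ (q ⁻¹ᵁ W ⊓ Δc) : F.Opens) := by
    by_contra hne
    rw [not_nonempty_iff] at hne
    have h1 : i ⁻¹ᵁ (q ⁻¹ᵁ W ⊓ Δc) = ⊥ := by
      ext w; exact ⟨fun hw => (hne.false ⟨w, hw⟩).elim, fun hw => hw.elim⟩
    rw [h1, bot_sup_eq] at hcovU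
    rw [hcovU] at hFU
    exact hH (subsingleton_of_affine hFU)
  have hcovV : i ⁻¹ᵁ (p ⁻¹ᵁ V ⊓ q ⁻¹ᵁ W) ⊔ i ⁻¹ᵁ (p ⁻¹ᵁ V' ⊓ q ⁻¹ᵁ W) = ⊤ := by
    have h1 : i ⁻¹ᵁ ((p ⁻¹ᵁ V ⊓ q ⁻¹ᵁ W) ⊔ (p ⁻¹ᵁ V' ⊓ q ⁻¹ᵁ W)) = ⊤ := by
      rw [hC.cover, hFW]
    exact h1
  have nV : Nonempty (i ⁻¹ᵁ (p ⁻¹ᵁ V ⊓ q ⁻¹ᵁ W) : F.Opens) := by
    by_contra hne
    rw [not_nonempty_iff] at hne
    have h1 : i ⁻¹ᵁ (p ⁻¹ᵁ V ⊓ q ⁻¹ᵁ W) = ⊥ := by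
      ext w; exact ⟨fun hw => (hne.false ⟨w, hw⟩).elim, fun hw => hw.elim⟩
    rw [h1, bot_sup_eq] at hcovV
    have h2 := hC.aff'.preimage i
    rw [hcovV] at h2
    exact hH (subsingleton_of_affine h2)
  have nV' : Nonempty (i ⁻¹ᵁ (p ⁻¹ᵁ V' ⊓ q ⁻¹ᵁ W) : F.Opens) := by
    by_contra hne
    rw [not_nonempty_iff] at hne
    have h1 : i ⁻¹ᵁ (p ⁻¹ᵁ V' ⊓ q ⁻¹ᵁ W) = ⊥ := by
      ext w; exact ⟨fun hw => (hne.false ⟨w, hw⟩).elim, fun hw => hw.elim⟩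
    rw [h1, sup_bot_eq] at hcovV
    have h2 := hC.aff.preimage i
    rw [hcovV] at h2
    exact hH (subsingleton_of_affine h2)
  obtain ⟨s₀, h1, h2, h3, h4⟩ := hcls
  set r := Z.germToFunctionField W a with hrdef
  set z' := Y.germToFunctionField U z with hz'def
  let P₀ : Y.Opens := ((q ⁻¹ᵁ W ⊓ Δc) ⊓ U) ⊓ ((p ⁻¹ᵁ V ⊓ q ⁻¹ᵁ W) ⊓ (p ⁻¹ᵁ V' ⊓ q ⁻¹ᵁ W))
  have l0 : P₀ ≤ q ⁻¹ᵁ W ⊓ Δc := inf_le_left.trans inf_le_left
  have lU : P₀ ≤ U := inf_le_left.trans inf_le_right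
  have lV : P₀ ≤ p ⁻¹ᵁ V ⊓ q ⁻¹ᵁ W := inf_le_right.trans inf_le_left
  have lV' : P₀ ≤ p ⁻¹ᵁ V' ⊓ q ⁻¹ᵁ W := inf_le_right.trans inf_le_right
  have lW : P₀ ≤ q ⁻¹ᵁ W := l0.trans inf_le_left
  have hiP : genericPoint F ∈ i ⁻¹ᵁ P₀ :=
    ⟨⟨genericPoint_mem (i ⁻¹ᵁ (q ⁻¹ᵁ W ⊓ Δc)), genericPoint_mem (i ⁻¹ᵁ U)⟩,
      ⟨genericPoint_mem (i ⁻¹ᵁ (p ⁻¹ᵁ V ⊓ q ⁻¹ᵁ W)), genericPoint_mem (i ⁻¹ᵁ (p ⁻¹ᵁ V' ⊓ q ⁻¹ᵁ W))⟩⟩
  have nP : Nonempty (i ⁻¹ᵁ P₀ : F.Opens) := ⟨⟨_, hiP⟩⟩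
  have nP' : Nonempty P₀ := ⟨⟨i (genericPoint F), hiP⟩⟩
  -- membership on P₀
  have ms : s₀ ∈ O P₀ := O_mono (le_inf l0 lV) h1
  have mr : ff q r ∈ O P₀ := O_mono lW (ff_mem q hr)
  have me : ff p e ∈ O P₀ := O_mono (le_inf lV lV') hC.he
  have mz : z' ∈ O P₀ := O_mono lU (germ_mem z)
  have mzi : z'⁻¹ ∈ O P₀ := by
    have : z'⁻¹ = (s₀ + z'⁻¹) - s₀ := by ring
    rw [this]
    exact sub_mem (O_mono (le_inf lU lV) h3) ms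
  have hz0 : z' ≠ 0 := fun h => hD.z0 (Y.germToFunctionField_injective U (by rw [map_zero]; exact h))
  let ψ := pb i P₀
  have hψr : ψ ⟨ff q r, mr⟩ = 0 := pb_ff_eq_zero q xk i s hF.w a rfl hv lW mr
  have hψd : ∀ h : ff q r * ff p e ∈ O P₀, ψ ⟨ff q r * ff p e, h⟩ = 0 := by
    intro h
    have : (⟨ff q r * ff p e, h⟩ : O P₀) = ⟨ff q r, mr⟩ * ⟨ff p e, me⟩ := rfl
    rw [this, map_mul, hψr, zero_mul]
  set σ := ψ ⟨s₀, ms⟩ with hσ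
  set ζ := ψ ⟨z', mz⟩ with hζ
  have hζinv : ζ * ψ ⟨z'⁻¹, mzi⟩ = 1 := by
    rw [hζ, ← map_mul]
    have : (⟨z', mz⟩ : O P₀) * ⟨z'⁻¹, mzi⟩ = 1 := Subtype.ext (mul_inv_cancel₀ hz0)
    rw [this, map_one]
  have hζ0 : ζ ≠ 0 := left_ne_zero_of_mul_eq_one hζinv
  have hζi : ψ ⟨z'⁻¹, mzi⟩ = ζ⁻¹ := eq_inv_of_mul_eq_one_right hζinv
  -- the two memberships of σ
  have mσ : σ ∈ O (i ⁻¹ᵁ (q ⁻¹ᵁ W ⊓ Δc)) := by
    have a1 : σ ∈ O (i ⁻¹ᵁ ((q ⁻¹ᵁ W ⊓ Δc) ⊓ (p ⁻¹ᵁ V ⊓ q ⁻¹ᵁ W))) :=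
      pb_mem_of_le i (le_inf l0 lV) h1 ms
    have a2 : σ ∈ O (i ⁻¹ᵁ ((q ⁻¹ᵁ W ⊓ Δc) ⊓ (p ⁻¹ᵁ V' ⊓ q ⁻¹ᵁ W))) := by
      have b1 := pb_mem_of_le i (le_inf l0 lV') h2 (O_mono (le_inf l0 lV') h2)
      have b2 : (⟨s₀ + ff q r * ff p e, O_mono (le_inf l0 lV') h2⟩ : O P₀) =
        ⟨s₀, ms⟩ + ⟨ff q r * ff p e, mul_mem mr me⟩ := rfl
      rw [b2, map_add] at b1
      have b3 : pb i P₀ ⟨ff q r * ff p e, mul_mem mr me⟩ = 0 := hψd _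
      rw [b3, add_zero] at b1
      exact b1
    refine O_mono ?_ (mem_O_sup a1 a2)
    intro w hw
    have : w ∈ i ⁻¹ᵁ (p ⁻¹ᵁ V ⊓ q ⁻¹ᵁ W) ⊔ i ⁻¹ᵁ (p ⁻¹ᵁ V' ⊓ q ⁻¹ᵁ W) := by rw [hcovV]; trivial
    rcases this with h | h
    · left; exact ⟨hw, h⟩
    · right; exact ⟨hw, h⟩
  have mβ : σ + ζ⁻¹ ∈ O (i ⁻¹ᵁ U) := by
    have a1 : σ + ζ⁻¹ ∈ O (i ⁻¹ᵁ (U ⊓ (p ⁻¹ᵁ V ⊓ q ⁻¹ᵁ W))) := by
      have b1 := pb_mem_of_le i (le_inf lU lV) h3 (O_mono (le_inf lU lV) h3)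
      have b2 : (⟨s₀ + z'⁻¹, O_mono (le_inf lU lV) h3⟩ : O P₀) = ⟨s₀, ms⟩ + ⟨z'⁻¹, mzi⟩ := rfl
      rw [b2, map_add] at b1
      rw [← hζi]
      exact b1
    have a2 : σ + ζ⁻¹ ∈ O (i ⁻¹ᵁ (U ⊓ (p ⁻¹ᵁ V' ⊓ q ⁻¹ᵁ W))) := by
      have b1 := pb_mem_of_le i (le_inf lU lV') h4 (O_mono (le_inf lU lV') h4)
      have b2 : (⟨s₀ + z'⁻¹ + ff q r * ff p e, O_mono (le_inf lU lV') h4⟩ : O P₀) =
        ⟨s₀, ms⟩ + ⟨z'⁻¹, mzi⟩ + ⟨ff q r * ff p e, mul_mem mr me⟩ := rfl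
      rw [b2, map_add, map_add] at b1
      have b3 : pb i P₀ ⟨ff q r * ff p e, mul_mem mr me⟩ = 0 := hψd _
      rw [b3, add_zero] at b1
      rw [← hζi]
      exact b1
    refine O_mono ?_ (mem_O_sup a1 a2)
    intro w hw
    have : w ∈ i ⁻¹ᵁ (p ⁻¹ᵁ V ⊓ q ⁻¹ᵁ W) ⊔ i ⁻¹ᵁ (p ⁻¹ᵁ V' ⊓ q ⁻¹ᵁ W) := by rw [hcovV]; trivial
    rcases this with h | h
    · left; exact ⟨hw, h⟩
    · right; exact ⟨hw, h⟩
  have hE := EqnGeo.isEqn q δ hS.hδ hD.affU hD.pre hD.le z hD.z0 hD.ideal Δc hS.hΔ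
  have hζU : ζ = F.germToFunctionField (i ⁻¹ᵁ U) (i.app U z) := by
    have b1 : ζ = pb i U ⟨z', germ_mem z⟩ := pb_restrict i lU z' (germ_mem z) mz
    rw [b1, pb_germ]
  have hsplit := SimplePole.split (U := i ⁻¹ᵁ (q ⁻¹ᵁ W ⊓ Δc)) (U' := i ⁻¹ᵁ U) (z := ζ) (α := -σ)
    (β := σ + ζ⁻¹) hζ0 (hζU ▸ germ_mem _) (neg_mem mσ) mβ (by ring) ?_ ?_
  · refine hH (H1Cech.subsingleton hcovU (haff _ fun htop => ?_) hFU hsplit)
    have : y₀ ∈ i ⁻¹ᵁ (q ⁻¹ᵁ W ⊓ Δc) := by rw [htop]; trivial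
    exact (hS.hΔ _).1 this.2 ⟨xk y, hy₀.symm⟩
  · intro g₁ hg₁
    obtain ⟨g', rfl⟩ := exists_sec hg₁
    obtain ⟨G, rfl⟩ := i.app_surjective U hD.affU g'
    have hGm : Y.germToFunctionField U G ∈ O U := germ_mem G
    let c : Z.functionField := pb δ U ⟨Y.germToFunctionField U G, hGm⟩
    have hcW : c ∈ O W := hE.mem _
    have hcU : ff q c ∈ O U := O_mono hD.le (ff_mem q hcW)
    have hρ : pb δ U ⟨Y.germToFunctionField U G - ff q c, sub_mem hGm hcU⟩ = 0 := by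
      have e1 : (⟨Y.germToFunctionField U G - ff q c, sub_mem hGm hcU⟩ : O U) =
        ⟨Y.germToFunctionField U G, hGm⟩ - ⟨ff q c, hcU⟩ := rfl
      rw [e1, map_sub, hE.sec c hcW hcU]
      exact sub_self _
    obtain ⟨H, hH', hGH⟩ := hE.ker _ hρ
    have hGH' : Y.germToFunctionField U G - ff q c = z' * H := hGH
    refine ⟨pb i U ⟨ff q c, hcU⟩, ?_, pb i U ⟨H, hH'⟩, pb_mem _ _ _, ?_⟩
    · have b1 := pb_mem_of_le i hD.le (ff_mem q hcW) hcU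
      rw [hFW] at b1
      exact b1
    · have e2 : (⟨Y.germToFunctionField U G, hGm⟩ : O U) = ⟨ff q c, hcU⟩ +
          ⟨z', germ_mem z⟩ * ⟨H, hH'⟩ := Subtype.ext (by
        change Y.germToFunctionField U G = ff q c + z' * H
        rw [← hGH']; ring)
      have e3 := congrArg (pb i U) e2
      rw [map_add, map_mul, pb_germ] at e3
      rw [e3, hζU, ← pb_germ i U z (germ_mem z)]
  · intro t ht
    have e5 : F.basicOpen (i.app U z) = i ⁻¹ᵁ (Δc ⊓ U) := by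
      rw [← Scheme.preimage_basicOpen, basicOpen_eq δ hD.affU z hD.ideal Δc hS.hΔ]
    have e6 : F.basicOpen (i.app U z) ≤ i ⁻¹ᵁ (q ⁻¹ᵁ W ⊓ Δc) ⊓ i ⁻¹ᵁ U := by
      rw [e5]
      exact le_inf (i.preimage_mono (le_inf (inf_le_right.trans hD.le) inf_le_left))
        (i.preimage_mono inf_le_right)
    obtain ⟨n, hn⟩ := exists_pow_mul_mem hFU (i.app U z) (O_mono e6 ht)
    exact ⟨n, by rw [hζU]; exact hn⟩

end K857.Global
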