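import Groth.Agent.Biell.K857.TwoOpens
import Groth.Agent.Biell.K857.GenAt
import Groth.Agent.Biell.K857.UnitAt

/-!
# Existence of charts near a finite set of closed points of the base
-/

set_option autoImplicit false
universe u

open CategoryTheory CategoryTheory.Limits AlgebraicGeometry TopologicalSpace Opposite
open Groth.Agent.Picfga.RegLocus Groth.Agent
open K857.OReg K857.WeiField K857.FibreMap K857.EqnGeo

namespace K857.ChartEx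

variable {k : Type u} [Field k] [IsAlgClosed k] {X E : Scheme.{u}}
    [X.Over (Spec (CommRingCat.of k))] [E.Over (Spec (CommRingCat.of k))] {f : X ⟶ E}

theorem le_preimage_basicOpen {x : Spec (CommRingCat.of k) ⟶ E} {A : E.Opens} (hx : ⊤ ≤ x ⁻¹ᵁ A)
    {g : Γ(E, A)} (hg : val x hx g ≠ 0) : ⊤ ≤ x ⁻¹ᵁ (E.basicOpen g) := by
  have h1 : (Spec (CommRingCat.of k)).basicOpen (x.appLE A ⊤ hx g) = ⊤ ⊓ x ⁻¹ᵁ (E.basicOpen g) :=
    Scheme.basicOpen_appLE x ⊤ A hx g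
  have h2 : IsUnit (x.appLE A ⊤ hx g) := by
    rw [appLE_eq]
    exact (IsUnit.mk0 _ hg).map (Scheme.ΓSpecIso (CommRingCat.of k)).inv.hom
  rw [Scheme.basicOpen_of_isUnit _ h2, top_inf_eq] at h1
  exact h1.le

theorem val_ne_zero {x : Spec (CommRingCat.of k) ⟶ E} {A : E.Opens} (hx : ⊤ ≤ x ⁻¹ᵁ A)
    {g : Γ(E, A)} (hg : ⊤ ≤ x ⁻¹ᵁ (E.basicOpen g)) : val x hx g ≠ 0 := by
  intro h0
  have h1 : (Spec (CommRingCat.of k)).basicOpen (x.appLE A ⊤ hx g) = ⊤ ⊓ x ⁻¹ᵁ (E.basicOpen g) :=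
    Scheme.basicOpen_appLE x ⊤ A hx g
  rw [appLE_eq, h0, map_zero, Scheme.basicOpen_zero, top_inf_eq] at h1
  rw [← h1] at hg
  obtain ⟨y⟩ : Nonempty (Spec (CommRingCat.of k)) := inferInstance
  exact hg (x := y) trivial

theorem eq_zero_of_val (h : Setup k f) [IsIntegral E] {A : E.Opens} [Nonempty A] (r : Γ(E, A))
    (hr : ∀ (x : Spec (CommRingCat.of k) ⟶ E), x ≫ (E ↘ Spec (CommRingCat.of k)) = 𝟙 _ →
      ∀ hx : ⊤ ≤ x ⁻¹ᵁ A, val x hx r = 0) : r = 0 := by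
  by_contra hne
  have := h.fibr.proper
  have hj : JacobsonSpace E := LocallyOfFiniteType.jacobsonSpace (E ↘ Spec (CommRingCat.of k))
  have hne' : (E.basicOpen r : Set E).Nonempty := by
    refine ⟨genericPoint E, ?_⟩
    change genericPoint E ∈ E.basicOpen r
    rw [Scheme.mem_basicOpen _ _ _ (genericPoint_mem A)]
    exact IsUnit.mk0 _ (fun h => hne (E.germToFunctionField_injective A (by rw [map_zero]; exact h)))
  obtain ⟨s, hs, hcl⟩ := nonempty_inter_closedPoints (Z := (E.basicOpen r : Set E)) hne'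
    (E.basicOpen r).2.isLocallyClosed
  let x := pointOfClosedPoint (E ↘ Spec (CommRingCat.of k)) s hcl
  have hxs : ∀ y, x y = s := fun y => pointOfClosedPoint_apply _ _ _ _
  have hx : ⊤ ≤ x ⁻¹ᵁ A := fun y _ => by
    change x y ∈ A
    rw [hxs]
    exact E.basicOpen_le r hs
  have hx' : ⊤ ≤ x ⁻¹ᵁ (E.basicOpen r) := fun y _ => by
    change x y ∈ E.basicOpen r
    rw [hxs]
    exact hs
  exact val_ne_zero hx hx' (hr x (pointOfClosedPoint_comp _ _ _) hx)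

/-- **Existence of charts.** -/
theorem exists_chart (h : Setup k f) (hproj : ∃ H : X.Modules, CohB1.IsAmple H) [IsIntegral X]
    [IsIntegral E] [IsDominant f] {ι : Type} [Finite ι] [Nonempty ι]
    (x : ι → (Spec (CommRingCat.of k) ⟶ E))
    (hk : ∀ j, x j ≫ (E ↘ Spec (CommRingCat.of k)) = 𝟙 _) {A₁ : E.Opens} (hA₁ : A₁ ≠ ⊤)
    (hx : ∀ j, ⊤ ≤ x j ⁻¹ᵁ A₁) :
    ∃ (A : E.Opens) (V V' : X.Opens) (e : X.functionField), IsAffineOpen A ∧ A ≤ A₁ ∧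
      (∀ j, ⊤ ≤ x j ⁻¹ᵁ A) ∧ Nonempty A ∧ IsAffineOpen (V ⊓ V') ∧
      IsChart (ff f) (O A) (f ⁻¹ᵁ A) V V' e := by
  have := h.isProper
  have := h.isNoetherianX
  have := h.isNoetherianE
  obtain ⟨A₀, V₀, V₀', hA₀, hA₀₁, hxA₀, hV₀, hV₀', hVV₀, hcov₀⟩ :=
    TwoOpens.exists_two_opens h hproj x hk hA₁ hx
  have hVA₀ : V₀ ≤ f ⁻¹ᵁ A₀ := hcov₀ ▸ le_sup_left
  have hVA₀' : V₀' ≤ f ⁻¹ᵁ A₀ := hcov₀ ▸ le_sup_right
  have hVVA₀ : V₀ ⊓ V₀' ≤ f ⁻¹ᵁ A₀ := inf_le_left.trans hVA₀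
  obtain ⟨e, g, hg, hgen₀⟩ := GenAt.exists_gen h x hk hA₀ hxA₀ hV₀ hV₀' hVV₀ hcov₀ hVVA₀
  let A : E.Opens := E.basicOpen g
  have hAA₀ : A ≤ A₀ := E.basicOpen_le g
  have hA : IsAffineOpen A := hA₀.basicOpen g
  have hxA : ∀ j, ⊤ ≤ x j ⁻¹ᵁ A := fun j => le_preimage_basicOpen (hxA₀ j) (hg j)
  let V : X.Opens := V₀ ⊓ f ⁻¹ᵁ A
  let V' : X.Opens := V₀' ⊓ f ⁻¹ᵁ A
  have hVb : X.basicOpen (f.appLE A₀ V₀ hVA₀ g) = V := Scheme.basicOpen_appLE f V₀ A₀ hVA₀ g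
  have hVb' : X.basicOpen (f.appLE A₀ V₀' hVA₀' g) = V' := Scheme.basicOpen_appLE f V₀' A₀ hVA₀' g
  have hVVb : X.basicOpen (f.appLE A₀ (V₀ ⊓ V₀') hVVA₀ g) = V ⊓ V' := by
    rw [Scheme.basicOpen_appLE f (V₀ ⊓ V₀') A₀ hVVA₀ g, inf_inf_distrib_right]
  have hV : IsAffineOpen V := hVb ▸ hV₀.basicOpen _
  have hV' : IsAffineOpen V' := hVb' ▸ hV₀'.basicOpen _
  have hVV : IsAffineOpen (V ⊓ V') := hVVb ▸ hVV₀.basicOpen _
  have hcov : V ⊔ V' = f ⁻¹ᵁ A := by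
    change V₀ ⊓ f ⁻¹ᵁ A ⊔ V₀' ⊓ f ⁻¹ᵁ A = f ⁻¹ᵁ A
    rw [← inf_sup_right, hcov₀]
    exact inf_eq_right.mpr (f.preimage_mono hAA₀)
  have hVA : V ≤ f ⁻¹ᵁ A := inf_le_right
  have hVVA : V ⊓ V' ≤ f ⁻¹ᵁ A := inf_le_left.trans hVA
  obtain ⟨j₀⟩ : Nonempty ι := inferInstance
  have hne : Nonempty (V ⊓ V' : X.Opens) := GenAt.nonempty_inter h (hk j₀) (hxA j₀) hV hV' hVV hcov
  have hneV : Nonempty V := ⟨⟨_, (genericPoint_mem (V ⊓ V')).1⟩⟩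
  have hneV' : Nonempty V' := ⟨⟨_, (genericPoint_mem (V ⊓ V')).2⟩⟩
  have hneV₀ : Nonempty V₀ := ⟨⟨_, (genericPoint_mem V).1⟩⟩
  have hneV₀' : Nonempty V₀' := ⟨⟨_, (genericPoint_mem V').1⟩⟩
  have hneVV₀ : Nonempty (V₀ ⊓ V₀' : X.Opens) := nonempty_inf V₀ V₀'
  have hneA : Nonempty A := ⟨⟨f (genericPoint X), (genericPoint_mem V).2⟩⟩
  have hneA₀ : Nonempty A₀ := ⟨⟨_, hAA₀ (genericPoint_mem A)⟩⟩
  set γ := E.germToFunctionField A₀ g with hγ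
  have hγ0 : γ ≠ 0 := (Global.unit_of_mem_basicOpen g (genericPoint_mem A)).1
  have hγi : γ⁻¹ ∈ O A := fun y hy => (Global.unit_of_mem_basicOpen g hy).2
  have hγm : γ ∈ O A := O_mono hAA₀ (germ_mem g)
  have hffγ : ff f γ ≠ 0 := (map_ne_zero (ff f)).mpr hγ0
  have hgW : ∀ (W : X.Opens) [Nonempty W] (hW : W ≤ f ⁻¹ᵁ A₀),
      X.germToFunctionField W (f.appLE A₀ W hW g) = ff f γ := fun W _ hW =>
    (ff_germ_appLE f A₀ W hW g).symm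
  set ε := X.germToFunctionField (V₀ ⊓ V₀') e with hε
  have hεm : ε ∈ O (V ⊓ V') := O_mono (inf_le_inf inf_le_left inf_le_left) (germ_mem e)
  -- generation
  have hgen : ∀ d ∈ O (V ⊓ V'), ∃ r ∈ O A, ∃ a ∈ O V, ∃ b ∈ O V', d = ff f r * ε + (b - a) := by
    intro d hd
    rw [← hVVb] at hd
    obtain ⟨n, hn⟩ := exists_pow_mul_mem hVV₀ _ hd
    rw [hgW (V₀ ⊓ V₀') hVVA₀] at hn
    obtain ⟨t, ht⟩ := exists_sec hn
    obtain ⟨r, a, b, hrab⟩ := hgen₀ t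
    have h1 := congrArg (X.germToFunctionField (V₀ ⊓ V₀')) hrab
    rw [map_mul, map_add, map_mul, map_sub, germ_rs, germ_rs, hgW (V₀ ⊓ V₀') hVVA₀, ht,
      ← ff_germ_appLE f A₀ (V₀ ⊓ V₀') hVVA₀] at h1
    have hi : ∀ W : X.Opens, W ≤ f ⁻¹ᵁ A → (ff f γ⁻¹) ^ (n + 1) ∈ O W := fun W hW =>
      pow_mem (O_mono hW (ff_mem f hγi)) _
    refine ⟨E.germToFunctionField A₀ r * γ⁻¹ ^ (n + 1),
      mul_mem (O_mono hAA₀ (germ_mem r)) (pow_mem hγi _),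
      X.germToFunctionField V₀ a * ff f γ⁻¹ ^ (n + 1),
      mul_mem (O_mono inf_le_left (germ_mem a)) (hi V inf_le_right),
      X.germToFunctionField V₀' b * ff f γ⁻¹ ^ (n + 1),
      mul_mem (O_mono inf_le_left (germ_mem b)) (hi V' inf_le_right), ?_⟩
    have h2 : ff f γ⁻¹ * ff f γ = 1 := by
      rw [← map_mul, inv_mul_cancel₀ hγ0, map_one]
    have h3 : ff f γ⁻¹ ^ (n + 1) * ff f γ ^ (n + 1) = 1 := by
      rw [← mul_pow, h2, one_pow]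
    rw [map_mul, map_pow]
    calc d = (ff f γ⁻¹ ^ (n + 1) * ff f γ ^ (n + 1)) * d := by rw [h3, one_mul]
      _ = ff f γ⁻¹ ^ (n + 1) * (ff f γ * (ff f γ ^ n * d)) := by ring
      _ = _ := by rw [h1]; ring
  -- generation, ring form
  obtain ⟨e', he'⟩ := exists_sec hεm
  rw [← he'] at hgen
  have hgenR := ChartBC.ring_gen hVA hgen
  refine ⟨A, V, V', ε, hA, hAA₀.trans hA₀₁, hxA, hneA, hVV, hV, hV', hcov, hneV, hneV', ?_,
    fun r hr => ff_mem f hr, hεm, he' ▸ hgen, ?_⟩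
  · intro c hc
    have : Nonempty (f ⁻¹ᵁ A : X.Opens) := nonempty_preimage f A
    obtain ⟨c', rfl⟩ := exists_sec hc
    obtain ⟨r, rfl⟩ := (h.bij A).2 c'
    exact ⟨E.germToFunctionField A r, germ_mem r, ff_germ f A r⟩
  · intro r hr a ha b hb hrel
    obtain ⟨r, rfl⟩ := exists_sec hr
    obtain ⟨a, rfl⟩ := exists_sec ha
    obtain ⟨b, rfl⟩ := exists_sec hb
    have h1 : f.appLE A (V ⊓ V') hVVA r * e' = rs inf_le_right b - rs inf_le_left a := by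
      apply X.germToFunctionField_injective (V ⊓ V')
      rw [map_mul, map_sub, germ_rs, germ_rs, he', ← ff_germ_appLE f A (V ⊓ V') hVVA]
      exact hrel
    have h2 := eq_zero_of_val h r fun x hkx hxx =>
      GenAt.val_eq_zero h hkx hxx hV hV' hVV hcov hVVA hgenR r a b h1
    rw [h2, map_zero]

end K857.ChartEx
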