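import Groth.Agent.Biell.K857.OReg
import Groth.Agent.Picfga.ChiCech
import Groth.Agent.CurvesB.MVOne
import Groth.Agent.CurvesC.UnitCoh

/-!
# Splitting of functions on an affine open covered by two opens
-/

set_option autoImplicit false
universe u

open CategoryTheory CategoryTheory.Limits AlgebraicGeometry TopologicalSpace Opposite
open Groth.Agent.Picfga.RegLocus Groth.Agent

namespace K857.OReg

variable {X : Scheme.{u}} [IsIntegral X]

omit [AlgebraicGeometry.IsIntegral X] in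
theorem split_sec {P Q : X.Opens} (h : IsAffineOpen (P ⊔ Q)) (t : Γ(X, P ⊓ Q)) :
    ∃ (a : Γ(X, P)) (b : Γ(X, Q)), t = rs inf_le_left a - rs inf_le_right b := by
  have := CurvesC.UnitCoh.isQCoh_unit X
  have hs := CohqA.AffVan.subsingleton_HU_of_isAffineOpen (Coh.structureModule X) h 0
  let F : CohTop.Ab X.toTopCat := Coh.toAb (Coh.structureModule X)
  obtain ⟨a, b, hab⟩ := CohqA.MV.exists_sub_eq F P Q 0
    ((CurvesB.MVOne.secE F (P ⊓ Q)).symm t) (Subsingleton.elim _ _)
  refine ⟨CurvesB.MVOne.secE F P a, CurvesB.MVOne.secE F Q b, ?_⟩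
  have h1 := congrArg (CurvesB.MVOne.secE F (P ⊓ Q)) hab
  rw [map_sub, CurvesB.MVOne.secE_res, CurvesB.MVOne.secE_res] at h1
  exact (h1.trans ((CurvesB.MVOne.secE F (P ⊓ Q)).apply_symm_apply t)).symm

theorem split {P Q : X.Opens} [Nonempty P] [Nonempty Q] (h : IsAffineOpen (P ⊔ Q))
    {t : X.functionField} (ht : t ∈ O (P ⊓ Q)) :
    ∃ a ∈ O P, ∃ b ∈ O Q, t = b - a := by
  have := nonempty_inf P Q
  obtain ⟨t', rfl⟩ := exists_sec ht
  obtain ⟨a, b, hab⟩ := split_sec h t'
  refine ⟨- X.germToFunctionField P a, neg_mem (germ_mem a), - X.germToFunctionField Q b,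
    neg_mem (germ_mem b), ?_⟩
  rw [hab, map_sub, germ_rs, germ_rs]
  ring

end K857.OReg
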