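import Groth.Agent.S0002
import Groth.Agent.Biell.K857.OSplit
import Groth.Agent.CurvesB.UnitCoh

/-!
# The class map `O(V ⊓ V') → H¹(f⁻¹A, O)` as a semilinear map over `O(A)`
-/

set_option autoImplicit false
universe u

open CategoryTheory CategoryTheory.Limits AlgebraicGeometry TopologicalSpace Opposite
open Groth.Agent.Picfga.RegLocus Groth.Agent
open K857.OReg

namespace K857.ClassMap

section general

variable {Y : Scheme.{u}} (R : Type u) [CommRing R] [Y.Over (Spec (CommRingCat.of R))]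

/-- the class in `H¹(Y, O)` of a function on the intersection of two opens -/
noncomputable def cl₀ {W W' : Y.Opens} (h : W ⊔ W' = ⊤) :
    Γ(Y, W ⊓ W') →+ Coh.HH Y (Coh.structureModule Y) 1 :=
  AddMonoidHom.mk' (fun t => Picfga.ChiCech.h1Map R (Coh.structureModule Y) h
    (Picfga.ChiCech.toSecA (show Γ(Coh.structureModule Y, W ⊓ W') from t)))
    fun a b => map_add (Picfga.ChiCech.h1Map R (Coh.structureModule Y) h) _ _

theorem cl₀_surjective {W W' : Y.Opens} (h : W ⊔ W' = ⊤) (hW : IsAffineOpen W) (hW' : IsAffineOpen W') :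
    Function.Surjective (cl₀ R h) := by
  have := CurvesC.UnitCoh.isQCoh_unit Y
  intro m
  obtain ⟨t, ht⟩ := Picfga.ChiCech.h1Map_surjective R (Coh.structureModule Y) this h hW hW' m
  exact ⟨Picfga.ChiCech.toSecA.symm t, ht⟩

theorem cl₀_smul {W W' : Y.Opens} (h : W ⊔ W' = ⊤) (r : R) (t : Γ(Y, W ⊓ W')) :
    cl₀ R h (Picfga.ChiCech.str R (W ⊓ W') r * t) = r • cl₀ R h t :=
  (Picfga.ChiCech.h1Map R (Coh.structureModule Y) h).map_smul r _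

theorem cl₀_eq_zero_iff {W W' : Y.Opens} (h : W ⊔ W' = ⊤) (t : Γ(Y, W ⊓ W')) :
    cl₀ R h t = 0 ↔ ∃ (a : Γ(Y, W)) (b : Γ(Y, W')), t = rs inf_le_right b - rs inf_le_left a := by
  have h1 := Picfga.ChiCech.toH1_eq_zero_iff (Y := Y.toTopCat) (Coh.toAb (Coh.structureModule Y)) h t
  have e1 : ∀ (a : Γ(Y, W)) (b : Γ(Y, W')), (rs inf_le_left a - rs inf_le_right b : Γ(Y, W ⊓ W')) =
      rs inf_le_right (-b) - rs inf_le_left (-a) := fun a b => by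
    rw [map_neg, map_neg, neg_sub_neg]
  refine h1.trans ⟨?_, ?_⟩
  · rintro ⟨a, b, hab⟩
    exact ⟨(show Γ(Y, W) from -a), (show Γ(Y, W') from -b), hab.symm.trans (e1 a b)⟩
  · rintro ⟨a, b, hab⟩
    refine ⟨(show Γ(Y, W) from -a), (show Γ(Y, W') from -b), ?_⟩
    refine (e1 (-a) (-b)).trans ?_
    rw [neg_neg, neg_neg, hab]

end general

theorem exists_fin {X E : Scheme.{u}} (f : X ⟶ E) [IsProper f] [IsLocallyNoetherian E] {A : E.Opens}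
    (hA : IsAffineOpen A) {V V' : X.Opens} (hV : IsAffineOpen V) (hV' : IsAffineOpen V')
    (hcov : V ⊔ V' = f ⁻¹ᵁ A) (hVA : V ⊓ V' ≤ f ⁻¹ᵁ A) :
    ∃ (M : Type u) (_ : AddCommGroup M) (_ : Module Γ(E, A) M) (cl : Γ(X, V ⊓ V') →+ M),
      Module.Finite Γ(E, A) M ∧ Function.Surjective cl ∧
      (∀ r t, cl (f.appLE A (V ⊓ V') hVA r * t) = r • cl t) ∧
      (∀ t, cl t = 0 ↔ ∃ (a : Γ(X, V)) (b : Γ(X, V')), t = rs inf_le_right b - rs inf_le_left a) := by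
  let Y : Scheme.{u} := (f ⁻¹ᵁ A : X.Opens)
  let ι : Y ⟶ X := (f ⁻¹ᵁ A).ι
  let s : Y ⟶ Spec (CommRingCat.of Γ(E, A)) := (f ∣_ A) ≫ hA.isoSpec.hom
  let _ : Y.Over (Spec (CommRingCat.of Γ(E, A))) := ⟨s⟩
  have hs : IsProper (Y ↘ Spec (CommRingCat.of Γ(E, A))) := by
    change IsProper ((f ∣_ A) ≫ hA.isoSpec.hom)
    infer_instance
  have : IsNoetherianRing Γ(E, A) := IsLocallyNoetherian.component_noetherian ⟨A, hA⟩
  have hVr : V ≤ ι.opensRange := by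
    rw [Scheme.Opens.opensRange_ι, ← hcov]; exact le_sup_left
  have hVr' : V' ≤ ι.opensRange := by
    rw [Scheme.Opens.opensRange_ι, ← hcov]; exact le_sup_right
  have hc : ι ⁻¹ᵁ V ⊔ ι ⁻¹ᵁ V' = ⊤ := by
    have h1 : ι ⁻¹ᵁ (V ⊔ V') = ⊤ := by
      rw [hcov]
      exact Scheme.Opens.ι_preimage_self _
    exact h1
  have hWV : IsAffineOpen (ι ⁻¹ᵁ V) := hV.preimage_of_isOpenImmersion ι hVr
  have hWV' : IsAffineOpen (ι ⁻¹ᵁ V') := hV'.preimage_of_isOpenImmersion ι hVr'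
  have i1 : IsIso (ι.app V) := ι.isIso_app V hVr
  have i2 : IsIso (ι.app V') := ι.isIso_app V' hVr'
  have i3 : IsIso (ι.app (V ⊓ V')) := ι.isIso_app _ (inf_le_left.trans hVr)
  have b1 : Function.Bijective (ι.app V) := (asIso (ι.app V)).commRingCatIsoToRingEquiv.bijective
  have b2 : Function.Bijective (ι.app V') := (asIso (ι.app V')).commRingCatIsoToRingEquiv.bijective
  obtain ⟨φ, b3, hn1, hn2, hstr⟩ : ∃ φ : Γ(X, V ⊓ V') →+* Γ(Y, ι ⁻¹ᵁ V ⊓ ι ⁻¹ᵁ V'),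
      Function.Bijective φ ∧ (∀ a : Γ(X, V), φ (rs inf_le_left a) = rs inf_le_left (ι.app V a)) ∧
      (∀ a : Γ(X, V'), φ (rs inf_le_right a) = rs inf_le_right (ι.app V' a)) ∧
      ∀ r : Γ(E, A), φ (f.appLE A (V ⊓ V') hVA r) =
        Picfga.ChiCech.str Γ(E, A) (ι ⁻¹ᵁ V ⊓ ι ⁻¹ᵁ V') r := by
    refine ⟨(ι.app (V ⊓ V')).hom, (asIso (ι.app (V ⊓ V'))).commRingCatIsoToRingEquiv.bijective,
      fun a => ?_, fun a => ?_, fun r => ?_⟩
    · have := ι.naturality (homOfLE (inf_le_left : V ⊓ V' ≤ V)).op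
      exact congr($(this).hom a)
    · have := ι.naturality (homOfLE (inf_le_right : V ⊓ V' ≤ V')).op
      exact congr($(this).hom a)
    · have e0 : s ≫ hA.fromSpec = ι ≫ f := by
        change ((f ∣_ A) ≫ hA.isoSpec.hom) ≫ hA.fromSpec = (f ⁻¹ᵁ A).ι ≫ f
        rw [Category.assoc, IsAffineOpen.isoSpec_hom_fromSpec, morphismRestrict_ι]
      have hle : ι ⁻¹ᵁ (V ⊓ V') ≤ (ι ≫ f) ⁻¹ᵁ A := ι.preimage_mono hVA
      have hle' : ι ⁻¹ᵁ (V ⊓ V') ≤ (s ≫ hA.fromSpec) ⁻¹ᵁ A := by rw [e0]; exact hle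
      have e1 : f.appLE A (V ⊓ V') hVA ≫ ι.app (V ⊓ V') = (ι ≫ f).appLE A (ι ⁻¹ᵁ (V ⊓ V')) hle := by
        rw [Scheme.Hom.app_eq_appLE, Scheme.Hom.appLE_comp_appLE]
      have e2 : (ι ≫ f).appLE A (ι ⁻¹ᵁ (V ⊓ V')) hle =
          (s ≫ hA.fromSpec).appLE A (ι ⁻¹ᵁ (V ⊓ V')) hle' := by
        simp only [e0]
      have hle2 : (⊤ : (Spec Γ(E, A)).Opens) ≤ hA.fromSpec ⁻¹ᵁ A := hA.fromSpec_preimage_self.ge
      have hle3 : ι ⁻¹ᵁ (V ⊓ V') ≤ s ⁻¹ᵁ ⊤ := fun _ _ => trivial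
      have e3 : hA.fromSpec.appLE A ⊤ hle2 ≫ s.appLE ⊤ (ι ⁻¹ᵁ (V ⊓ V')) hle3 =
          (s ≫ hA.fromSpec).appLE A (ι ⁻¹ᵁ (V ⊓ V')) hle' :=
        Scheme.Hom.appLE_comp_appLE s hA.fromSpec A ⊤ (ι ⁻¹ᵁ (V ⊓ V')) hle2 hle3
      have e4 : hA.fromSpec.appLE A ⊤ hle2 = (Scheme.ΓSpecIso Γ(E, A)).inv := by
        rw [Scheme.Hom.appLE, hA.fromSpec_app_self, Category.assoc, ← Functor.map_comp]
        convert Category.comp_id _
        exact (Spec Γ(E, A)).presheaf.map_id _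
      have e5 : ι.app (V ⊓ V') (f.appLE A (V ⊓ V') hVA r) =
          s.appLE ⊤ (ι ⁻¹ᵁ (V ⊓ V')) hle3 ((Scheme.ΓSpecIso Γ(E, A)).inv r) := by
        change (f.appLE A (V ⊓ V') hVA ≫ ι.app (V ⊓ V')) r =
          ((Scheme.ΓSpecIso Γ(E, A)).inv ≫ s.appLE ⊤ (ι ⁻¹ᵁ (V ⊓ V')) hle3) r
        rw [e1, e2, ← e3, e4]
      refine e5.trans ?_
      rfl
  refine ⟨Coh.HH Y (Coh.structureModule Y) 1, inferInstance, inferInstance,
    (cl₀ Γ(E, A) hc).comp φ.toAddMonoidHom, ?_, ?_, ?_, ?_⟩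
  · exact Groth.Agent.S0002.result Γ(E, A) Y (Coh.structureModule Y)
      (CurvesB.UnitCoh.isCoh_structureModule Y) 1
  · exact (cl₀_surjective Γ(E, A) hc hWV hWV').comp b3.2
  · intro r t
    change cl₀ Γ(E, A) hc (φ (f.appLE A (V ⊓ V') hVA r * t)) = r • cl₀ Γ(E, A) hc (φ t)
    rw [map_mul, hstr, cl₀_smul]
  · intro t
    change cl₀ Γ(E, A) hc (φ t) = 0 ↔ _
    rw [cl₀_eq_zero_iff]
    constructor
    · rintro ⟨a, b, hab⟩
      obtain ⟨a, rfl⟩ := b1.2 a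
      obtain ⟨b, rfl⟩ := b2.2 b
      refine ⟨a, b, b3.1 ?_⟩
      rw [map_sub, hn1, hn2]
      exact hab
    · rintro ⟨a, b, rfl⟩
      exact ⟨ι.app V a, ι.app V' b, by rw [map_sub, hn1, hn2]⟩

end K857.ClassMap
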