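import Groth.Agent.Biell.K857.FibReg
import Mathlib.AlgebraicGeometry.AlgClosed.Basic
import Mathlib.AlgebraicGeometry.Morphisms.Proper

/-!
# Values of functions at closed points of a proper variety over an algebraically closed field
-/

set_option autoImplicit false
universe u

open CategoryTheory CategoryTheory.Limits AlgebraicGeometry TopologicalSpace Opposite
open Groth.Agent.Picfga.RegLocus Groth.Agent
open K857.OReg K857.FibReg

namespace K857.ClosedPt

variable {k : Type u} [Field k] {F : Scheme.{u}} [IsIntegral F]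

theorem inv_mem (s : F ⟶ Spec (CommRingCat.of k)) [IsProper s] :
    ∀ c ∈ O (⊤ : F.Opens), c ≠ 0 → c⁻¹ ∈ O (⊤ : F.Opens) := by
  intro c hc hc0
  have : Nonempty (⊤ : F.Opens) := ⟨⟨genericPoint F, trivial⟩⟩
  obtain ⟨a, rfl⟩ := exists_sec hc
  have ha : a ≠ 0 := fun h0 => hc0 (by rw [h0, map_zero])
  obtain ⟨b, hb⟩ := (isField_of_universallyClosed k s).mul_inv_cancel ha
  have h1 : F.germToFunctionField ⊤ a * F.germToFunctionField ⊤ b = 1 := by
    rw [← map_mul, hb, map_one]
  rw [← eq_inv_of_mul_eq_one_right h1]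
  exact germ_mem b

theorem exists_value [IsAlgClosed k] (s : F ⟶ Spec (CommRingCat.of k)) [LocallyOfFiniteType s] {U : F.Opens}
    [Nonempty U] {w : F} (hw : w ∈ U) (hcl : IsClosed ({w} : Set F)) :
    ∀ g ∈ O U, ∃ c ∈ O (⊤ : F.Opens), Van w (g - c) := by
  intro g hg
  have : Nonempty (⊤ : F.Opens) := ⟨⟨genericPoint F, trivial⟩⟩
  obtain ⟨t, rfl⟩ := exists_sec hg
  let wk := pointOfClosedPoint s w hcl
  have hwk : wk ≫ s = 𝟙 _ := pointOfClosedPoint_comp s w hcl
  have hU : wk ⁻¹ᵁ U = ⊤ := by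
    ext y
    refine ⟨fun _ => trivial, fun _ => ?_⟩
    change wk y ∈ U
    rw [pointOfClosedPoint_apply]; exact hw
  -- the value
  let τ : Γ(Spec (CommRingCat.of k), wk ⁻¹ᵁ U) := wk.app U t
  let τ' : Γ(Spec (CommRingCat.of k), ⊤) := (Spec (CommRingCat.of k)).presheaf.map (eqToHom hU.symm).op τ
  let c : Γ(F, ⊤) := s.appTop τ'
  have hc : wk.appTop c = τ' := by
    have h1 : s.appTop ≫ wk.appTop = 𝟙 _ := by
      rw [← Scheme.Hom.comp_appTop, hwk]
      rfl
    exact congr($(h1).hom τ')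
  have hz : wk.app U (t - rs le_top c) = 0 := by
    rw [map_sub]
    have h2 : wk.app U (rs le_top c) = (Spec (CommRingCat.of k)).presheaf.map (homOfLE le_top).op (wk.appTop c) := by
      have := wk.naturality (homOfLE (le_top : U ≤ ⊤)).op
      exact congr($(this).hom c)
    rw [h2, hc, sub_eq_zero]
    change τ = ((Spec (CommRingCat.of k)).presheaf.map (eqToHom hU.symm).op ≫
      (Spec (CommRingCat.of k)).presheaf.map (homOfLE (le_top : wk ⁻¹ᵁ U ≤ ⊤)).op) τ
    rw [← Functor.map_comp, Subsingleton.elim ((eqToHom hU.symm).op ≫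
      (homOfLE (le_top : wk ⁻¹ᵁ U ≤ ⊤)).op) (𝟙 _), CategoryTheory.Functor.map_id]
    rfl
  refine ⟨F.germToFunctionField ⊤ c, germ_mem c, ?_⟩
  refine ⟨F.presheaf.germ U w hw (t - rs le_top c), ?_, ?_⟩
  · rw [IsLocalRing.mem_maximalIdeal, mem_nonunits_iff, ← Scheme.mem_basicOpen _ _ _ hw]
    intro h3
    have hw' : ∀ o : Spec (CommRingCat.of k), wk o = w := pointOfClosedPoint_apply s w hcl
    let o : Spec (CommRingCat.of k) := IsLocalRing.closedPoint k
    have h4 : o ∈ wk ⁻¹ᵁ (F.basicOpen (t - rs le_top c)) := by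
      change wk o ∈ F.basicOpen (t - rs le_top c)
      rw [hw']; exact h3
    rw [Scheme.preimage_basicOpen, hz, Scheme.basicOpen_zero] at h4
    exact h4
  · rw [F.algebraMap_germ_eq_germToFunctionField hw, map_sub, germ_rs]

end K857.ClosedPt
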