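import Groth.Agent.CurvesB.MVOne
import Mathlib.Topology.Sheaves.SheafCondition.UniqueGluing

/-!
# Comparison of classes in `H¹` defined by two covers by two opens
-/

set_option autoImplicit false
universe w v u

open CategoryTheory Abelian Limits Opposite TopologicalSpace Topology

noncomputable section

namespace K857.Cmp

section Abstract

variable {A : Type u} [Category.{v} A] [Abelian A] [HasExt.{w} A]

theorem ext_compare {S S' T : ShortComplex A} (hS : S.ShortExact) (hS' : S'.ShortExact)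
    (hT : T.ShortExact) (f : S ⟶ T) (f' : S' ⟶ T) {D : A} (i : D ⟶ S.X₃) (i' : D ⟶ S'.X₃)
    (h : i ≫ f.τ₃ = i' ≫ f'.τ₃) :
    (Ext.mk₀ i).comp (hS.extClass.comp (Ext.mk₀ f.τ₁) (add_zero 1)) (zero_add 1) =
      (Ext.mk₀ i').comp (hS'.extClass.comp (Ext.mk₀ f'.τ₁) (add_zero 1)) (zero_add 1) := by
  rw [ShortComplex.ShortExact.extClass_naturality hS hT f,
    ShortComplex.ShortExact.extClass_naturality hS' hT f', ← Ext.comp_assoc_of_second_deg_zero,
    ← Ext.comp_assoc_of_second_deg_zero, Ext.mk₀_comp_mk₀, Ext.mk₀_comp_mk₀, h]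

end Abstract

open Groth.Agent.CohtopA.FreeAb Groth.Agent.CohqA Groth.Agent.CurvesB

variable {X : TopCat.{u}}

/-- evaluation -/
def ev (U : Opens X) (F : CohTop.Ab X) :
    (freeAb (Opens.grothendieckTopology X) U ⟶ F) ≃+ F.obj.obj (op U) :=
  AddEquiv.ofBijective (homEv U F) (homEv_bijective U F)

theorem ev_comp {U : Opens X} {F G : CohTop.Ab X}
    (f : freeAb (Opens.grothendieckTopology X) U ⟶ F) (g : F ⟶ G) :
    ev U G (f ≫ g) = g.hom.app (op U) (ev U F f) := homEv_comp f g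

theorem ev_map {U V : Opens X} (h : U ≤ V) {F : CohTop.Ab X}
    (f : freeAb (Opens.grothendieckTopology X) V ⟶ F) :
    ev U F (freeAbMap (Opens.grothendieckTopology X) (homOfLE h) ≫ f) =
      F.obj.map (homOfLE h).op (ev V F f) := homEv_freeAbMap (homOfLE h) f

/-- the class in `H¹(D, F)` of a section over `U ⊓ V`, `D ≤ U ⊔ V`. -/
def cls (F : CohTop.Ab X) {U V D : Opens X} (h : D ≤ U ⊔ V) :
    F.obj.obj (op (U ⊓ V)) →+ CohTop.HU F 1 D :=
  (CohTop.res F 1 h).comp ((MV.δ F U V 0).comp (MVOne.secE F (U ⊓ V)).symm.toAddMonoidHom)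

theorem cls_apply (F : CohTop.Ab X) {U V D : Opens X} (h : D ≤ U ⊔ V) (t : F.obj.obj (op (U ⊓ V))) :
    cls F h t = (Ext.mk₀ (freeAbMap (Opens.grothendieckTopology X) (homOfLE h))).comp
      ((MV.shortExact U V).extClass.comp (Ext.mk₀ ((ev (U ⊓ V) F).symm t)) (add_zero 1))
      (zero_add 1) := rfl

variable {F G : CohTop.Ab X} (ι : F ⟶ G) [Mono ι]

/-- the quotient sequence -/
theorem shortExact_coker : (ShortComplex.mk ι (cokernel.π ι) (cokernel.condition ι)).ShortExact where
  exact := ShortComplex.exact_cokernel ι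

section

variable {U U' : Opens X} (t : F.obj.obj (op (U ⊓ U'))) (g : G.obj.obj (op U)) (g' : G.obj.obj (op U'))
  (ht : ι.hom.app (op (U ⊓ U')) t = G.obj.map (homOfLE (inf_le_left : U ⊓ U' ≤ U)).op g -
    G.obj.map (homOfLE (inf_le_right : U ⊓ U' ≤ U')).op g')

include ht in
theorem comm₁ : biprod.lift (freeAbMap (Opens.grothendieckTopology X) (homOfLE inf_le_left : U ⊓ U' ⟶ U))
        (-(freeAbMap (Opens.grothendieckTopology X) (homOfLE inf_le_right : U ⊓ U' ⟶ U'))) ≫
      biprod.desc ((ev U G).symm g) ((ev U' G).symm g') = (ev (U ⊓ U') F).symm t ≫ ι := by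
  rw [biprod.lift_desc]
  apply (ev (U ⊓ U') G).injective
  rw [map_add, Preadditive.neg_comp, map_neg, ev_map, ev_map, ev_comp, AddEquiv.apply_symm_apply,
    AddEquiv.apply_symm_apply, AddEquiv.apply_symm_apply, ht, sub_eq_add_neg]

include ht in
theorem comm₂ : biprod.lift (freeAbMap (Opens.grothendieckTopology X) (homOfLE inf_le_left : U ⊓ U' ⟶ U))
        (-(freeAbMap (Opens.grothendieckTopology X) (homOfLE inf_le_right : U ⊓ U' ⟶ U'))) ≫
      (biprod.desc ((ev U G).symm g) ((ev U' G).symm g') ≫ cokernel.π ι) = 0 := by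
  rw [← Category.assoc, comm₁ ι t g g' ht, Category.assoc, cokernel.condition, comp_zero]

/-- the induced map to the quotient -/
def toQ : freeAb (Opens.grothendieckTopology X) (U ⊔ U') ⟶ cokernel ι :=
  haveI := (MV.shortExact U U').epi_g
  (MV.shortExact U U').exact.desc (biprod.desc ((ev U G).symm g) ((ev U' G).symm g') ≫ cokernel.π ι)
    (comm₂ ι t g g' ht)

theorem g_toQ : biprod.desc (freeAbMap (Opens.grothendieckTopology X) (homOfLE le_sup_left : U ⟶ U ⊔ U'))
        (freeAbMap (Opens.grothendieckTopology X) (homOfLE le_sup_right : U' ⟶ U ⊔ U')) ≫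
      toQ ι t g g' ht = biprod.desc ((ev U G).symm g) ((ev U' G).symm g') ≫ cokernel.π ι :=
  haveI := (MV.shortExact U U').epi_g
  (MV.shortExact U U').exact.g_desc _ _

/-- the morphism of short complexes -/
def toS : (ShortComplex.mk (X₁ := freeAb (Opens.grothendieckTopology X) (U ⊓ U'))
      (biprod.lift (freeAbMap (Opens.grothendieckTopology X) (homOfLE inf_le_left : U ⊓ U' ⟶ U))
        (-(freeAbMap (Opens.grothendieckTopology X) (homOfLE inf_le_right : U ⊓ U' ⟶ U'))))
      (biprod.desc (freeAbMap (Opens.grothendieckTopology X) (homOfLE le_sup_left : U ⟶ U ⊔ U'))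
        (freeAbMap (Opens.grothendieckTopology X) (homOfLE le_sup_right : U' ⟶ U ⊔ U')))
      (Opens.mayerVietorisSquare U U').shortComplex.zero) ⟶
    ShortComplex.mk ι (cokernel.π ι) (cokernel.condition ι) where
  τ₁ := (ev (U ⊓ U') F).symm t
  τ₂ := biprod.desc ((ev U G).symm g) ((ev U' G).symm g')
  τ₃ := toQ ι t g g' ht
  comm₁₂ := (comm₁ ι t g g' ht).symm
  comm₂₃ := (g_toQ ι t g g' ht).symm

theorem res_toQ_left {W : Opens X} (hW : W ≤ U) :
    freeAbMap (Opens.grothendieckTopology X) (homOfLE (hW.trans le_sup_left : W ≤ U ⊔ U')) ≫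
      toQ ι t g g' ht = (ev W G).symm (G.obj.map (homOfLE hW).op g) ≫ cokernel.π ι := by
  have h1 : freeAbMap (Opens.grothendieckTopology X) (homOfLE (hW.trans le_sup_left : W ≤ U ⊔ U')) =
      freeAbMap (Opens.grothendieckTopology X) (homOfLE hW) ≫ biprod.inl ≫
        biprod.desc (freeAbMap (Opens.grothendieckTopology X) (homOfLE le_sup_left : U ⟶ U ⊔ U'))
        (freeAbMap (Opens.grothendieckTopology X) (homOfLE le_sup_right : U' ⟶ U ⊔ U')) := by
    rw [biprod.inl_desc, ← Functor.map_comp]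
    rfl
  have h2 : freeAbMap (Opens.grothendieckTopology X) (homOfLE hW) ≫ (ev U G).symm g =
      (ev W G).symm (G.obj.map (homOfLE hW).op g) := by
    apply (ev W G).injective
    rw [ev_map, AddEquiv.apply_symm_apply, AddEquiv.apply_symm_apply]
  rw [h1, Category.assoc, Category.assoc, g_toQ ι t g g' ht, biprod.inl_desc_assoc, ← Category.assoc, h2]

theorem res_toQ_right {W : Opens X} (hW : W ≤ U') :
    freeAbMap (Opens.grothendieckTopology X) (homOfLE (hW.trans le_sup_right : W ≤ U ⊔ U')) ≫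
      toQ ι t g g' ht = (ev W G).symm (G.obj.map (homOfLE hW).op g') ≫ cokernel.π ι := by
  have h1 : freeAbMap (Opens.grothendieckTopology X) (homOfLE (hW.trans le_sup_right : W ≤ U ⊔ U')) =
      freeAbMap (Opens.grothendieckTopology X) (homOfLE hW) ≫ biprod.inr ≫
        biprod.desc (freeAbMap (Opens.grothendieckTopology X) (homOfLE le_sup_left : U ⟶ U ⊔ U'))
        (freeAbMap (Opens.grothendieckTopology X) (homOfLE le_sup_right : U' ⟶ U ⊔ U')) := by
    rw [biprod.inr_desc, ← Functor.map_comp]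
    rfl
  have h2 : freeAbMap (Opens.grothendieckTopology X) (homOfLE hW) ≫ (ev U' G).symm g' =
      (ev W G).symm (G.obj.map (homOfLE hW).op g') := by
    apply (ev W G).injective
    rw [ev_map, AddEquiv.apply_symm_apply, AddEquiv.apply_symm_apply]
  rw [h1, Category.assoc, Category.assoc, g_toQ ι t g g' ht, biprod.inr_desc_assoc, ← Category.assoc, h2]

end

omit [Mono ι] in
/-- two sections of `G` with difference in `F` are equal modulo `F` -/
theorem π_eq {W : Opens X} (a b : G.obj.obj (op W)) (s : F.obj.obj (op W))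
    (h : ι.hom.app (op W) s = a - b) :
    (ev W G).symm a ≫ cokernel.π ι = (ev W G).symm b ≫ cokernel.π ι := by
  have h1 : (ev W G).symm a = (ev W G).symm b + (ev W F).symm s ≫ ι := by
    apply (ev W G).injective
    rw [map_add, ev_comp, AddEquiv.apply_symm_apply, AddEquiv.apply_symm_apply,
      AddEquiv.apply_symm_apply, h]
    abel
  rw [h1, Preadditive.add_comp, Category.assoc, cokernel.condition, comp_zero, add_zero]

theorem hom_ext₂ {Q : CohTop.Ab X} {D W W' : Opens X} (h : D ≤ W ⊔ W') (hW : W ≤ D) (hW' : W' ≤ D)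
    {a b : freeAb (Opens.grothendieckTopology X) D ⟶ Q}
    (h1 : freeAbMap (Opens.grothendieckTopology X) (homOfLE hW) ≫ a =
      freeAbMap (Opens.grothendieckTopology X) (homOfLE hW) ≫ b)
    (h2 : freeAbMap (Opens.grothendieckTopology X) (homOfLE hW') ≫ a =
      freeAbMap (Opens.grothendieckTopology X) (homOfLE hW') ≫ b) : a = b := by
  apply (ev D Q).injective
  have h1' := congrArg (ev W Q) h1
  have h2' := congrArg (ev W' Q) h2
  rw [ev_map, ev_map] at h1' h2'
  exact TopCat.Sheaf.eq_of_locally_eq₂ (X := X) Q (homOfLE hW) (homOfLE hW') h _ _ h1' h2'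

theorem cls_eq {U U' V V' D : Opens X} (hU : D ≤ U ⊔ U') (hV : D ≤ V ⊔ V')
    (t : F.obj.obj (op (U ⊓ U'))) (g : G.obj.obj (op U)) (g' : G.obj.obj (op U'))
    (ht : ι.hom.app (op (U ⊓ U')) t = G.obj.map (homOfLE (inf_le_left : U ⊓ U' ≤ U)).op g -
      G.obj.map (homOfLE (inf_le_right : U ⊓ U' ≤ U')).op g')
    (d : F.obj.obj (op (V ⊓ V'))) (h : G.obj.obj (op V)) (h' : G.obj.obj (op V'))
    (hd : ι.hom.app (op (V ⊓ V')) d = G.obj.map (homOfLE (inf_le_left : V ⊓ V' ≤ V)).op h -
      G.obj.map (homOfLE (inf_le_right : V ⊓ V' ≤ V')).op h')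
    (s₁ : F.obj.obj (op ((D ⊓ U) ⊓ V))) (e₁ : ι.hom.app _ s₁ =
      G.obj.map (homOfLE (inf_le_left.trans inf_le_right : (D ⊓ U) ⊓ V ≤ U)).op g -
      G.obj.map (homOfLE (inf_le_right : (D ⊓ U) ⊓ V ≤ V)).op h)
    (s₂ : F.obj.obj (op ((D ⊓ U) ⊓ V'))) (e₂ : ι.hom.app _ s₂ =
      G.obj.map (homOfLE (inf_le_left.trans inf_le_right : (D ⊓ U) ⊓ V' ≤ U)).op g -
      G.obj.map (homOfLE (inf_le_right : (D ⊓ U) ⊓ V' ≤ V')).op h')
    (s₃ : F.obj.obj (op ((D ⊓ U') ⊓ V))) (e₃ : ι.hom.app _ s₃ =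
      G.obj.map (homOfLE (inf_le_left.trans inf_le_right : (D ⊓ U') ⊓ V ≤ U')).op g' -
      G.obj.map (homOfLE (inf_le_right : (D ⊓ U') ⊓ V ≤ V)).op h)
    (s₄ : F.obj.obj (op ((D ⊓ U') ⊓ V'))) (e₄ : ι.hom.app _ s₄ =
      G.obj.map (homOfLE (inf_le_left.trans inf_le_right : (D ⊓ U') ⊓ V' ≤ U')).op g' -
      G.obj.map (homOfLE (inf_le_right : (D ⊓ U') ⊓ V' ≤ V')).op h') :
    cls F hU t = cls F hV d := by
  rw [cls_apply, cls_apply]
  refine ext_compare (MV.shortExact U U') (MV.shortExact V V') (shortExact_coker ι)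
    (toS ι t g g' ht) (toS ι d h h' hd) _ _ ?_
  change freeAbMap (Opens.grothendieckTopology X) (homOfLE hU) ≫ toQ ι t g g' ht =
    freeAbMap (Opens.grothendieckTopology X) (homOfLE hV) ≫ toQ ι d h h' hd
  have comp : ∀ {W W' W'' : Opens X} (a : W ≤ W') (b : W' ≤ W''),
      freeAbMap (Opens.grothendieckTopology X) (homOfLE a) ≫
        freeAbMap (Opens.grothendieckTopology X) (homOfLE b) =
      freeAbMap (Opens.grothendieckTopology X) (homOfLE (a.trans b)) := fun a b => by
    rw [← Functor.map_comp]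
    rfl
  have cV : ∀ W : Opens X, D ⊓ W ≤ ((D ⊓ W) ⊓ V) ⊔ ((D ⊓ W) ⊓ V') := fun W => by
    rw [← inf_sup_left]
    exact le_inf le_rfl (inf_le_left.trans hV)
  refine hom_ext₂ (W := D ⊓ U) (W' := D ⊓ U') ?_ inf_le_left inf_le_left ?_ ?_
  · rw [← inf_sup_left]
    exact le_inf le_rfl hU
  · refine hom_ext₂ (W := (D ⊓ U) ⊓ V) (W' := (D ⊓ U) ⊓ V') (cV U) inf_le_left inf_le_left ?_ ?_
    · rw [← Category.assoc, ← Category.assoc, ← Category.assoc, ← Category.assoc, comp, comp, comp]
      exact (res_toQ_left ι t g g' ht (inf_le_left.trans inf_le_right)).trans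
        ((π_eq ι _ _ s₁ e₁).trans (res_toQ_left ι d h h' hd inf_le_right).symm)
    · rw [← Category.assoc, ← Category.assoc, ← Category.assoc, ← Category.assoc, comp, comp, comp]
      exact (res_toQ_left ι t g g' ht (inf_le_left.trans inf_le_right)).trans
        ((π_eq ι _ _ s₂ e₂).trans (res_toQ_right ι d h h' hd inf_le_right).symm)
  · refine hom_ext₂ (W := (D ⊓ U') ⊓ V) (W' := (D ⊓ U') ⊓ V') (cV U') inf_le_left inf_le_left ?_ ?_
    · rw [← Category.assoc, ← Category.assoc, ← Category.assoc, ← Category.assoc, comp, comp, comp]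
      exact (res_toQ_right ι t g g' ht (inf_le_left.trans inf_le_right)).trans
        ((π_eq ι _ _ s₃ e₃).trans (res_toQ_left ι d h h' hd inf_le_right).symm)
    · rw [← Category.assoc, ← Category.assoc, ← Category.assoc, ← Category.assoc, comp, comp, comp]
      exact (res_toQ_right ι t g g' ht (inf_le_left.trans inf_le_right)).trans
        ((π_eq ι _ _ s₄ e₄).trans (res_toQ_right ι d h h' hd inf_le_right).symm)

end K857.Cmp
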