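import Groth.Agent.Picfga.RegLocus
import Mathlib.AlgebraicGeometry.Properties

/-!
# Rings of rational functions regular on an open of an integral scheme
-/

set_option autoImplicit false
universe u

open CategoryTheory CategoryTheory.Limits AlgebraicGeometry TopologicalSpace Opposite
open Groth.Agent.Picfga.RegLocus

namespace K857.OReg

variable {X : Scheme.{u}} [IsIntegral X]

/-- rational functions regular at every point of `U` -/
noncomputable def O (U : X.Opens) : Subring X.functionField where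
  carrier := {g | ∀ x ∈ U, g ∈ Set.range (algebraMap (X.presheaf.stalk x) X.functionField)}
  mul_mem' {g h} hg hh x hx := by
    obtain ⟨a, ha⟩ := hg x hx
    obtain ⟨b, hb⟩ := hh x hx
    exact ⟨a * b, by rw [map_mul, ha, hb]⟩
  one_mem' x _ := ⟨1, map_one _⟩
  add_mem' {g h} hg hh x hx := by
    obtain ⟨a, ha⟩ := hg x hx
    obtain ⟨b, hb⟩ := hh x hx
    exact ⟨a + b, by rw [map_add, ha, hb]⟩
  zero_mem' x _ := ⟨0, map_zero _⟩
  neg_mem' {g} hg x hx := by
    obtain ⟨a, ha⟩ := hg x hx
    exact ⟨-a, by rw [map_neg, ha]⟩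

theorem mem_O {U : X.Opens} {g : X.functionField} : g ∈ O U ↔ U ≤ reg g := Iff.rfl

theorem mem_O' {U : X.Opens} {g : X.functionField} :
    g ∈ O U ↔ ∀ x ∈ U, g ∈ Set.range (algebraMap (X.presheaf.stalk x) X.functionField) := Iff.rfl

theorem O_mono {U V : X.Opens} (h : V ≤ U) : O U ≤ O V := fun _ hg x hx => hg x (h hx)

theorem mem_O_sup {U V : X.Opens} {g : X.functionField} (hU : g ∈ O U) (hV : g ∈ O V) :
    g ∈ O (U ⊔ V) := by
  intro x hx
  rcases hx with hx | hx
  · exact hU x hx
  · exact hV x hx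

theorem mem_O_of_cover {U : X.Opens} {g : X.functionField}
    (h : ∀ x ∈ U, ∃ V : X.Opens, x ∈ V ∧ g ∈ O V) : g ∈ O U := by
  intro x hx
  obtain ⟨V, hxV, hg⟩ := h x hx
  exact hg x hxV

theorem germ_mem {U : X.Opens} [Nonempty U] (a : Γ(X, U)) : X.germToFunctionField U a ∈ O U := by
  intro x hx
  exact ⟨X.presheaf.germ U x hx a, by rw [X.algebraMap_germ_eq_germToFunctionField]⟩

/-- restriction of functions -/
noncomputable abbrev rs {U V : X.Opens} (h : V ≤ U) : Γ(X, U) →+* Γ(X, V) :=
  (X.presheaf.map (homOfLE h).op).hom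

theorem germ_rs {U V : X.Opens} [Nonempty U] [Nonempty V] (h : V ≤ U) (a : Γ(X, U)) :
    X.germToFunctionField V (rs h a) = X.germToFunctionField U a :=
  TopCat.Presheaf.germ_res_apply X.presheaf (homOfLE h) _ (genericPoint_mem V) a

theorem exists_sec {U : X.Opens} [Nonempty U] {g : X.functionField} (h : g ∈ O U) :
    ∃ a : Γ(X, U), X.germToFunctionField U a = g := by
  have h' : U ≤ reg g := mem_O.mp h
  exact ⟨rs h' (sec g), by rw [germ_rs, germToFunctionField_sec]⟩

/-- `Γ(X, U) ≃ O U` -/
noncomputable def secEquiv (U : X.Opens) [Nonempty U] : Γ(X, U) ≃+* O U :=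
  RingEquiv.ofBijective
    ((X.germToFunctionField U).hom.codRestrict (O U) (fun a => germ_mem a))
    ⟨fun a b hab => X.germToFunctionField_injective U (congrArg Subtype.val hab), fun g => by
      obtain ⟨a, ha⟩ := exists_sec g.2
      exact ⟨a, Subtype.ext ha⟩⟩

theorem secEquiv_apply (U : X.Opens) [Nonempty U] (a : Γ(X, U)) :
    (secEquiv U a : X.functionField) = X.germToFunctionField U a := rfl

theorem nonempty_inf (U V : X.Opens) [Nonempty U] [Nonempty V] : Nonempty (U ⊓ V : X.Opens) :=
  ⟨⟨genericPoint X, genericPoint_mem U, genericPoint_mem V⟩⟩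

end K857.OReg
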