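import Groth.Agent.Biell.K857.Cmp
import Groth.Agent.Surf.K456.SecTriv
import Groth.Agent.Biell.K857.OReg

/-!
# Comparison of classes in `H¹`: modules on integral schemes
-/

set_option autoImplicit false
universe u

open CategoryTheory CategoryTheory.Limits AlgebraicGeometry TopologicalSpace Opposite
open Groth.Agent Groth.Agent.Fdesc.LocGen Groth.Agent.Picfga.RegLocus

namespace K857.CmpMod

variable {X : Scheme.{u}}

/-- The morphism of abelian sheaves underlying a morphism of modules. -/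
noncomputable abbrev abMap {M N : X.Modules} (φ : M ⟶ N) : Coh.toAb M ⟶ Coh.toAb N :=
  (SheafOfModules.toSheaf X.ringCatSheaf).map φ

theorem mono_abMap {M N : X.Modules} (φ : M ⟶ N) (h : ∀ U : X.Opens, Function.Injective (φ.app U)) :
    Mono (abMap φ) := by
  have h1 : ∀ U : (Opens X)ᵒᵖ, Mono ((abMap φ).hom.app U) := fun U => by
    rw [AddCommGrpCat.mono_iff_injective]
    exact h U.unop
  have h2 : Mono (abMap φ).hom := NatTrans.mono_of_mono_app _
  exact Sheaf.Hom.mono_of_presheaf_mono _ _ _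

/-- the class in `H¹(D, M)` of a section over `U ⊓ V` -/
noncomputable def clm (M : X.Modules) {U V D : X.Opens} (h : D ≤ U ⊔ V) :
    Γ(M, U ⊓ V) →+ CohTop.HU (X := X.toTopCat) (Coh.toAb M) 1 D :=
  Cmp.cls (X := X.toTopCat) (Coh.toAb M) h

section

variable (M : X.Modules) (N : X.Opens)

/-- the sheaf of sections over the intersection with `N` -/
noncomputable def jj : X.Modules :=
  (Scheme.Modules.pushforward N.ι).obj ((Scheme.Modules.restrictFunctor N.ι).obj M)

/-- the unit -/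
noncomputable def un : M ⟶ jj M N := (Scheme.Modules.restrictAdjunction N.ι).unit.app M

variable {N} in
/-- the section of `jj` given by a section over `N` -/
noncomputable def sj (W : X.Opens) (g : Γ(M, N)) : Γ(jj M N, W) :=
  (show Γ(M, N.ι ''ᵁ (N.ι ⁻¹ᵁ W)) from
    res M (show N.ι ''ᵁ (N.ι ⁻¹ᵁ W) ≤ N from by
      rw [Scheme.Hom.image_preimage_eq_opensRange_inf, Scheme.Opens.opensRange_ι]; exact inf_le_left) g)

theorem un_app (W : X.Opens) (t : Γ(M, W)) :
    (un M N).app W t = (show Γ(jj M N, W) from (show Γ(M, N.ι ''ᵁ (N.ι ⁻¹ᵁ W)) from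
      res M (N.ι.image_preimage_le W) t)) := rfl

theorem jj_res {W W' : X.Opens} (h : W' ≤ W) (g : Γ(M, N)) : res (jj M N) h (sj M W g) = sj M W' g := by
  have hle : N.ι ''ᵁ (N.ι ⁻¹ᵁ W') ≤ N.ι ''ᵁ (N.ι ⁻¹ᵁ W) := N.ι.image_mono (N.ι.preimage_mono h)
  have hN : N.ι ''ᵁ (N.ι ⁻¹ᵁ W) ≤ N := by
    rw [Scheme.Hom.image_preimage_eq_opensRange_inf, Scheme.Opens.opensRange_ι]; exact inf_le_left
  exact res_res M hN hle g

theorem un_sj {W : X.Opens} (hN : N ≤ W) (s : Γ(M, W)) : (un M N).app W s = sj M W (res M hN s) := by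
  rw [un_app, sj, res_res]

theorem sj_add (W : X.Opens) (g g' : Γ(M, N)) : sj M W (g - g') = sj M W g - sj M W g' :=
  map_sub (res M _) g g'

theorem un_injective [IsIntegral X] (hM : PicF.IsInvertible M) [Nonempty N] (W : X.Opens) :
    Function.Injective ((un M N).app W) := by
  rw [injective_iff_map_eq_zero]
  intro s hs
  by_cases hW : Nonempty W
  · have h1 : res M (N.ι.image_preimage_le W) s = 0 := hs
    refine K456.SecTriv.eq_zero_of_res hM (N.ι.image_preimage_le W) (x := genericPoint X) ?_ s h1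
    rw [Scheme.Hom.image_preimage_eq_opensRange_inf, Scheme.Opens.opensRange_ι]
    exact ⟨genericPoint_mem N, genericPoint_mem W⟩
  · have h2 : W = ⊥ := by
      ext x
      exact ⟨fun hx => (hW ⟨⟨x, hx⟩⟩).elim, fun hx => hx.elim⟩
    subst h2
    refine res_ext M (ι := PEmpty.{1}) (fun i => i.elim) (fun i => i.elim) ?_ (fun i => i.elim)
    exact bot_le

end

theorem clm_eq [IsIntegral X] {M : X.Modules} (hM : PicF.IsInvertible M) {U U' V V' D N : X.Opens}
    [Nonempty N] (hU : D ≤ U ⊔ U') (hV : D ≤ V ⊔ V') (hND : N ≤ D) (hNU : N ≤ U ⊓ U')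
    (hNV : N ≤ V ⊓ V') (t : Γ(M, U ⊓ U')) (g g' : Γ(M, N)) (ht : res M hNU t = g - g')
    (d : Γ(M, V ⊓ V')) (h h' : Γ(M, N)) (hd : res M hNV d = h - h')
    (s₁ : Γ(M, (D ⊓ U) ⊓ V))
    (e₁ : res M (le_inf (le_inf hND (hNU.trans inf_le_left)) (hNV.trans inf_le_left)) s₁ = g - h)
    (s₂ : Γ(M, (D ⊓ U) ⊓ V'))
    (e₂ : res M (le_inf (le_inf hND (hNU.trans inf_le_left)) (hNV.trans inf_le_right)) s₂ = g - h')
    (s₃ : Γ(M, (D ⊓ U') ⊓ V))
    (e₃ : res M (le_inf (le_inf hND (hNU.trans inf_le_right)) (hNV.trans inf_le_left)) s₃ = g' - h)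
    (s₄ : Γ(M, (D ⊓ U') ⊓ V'))
    (e₄ : res M (le_inf (le_inf hND (hNU.trans inf_le_right)) (hNV.trans inf_le_right)) s₄ = g' - h') :
    clm M hU t = clm M hV d := by
  have := mono_abMap (un M N) (un_injective M N hM)
  have key : ∀ {W P Q : X.Opens} (hP : W ≤ P) (hQ : W ≤ Q) (hN : N ≤ W) (s : Γ(M, W)) (a b : Γ(M, N)),
      res M hN s = a - b → (un M N).app W s =
        res (jj M N) hP (sj M P a) - res (jj M N) hQ (sj M Q b) := by
    intro W P Q hP hQ hN s a b hs
    rw [jj_res, jj_res, un_sj M N hN, hs, sj_add]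
  exact Cmp.cls_eq (X := X.toTopCat) (abMap (un M N)) hU hV
    t (sj M U g) (sj M U' g') (key inf_le_left inf_le_right hNU t g g' ht)
    d (sj M V h) (sj M V' h') (key inf_le_left inf_le_right hNV d h h' hd)
    s₁ (key _ _ _ s₁ g h e₁) s₂ (key _ _ _ s₂ g h' e₂) s₃ (key _ _ _ s₃ g' h e₃)
    s₄ (key _ _ _ s₄ g' h' e₄)

end K857.CmpMod
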