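import Groth.Agent.Biell.K857.FibGen
import Mathlib.RingTheory.RegularLocalRing.Defs
import Mathlib.RingTheory.DiscreteValuationRing.TFAE

/-!
# Regularity of a curve with Weierstrass coordinates of nonzero discriminant
-/

set_option autoImplicit false
universe u

open CategoryTheory CategoryTheory.Limits AlgebraicGeometry TopologicalSpace Opposite
open Groth.Agent.Picfga.RegLocus Groth.Agent
open K857.OReg

namespace K857.FibReg

variable {X : Scheme.{u}} [IsIntegral X]

/-- vanishing at a point -/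
def Van (w : X) (g : X.functionField) : Prop :=
  ∃ r ∈ IsLocalRing.maximalIdeal (X.presheaf.stalk w), algebraMap (X.presheaf.stalk w) X.functionField r = g

theorem inj (w : X) : Function.Injective (algebraMap (X.presheaf.stalk w) X.functionField) :=
  IsFractionRing.injective _ _

theorem Van.add {w : X} {g g' : X.functionField} (h : Van w g) (h' : Van w g') : Van w (g + g') := by
  obtain ⟨r, hr, rfl⟩ := h
  obtain ⟨r', hr', rfl⟩ := h'
  exact ⟨r + r', add_mem hr hr', map_add _ _ _⟩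

theorem Van.neg {w : X} {g : X.functionField} (h : Van w g) : Van w (-g) := by
  obtain ⟨r, hr, rfl⟩ := h
  exact ⟨-r, neg_mem hr, map_neg _ _⟩

theorem Van.mul {w : X} {g c : X.functionField} {U : X.Opens} (hw : w ∈ U) (hc : c ∈ O U)
    (h : Van w g) : Van w (c * g) := by
  obtain ⟨r, hr, rfl⟩ := h
  obtain ⟨s, rfl⟩ := hc w hw
  exact ⟨s * r, Ideal.mul_mem_left _ s hr, map_mul _ _ _⟩

theorem Van.const {w : X} {c : X.functionField}
    (hinv : ∀ c ∈ O (⊤ : X.Opens), c ≠ 0 → c⁻¹ ∈ O (⊤ : X.Opens)) (hc : c ∈ O (⊤ : X.Opens))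
    (h : Van w c) : c = 0 := by
  by_contra h0
  obtain ⟨r, hr, rfl⟩ := h
  obtain ⟨s, hs⟩ := hinv _ hc h0 w trivial
  have h1 : s * r = 1 := by
    apply inj w
    rw [map_mul, hs, map_one, inv_mul_cancel₀ h0]
  exact (IsLocalRing.mem_maximalIdeal r).mp hr (IsUnit.of_mul_eq_one_right s h1)

/-- a function which is a nonzero constant plus a function vanishing at the point is a unit there -/
theorem unit_of_van {w : X} {c g : X.functionField}
    (hinv : ∀ c ∈ O (⊤ : X.Opens), c ≠ 0 → c⁻¹ ∈ O (⊤ : X.Opens)) (hc : c ∈ O (⊤ : X.Opens))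
    (h0 : c ≠ 0) (hg : Van w g) :
    ∃ s : X.presheaf.stalk w, IsUnit s ∧ algebraMap (X.presheaf.stalk w) X.functionField s = c + g := by
  obtain ⟨r, hr, rfl⟩ := hg
  obtain ⟨s, hs⟩ := hc w trivial
  refine ⟨s + r, ?_, by rw [map_add, hs]⟩
  by_contra hu
  have h1 : s + r ∈ IsLocalRing.maximalIdeal _ := (IsLocalRing.mem_maximalIdeal _).mpr hu
  have h2 : s ∈ IsLocalRing.maximalIdeal _ := by
    have := sub_mem h1 hr
    rwa [add_sub_cancel_right] at this
  exact h0 (Van.const hinv hc ⟨s, h2, hs⟩)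

/-- elements of the maximal ideal of the local ring as fractions -/
theorem exists_frac {U : X.Opens} (hU : IsAffineOpen U) [Nonempty U] {w : X} (hw : w ∈ U)
    (r : X.presheaf.stalk w) (hr : r ∈ IsLocalRing.maximalIdeal (X.presheaf.stalk w)) :
    ∃ (b : X.functionField) (s : X.presheaf.stalk w), b ∈ O U ∧ Van w b ∧ IsUnit s ∧
      algebraMap (X.presheaf.stalk w) X.functionField r *
        algebraMap (X.presheaf.stalk w) X.functionField s = b := by
  let _ : Algebra Γ(X, U) (X.presheaf.stalk w) :=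
    TopCat.Presheaf.algebra_section_stalk X.presheaf (⟨w, hw⟩ : U)
  have hloc : IsLocalization.AtPrime (X.presheaf.stalk w) (hU.primeIdealOf ⟨w, hw⟩).asIdeal :=
    hU.isLocalization_stalk ⟨w, hw⟩
  obtain ⟨⟨b, s⟩, hbs⟩ := IsLocalization.surj (hU.primeIdealOf ⟨w, hw⟩).asIdeal.primeCompl r
  have hs := IsLocalization.map_units (X.presheaf.stalk w) s
  have e1 : r * X.presheaf.germ U w hw s.1 = X.presheaf.germ U w hw b := hbs
  refine ⟨X.germToFunctionField U b, X.presheaf.germ U w hw s.1, germ_mem b, ?_, hs, ?_⟩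
  · refine ⟨X.presheaf.germ U w hw b, ?_, X.algebraMap_germ_eq_germToFunctionField hw b⟩
    rw [← e1]
    exact Ideal.mul_mem_right _ _ hr
  · rw [← map_mul, e1]
    exact X.algebraMap_germ_eq_germToFunctionField hw b

theorem isRegular [IsLocallyNoetherian X] {U U' : X.Opens} [Nonempty U] (hU : IsAffineOpen U)
    {z x y a b : X.functionField} (H : FibGen.Co U U' z x y)
    (hinv : ∀ c ∈ O (⊤ : X.Opens), c ≠ 0 → c⁻¹ ∈ O (⊤ : X.Opens))
    (ha : a ∈ O (⊤ : X.Opens)) (hb : b ∈ O (⊤ : X.Opens)) (eq : y ^ 2 = x ^ 3 + a * x + b)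
    (hdisc : 4 * a ^ 3 + 27 * b ^ 2 ≠ 0) (h2 : (2 : X.functionField) ≠ 0) {w : X} (hw : w ∈ U)
    (hev : ∀ g ∈ O U, ∃ c ∈ O (⊤ : X.Opens), Van w (g - c)) :
    IsRegularLocalRing (X.presheaf.stalk w) := by
  obtain ⟨x₀, hx₀, hX⟩ := hev x H.hx
  obtain ⟨y₀, hy₀, hY⟩ := hev y H.hy
  have hx₀U : x₀ ∈ O U := O_mono le_top hx₀
  have hy₀U : y₀ ∈ O U := O_mono le_top hy₀
  have haU : a ∈ O U := O_mono le_top ha
  have hXU : x - x₀ ∈ O U := sub_mem H.hx hx₀U
  have hYU : y - y₀ ∈ O U := sub_mem H.hy hy₀U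
  -- the decomposition of functions
  let S : Subring X.functionField :=
    { carrier := {g | ∃ c ∈ O (⊤ : X.Opens), ∃ u ∈ O U, ∃ v ∈ O U, g = c + (x - x₀) * u + (y - y₀) * v}
      mul_mem' := by
        rintro g g' ⟨c, hc, u, hu, v, hv, rfl⟩ ⟨c', hc', u', hu', v', hv', rfl⟩
        have hcU : c ∈ O U := O_mono le_top hc
        have hcU' : c' ∈ O U := O_mono le_top hc'
        have hg' : c' + (x - x₀) * u' + (y - y₀) * v' ∈ O U :=
          add_mem (add_mem hcU' (mul_mem hXU hu')) (mul_mem hYU hv')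
        refine ⟨c * c', mul_mem hc hc', c * u' + u * (c' + (x - x₀) * u' + (y - y₀) * v'),
          add_mem (mul_mem hcU hu') (mul_mem hu hg'),
          c * v' + v * (c' + (x - x₀) * u' + (y - y₀) * v'),
          add_mem (mul_mem hcU hv') (mul_mem hv hg'), ?_⟩
        ring
      one_mem' := ⟨1, one_mem _, 0, zero_mem _, 0, zero_mem _, by ring⟩
      add_mem' := by
        rintro g g' ⟨c, hc, u, hu, v, hv, rfl⟩ ⟨c', hc', u', hu', v', hv', rfl⟩
        exact ⟨c + c', add_mem hc hc', u + u', add_mem hu hu', v + v', add_mem hv hv', by ring⟩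
      zero_mem' := ⟨0, zero_mem _, 0, zero_mem _, 0, zero_mem _, by ring⟩
      neg_mem' := by
        rintro g ⟨c, hc, u, hu, v, hv, rfl⟩
        exact ⟨-c, neg_mem hc, -u, neg_mem hu, -v, neg_mem hv, by ring⟩ }
  have hS : O U ≤ S := FibGen.gen H S
    (fun c hc => ⟨c, hc, 0, zero_mem _, 0, zero_mem _, by ring⟩)
    ⟨x₀, hx₀, 1, one_mem _, 0, zero_mem _, by ring⟩ ⟨y₀, hy₀, 0, zero_mem _, 1, one_mem _, by ring⟩
  -- the relation at the point
  have hrel0 : y₀ ^ 2 - (x₀ ^ 3 + a * x₀ + b) = 0 := by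
    apply Van.const (w := w) hinv
      (sub_mem (pow_mem hy₀ 2) (add_mem (add_mem (pow_mem hx₀ 3) (mul_mem ha hx₀)) hb))
    have h1 : Van w (-((y + y₀) * (y - y₀))) := (hY.mul hw (add_mem H.hy hy₀U)).neg
    have h2 : Van w ((x ^ 2 + x * x₀ + x₀ ^ 2 + a) * (x - x₀)) :=
      hX.mul hw (add_mem (add_mem (add_mem (pow_mem H.hx 2) (mul_mem H.hx hx₀U)) (pow_mem hx₀U 2)) haU)
    have h3 := h1.add h2
    have e : -((y + y₀) * (y - y₀)) + (x ^ 2 + x * x₀ + x₀ ^ 2 + a) * (x - x₀) =
        y₀ ^ 2 - (x₀ ^ 3 + a * x₀ + b) := by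
      linear_combination -eq
    rwa [e] at h3
  have hrel : (y - y₀) * (y + y₀) = (x - x₀) * (x ^ 2 + x * x₀ + x₀ ^ 2 + a) := by
    linear_combination eq - hrel0
  obtain ⟨rX, hrX, eX⟩ := hX
  obtain ⟨rY, hrY, eY⟩ := hY
  -- principal maximal ideal
  have hgen : ∀ r ∈ IsLocalRing.maximalIdeal (X.presheaf.stalk w),
      ∃ u v : X.presheaf.stalk w, r = rX * u + rY * v := by
    intro r hr
    obtain ⟨b', s, hb', hvan, hs, e1⟩ := exists_frac hU hw r hr
    obtain ⟨c, hc, u, hu, v, hv, e2⟩ := hS hb'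
    have hc0 : c = 0 := by
      apply Van.const hinv hc
      have h1 : Van w (-(u * (x - x₀) + v * (y - y₀))) :=
        ((Van.mul hw hu ⟨rX, hrX, eX⟩).add (Van.mul hw hv ⟨rY, hrY, eY⟩)).neg
      have h3 := hvan.add h1
      have e : b' + -(u * (x - x₀) + v * (y - y₀)) = c := by rw [e2]; ring
      rwa [e] at h3
    obtain ⟨u', hu'⟩ := hu w hw
    obtain ⟨v', hv'⟩ := hv w hw
    obtain ⟨s', hs'⟩ := hs.exists_right_inv
    refine ⟨u' * s', v' * s', ?_⟩
    have e3 : r * s = rX * u' + rY * v' := by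
      apply inj w
      rw [map_mul, e1, e2, hc0, map_add, map_mul, map_mul, eX, eY, hu', hv', zero_add]
    calc r = r * (s * s') := by rw [hs', mul_one]
      _ = (r * s) * s' := by ring
      _ = (rX * u' + rY * v') * s' := by rw [e3]
      _ = rX * (u' * s') + rY * (v' * s') := by ring
  have hprinc : (IsLocalRing.maximalIdeal (X.presheaf.stalk w)).IsPrincipal := by
    by_cases hy0 : y₀ = 0
    · -- the cubic has a simple root
      have hne : 3 * x₀ ^ 2 + a ≠ 0 := by
        intro h0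
        apply hdisc
        have ea : a = -3 * x₀ ^ 2 := by linear_combination h0
        have eb : b = 2 * x₀ ^ 3 := by
          rw [hy0] at hrel0
          linear_combination -hrel0 - x₀ * ea
        rw [ea, eb]; ring
      obtain ⟨s, hs, es⟩ := unit_of_van (w := w) hinv
        (add_mem (mul_mem (ofNat_mem (O (⊤ : X.Opens)) 3) (pow_mem hx₀ 2)) ha) hne
        (Van.mul hw (add_mem H.hx (mul_mem (ofNat_mem (O U) 2) hx₀U)) ⟨rX, hrX, eX⟩)
      obtain ⟨s', hs'⟩ := hs.exists_right_inv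
      obtain ⟨t, ht⟩ := (O U).add_mem H.hy hy₀U w hw
      have e3 : rX * s = rY * t := by
        apply inj w
        rw [map_mul, map_mul, eX, eY, es, ht, hrel]
        ring
      refine ⟨⟨rY, le_antisymm ?_ ?_⟩⟩
      · intro r hr
        obtain ⟨u, v, rfl⟩ := hgen r hr
        rw [Ideal.submodule_span_eq, Ideal.mem_span_singleton]
        have e4 : rX = rY * (t * s') := by
          calc rX = rX * (s * s') := by rw [hs', mul_one]
            _ = (rX * s) * s' := by ring
            _ = rY * (t * s') := by rw [e3]; ring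
        exact ⟨t * s' * u + v, by rw [e4]; ring⟩
      · rw [Ideal.submodule_span_eq, Ideal.span_singleton_le_iff_mem]
        exact hrY
    · have hne : 2 * y₀ ≠ 0 := mul_ne_zero h2 hy0
      obtain ⟨s, hs, es⟩ := unit_of_van (w := w) hinv
        (mul_mem (ofNat_mem (O (⊤ : X.Opens)) 2) hy₀) hne ⟨rY, hrY, eY⟩
      obtain ⟨s', hs'⟩ := hs.exists_right_inv
      obtain ⟨t, ht⟩ := (O U).add_mem ((O U).add_mem ((O U).add_mem (pow_mem H.hx 2)
        (mul_mem H.hx hx₀U)) (pow_mem hx₀U 2)) haU w hw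
      have e3 : rY * s = rX * t := by
        apply inj w
        rw [map_mul, map_mul, eX, eY, es, ht, ← hrel]
        ring
      refine ⟨⟨rX, le_antisymm ?_ ?_⟩⟩
      · intro r hr
        obtain ⟨u, v, rfl⟩ := hgen r hr
        rw [Ideal.submodule_span_eq, Ideal.mem_span_singleton]
        have e4 : rY = rX * (t * s') := by
          calc rY = rY * (s * s') := by rw [hs', mul_one]
            _ = (rY * s) * s' := by ring
            _ = rX * (t * s') := by rw [e3]; ring
        exact ⟨u + t * s' * v, by rw [e4]; ring⟩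
      · rw [Ideal.submodule_span_eq, Ideal.span_singleton_le_iff_mem]
        exact hrX
  have hpid : IsPrincipalIdealRing (X.presheaf.stalk w) :=
    ((tfae_of_isNoetherianRing_of_isLocalRing_of_isDomain (X.presheaf.stalk w)).out 0 4).mpr hprinc
  infer_instance

end K857.FibReg
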