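import Groth.Agent.Biell.K857.FF
import Groth.Agent.Biell.K857.FibReg

/-!
# Descent of rational functions regular on the source
-/

set_option autoImplicit false
universe u

open CategoryTheory CategoryTheory.Limits AlgebraicGeometry TopologicalSpace Opposite
open Groth.Agent.Picfga.RegLocus
open K857.OReg K857.FibReg

namespace K857.Descend

variable {X Y : Scheme.{u}} [IsIntegral X] [IsIntegral Y]

theorem ff_algebraMap (q : Y ⟶ X) [IsDominant q] (y : Y) (r : X.presheaf.stalk (q y)) :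
    ff q (algebraMap (X.presheaf.stalk (q y)) X.functionField r) =
      algebraMap (Y.presheaf.stalk y) Y.functionField (q.stalkMap y r) := by
  obtain ⟨U, hU, a, rfl⟩ := X.presheaf.exists_germ_eq r
  have h1 : Nonempty U := ⟨⟨_, hU⟩⟩
  have h2 : Nonempty (q ⁻¹ᵁ U : Y.Opens) := ⟨⟨_, hU⟩⟩
  rw [X.algebraMap_germ_eq_germToFunctionField hU a, ff_germ]
  have h3 : q.stalkMap y (X.presheaf.germ U (q y) hU a) =
      Y.presheaf.germ (q ⁻¹ᵁ U) y hU (q.app U a) := by
    have := Scheme.Hom.germ_stalkMap q U y hU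
    exact congr($(this).hom a)
  rw [h3, Y.algebraMap_germ_eq_germToFunctionField (U := q ⁻¹ᵁ U) hU]

theorem van_ff (q : Y ⟶ X) [IsDominant q] (y : Y) {g : X.functionField} (h : Van (q y) g) :
    Van y (ff q g) := by
  obtain ⟨r, hr, rfl⟩ := h
  refine ⟨q.stalkMap y r, ?_, (ff_algebraMap q y r).symm⟩
  rw [IsLocalRing.mem_maximalIdeal, mem_nonunits_iff] at hr ⊢
  exact fun hu => hr ((isUnit_map_iff (q.stalkMap y).hom r).mp hu)

/-- If the pull back of `α` is regular at a point, so is `α`, when the local ring of the image is a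
valuation ring. -/
theorem mem_reg_of_ff (q : Y ⟶ X) [IsDominant q] (y : Y)
    [hv : ValuationRing (X.presheaf.stalk (q y))] {α : X.functionField} (h : y ∈ reg (ff q α)) :
    q y ∈ reg α := by
  by_contra hcon
  have hα0 : α ≠ 0 := by
    rintro rfl
    exact hcon ⟨0, map_zero _⟩
  rcases ValuationRing.isInteger_or_isInteger (X.presheaf.stalk (q y)) α with h1 | h1
  · exact hcon h1
  · obtain ⟨r, hr⟩ := h1
    have h2 : Van (q y) α⁻¹ := by
      refine ⟨r, ?_, hr⟩
      rw [IsLocalRing.mem_maximalIdeal, mem_nonunits_iff]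
      intro hu
      apply hcon
      obtain ⟨s, hs⟩ := hu.exists_right_inv
      refine ⟨s, ?_⟩
      have h3 : α⁻¹ * algebraMap _ X.functionField s = 1 := by
        rw [← hr, ← map_mul, hs, map_one]
      exact (eq_inv_of_mul_eq_one_right h3).trans (inv_inv α)
    obtain ⟨t, ht, ht'⟩ := van_ff q y h2
    obtain ⟨t', ht''⟩ := h
    have h4 : t * t' = 1 := by
      apply FibReg.inj y
      rw [map_mul, ht', ht'', ← map_mul, inv_mul_cancel₀ hα0, map_one, map_one]
    exact (IsLocalRing.mem_maximalIdeal t).mp ht (IsUnit.of_mul_eq_one t' h4)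

/-- Descent along `f` of functions on `f⁻¹ B` contained in an open `Z`. -/
theorem exists_of_bij (f : Y ⟶ X) (Z : Y.Opens) [Nonempty Z] [IsDominant (Z.ι ≫ f)]
    (hbij : ∀ U : X.Opens, Function.Bijective (f.app U)) {B : X.Opens} [Nonempty B]
    (hB : f ⁻¹ᵁ B ≤ Z) {a : (Z : Scheme.{u}).functionField} (ha : a ∈ O ((Z.ι ≫ f) ⁻¹ᵁ B)) :
    ∃ α ∈ O B, ff (Z.ι ≫ f) α = a := by
  have hne := nonempty_preimage (Z.ι ≫ f) B
  obtain ⟨s, rfl⟩ := exists_sec ha
  have hiso : IsIso (Z.ι.app (f ⁻¹ᵁ B)) := Scheme.Hom.isIso_app Z.ι (f ⁻¹ᵁ B) (by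
    rw [Scheme.Opens.opensRange_ι]; exact hB)
  have hsurj : Function.Surjective (Z.ι.app (f ⁻¹ᵁ B)) := (ConcreteCategory.bijective_of_isIso _).2
  obtain ⟨s', hs'⟩ := hsurj s
  obtain ⟨t, ht⟩ := (hbij B).2 s'
  refine ⟨X.germToFunctionField B t, germ_mem t, ?_⟩
  rw [ff_germ]
  congr 1
  rw [← hs', ← ht]
  rfl

end K857.Descend
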