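import Groth.Agent.Biell.K857.SmoothFibre
import Groth.Agent.Biell.K857.Descend

/-!
# The Weierstrass coefficients come from the base
-/

set_option autoImplicit false
universe u

open CategoryTheory CategoryTheory.Limits AlgebraicGeometry TopologicalSpace
open Groth.Agent.Picfga.RegLocus
open K857.OReg K857.WeiField K857.EqnGeo K857.LD K857.Global

namespace K857

theorem Setup.valuationRing {k : Type u} [Field k] [IsAlgClosed k] {X E : Scheme.{u}}
    [X.Over (Spec (CommRingCat.of k))] [E.Over (Spec (CommRingCat.of k))] {f : X ⟶ E}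
    [IsIntegral E] (h : Setup k f) (s : E) : ValuationRing (E.presheaf.stalk s) := by
  have := h.isNoetherianE
  have := h.regE s
  have := K456.FlatCurve.isPrincipalIdealRing_of_regular (E.presheaf.stalk s)
    ((Groth.Agent.CurvesA.DimOne.ringKrullDim_stalk_le E s).trans h.dimE.le)
  exact ((tfae_of_isNoetherianRing_of_isLocalRing_of_isDomain (E.presheaf.stalk s)).out 0 1).mp this

namespace Square

variable {k : Type u} [Field k] [IsAlgClosed k] {X E : Scheme.{u}}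
    [X.Over (Spec (CommRingCat.of k))] [E.Over (Spec (CommRingCat.of k))] {f : X ⟶ E}
    [LocallyOfFinitePresentation f]

theorem descend (h : Setup k f) [IsIntegral X] [IsIntegral E] [IsIntegral (Z f)]
    [IsDominant f] [IsDominant (g f)] {G : E.Opens} [Nonempty G] (hG : f ⁻¹ᵁ G ≤ f.smoothLocus)
    {A : E.Opens} [Nonempty A] {a : (Z f).functionField} (ha : a ∈ O (g f ⁻¹ᵁ A)) :
    ∃ α ∈ O A, ff (g f) α = a := by
  have hprop := h.fibr.proper
  have := nonempty_inf G A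
  have hZne : Nonempty f.smoothLocus := h.nonempty_smoothLocus
  obtain ⟨α, hα, hαa⟩ := Descend.exists_of_bij f f.smoothLocus h.bij (B := G ⊓ A)
    ((f.preimage_mono inf_le_left).trans hG) (O_mono ((g f).preimage_mono inf_le_right) ha)
  refine ⟨α, ?_, hαa⟩
  rw [mem_O]
  by_contra hcon
  have hj : JacobsonSpace E := LocallyOfFiniteType.jacobsonSpace (E ↘ Spec (CommRingCat.of k))
  obtain ⟨s₀, hs₀A, hs₀⟩ := Set.not_subset.mp hcon
  obtain ⟨s, ⟨hsA, hs1⟩, hs⟩ := nonempty_inter_closedPoints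
    (Z := (A : Set E) ∩ (reg α : Set E)ᶜ) ⟨s₀, hs₀A, hs₀⟩
    (A.2.isLocallyClosed.inter (reg α).2.isClosed_compl.isLocallyClosed)
  let x := pointOfClosedPoint (E ↘ Spec (CommRingCat.of k)) s hs
  obtain ⟨w, hw⟩ := h.exists_mem_smoothLocus x (pointOfClosedPoint_comp _ _ _)
  let z : Z f := ⟨pullback.fst f x w, hw⟩
  have hz : g f z = s := by
    change f (pullback.fst f x w) = s
    rw [← Scheme.Hom.comp_apply, pullback.condition, Scheme.Hom.comp_apply]
    exact pointOfClosedPoint_apply _ _ _ _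
  have hv : ValuationRing (E.presheaf.stalk (g f z)) := h.valuationRing _
  apply hs1
  rw [← hz]
  refine Descend.mem_reg_of_ff (g f) z ?_
  have h1 : ff (g f) α = a := hαa
  rw [h1]
  exact mem_O.mp ha (by change g f z ∈ A; rw [hz]; exact hsA)

/-- The Weierstrass data over a chart of the base. -/
theorem exists_coef (h : Setup k f) (h6 : (6 : k) ≠ 0) [IsIntegral X] [IsIntegral E]
    [IsIntegral (Z f)]
    [IsIntegral (Y f)] [IsDominant f] [IsDominant (p f)] [IsDominant (q f)] [IsSeparated f]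
    [QuasiSeparatedSpace X] [IsDominant (g f)]
    {A : E.Opens} {V V' : X.Opens} {e : X.functionField} (hAne : Nonempty A)
    (hS : Sit f (g f) (p f) (q f) (δ f) A V V' e (Δc f)) :
    ∃ (x y : (Y f).functionField) (α β : E.functionField), α ∈ O A ∧ β ∈ O A ∧
      (4 * α ^ 3 + 27 * β ^ 2 ≠ 0) ∧
      IsGlob f (g f) (p f) (q f) (δ f) A V V' e (Δc f) x y (ff (g f) α) (ff (g f) β) := by
  obtain ⟨x, y, a, b, hG⟩ := exists_glob h hAne hS
  obtain ⟨G, hGne, hGf⟩ := exists_smooth_open h h6 hS hG hAne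
  obtain ⟨α, hα, rfl⟩ := descend h hGf hG.ha
  obtain ⟨β, hβ, rfl⟩ := descend h hGf hG.hb
  refine ⟨x, y, α, β, hα, hβ, ?_, hG⟩
  have h1 := Disc.disc_ne_zero hS (fun y => (stalkY h y).2) hG
  intro h0
  apply h1
  have h2 := congrArg (ff (g f)) h0
  simpa only [map_add, map_mul, map_pow, map_ofNat, map_zero] using h2

/-- Comparison of the coefficients over two charts of the base. -/
theorem exists_coef_two (h : Setup k f) (h6 : (6 : k) ≠ 0) [IsIntegral X] [IsIntegral E]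
    {A A₁ : E.Opens} {V V' V₁ V₁' : X.Opens} {e e₁ : X.functionField} [IsDominant f] (hA : IsAffineOpen A)
    (hA₁ : IsAffineOpen A₁) (hAne : Nonempty A) (hA₁ne : Nonempty A₁)
    (hC : IsChart (ff f) (O A) (f ⁻¹ᵁ A) V V' e) (hVV' : IsAffineOpen (V ⊓ V'))
    (hC₁ : IsChart (ff f) (O A₁) (f ⁻¹ᵁ A₁) V₁ V₁' e₁) (hVV₁' : IsAffineOpen (V₁ ⊓ V₁'))
    {w : E.functionField}
    (hw0 : w ≠ 0) (hw : w ∈ O (A ⊓ A₁)) (hw' : w⁻¹ ∈ O (A ⊓ A₁))
    (hrel : Rel (V₁ ⊓ f ⁻¹ᵁ (A ⊓ A₁)) (V₁' ⊓ f ⁻¹ᵁ (A ⊓ A₁)) (V ⊓ f ⁻¹ᵁ (A ⊓ A₁))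
      (V' ⊓ f ⁻¹ᵁ (A ⊓ A₁)) e₁ (-(ff f w * e))) :
    ∃ α β : E.functionField, α ∈ O A ∧ β ∈ O A ∧ w ^ 4 * α ∈ O A₁ ∧ w ^ 6 * β ∈ O A₁ ∧
      (4 * α ^ 3 + 27 * β ^ 2 ≠ 0) := by
  have := isIntegralZ h
  have := isIntegralY h
  have := isDominant_p h
  have := isDominant_q h
  have := isDominant_g h
  have := h.isProper
  have := h.isNoetherianX
  have hS := sit h h6 hA hC hVV'
  have hS₁ := sit h h6 hA₁ hC₁ hVV₁'
  obtain ⟨x, y, α, β, hα, hβ, hd, hG⟩ := exists_coef h h6 hAne hS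
  obtain ⟨x₁, y₁, α₁, β₁, hα₁, hβ₁, hd₁, hG₁⟩ := exists_coef h h6 hA₁ne hS₁
  obtain ⟨-, -, h4, h5⟩ := IsGlob.change hS hS₁ hw0 hw hw' hrel hG hG₁
  rw [← map_pow, ← map_mul] at h4 h5
  refine ⟨α, β, hα, hβ, ?_, ?_, hd⟩
  · rw [ff_injective (g f) h4]; exact hα₁
  · rw [ff_injective (g f) h5]; exact hβ₁

end Square

end K857
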