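import Groth.Agent.S1625
import Groth.Agent.VarietyB.CurveDichotomy
import Groth.Agent.VarietyB.ProjSpaceProper

/-!
# Proper opens of a proper integral curve are affine
-/

set_option autoImplicit false
universe u

open CategoryTheory CategoryTheory.Limits AlgebraicGeometry TopologicalSpace

namespace K857.CurveAff

theorem isAffineOpen_of_ne_top {k : Type u} [Field k] {F : Scheme.{u}} [IsIntegral F]
    (s : F ⟶ Spec (CommRingCat.of k)) [IsProper s] (hdim : topologicalKrullDim F ≤ 1)
    (U : F.Opens) (hU : U ≠ ⊤) : IsAffineOpen U := by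
  by_cases hne : Nonempty U
  · have hN : IsLocallyNoetherian F := LocallyOfFiniteType.isLocallyNoetherian s
    let _ : (U : Scheme.{u}).Over (Spec (CommRingCat.of k)) := ⟨U.ι ≫ s⟩
    have h0 : ((U : Scheme.{u}) ↘ Spec (CommRingCat.of k)) = U.ι ≫ s := rfl
    have h1 : IsSeparated ((U : Scheme.{u}) ↘ Spec (CommRingCat.of k)) := by
      rw [h0]; infer_instance
    have h2 : LocallyOfFiniteType ((U : Scheme.{u}) ↘ Spec (CommRingCat.of k)) := by
      rw [h0]; infer_instance
    have h3 : QuasiCompact ((U : Scheme.{u}) ↘ Spec (CommRingCat.of k)) := by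
      rw [h0]; infer_instance
    have hd : topologicalKrullDim (U : Scheme.{u}) ≤ 1 :=
      (Topology.IsInducing.topologicalKrullDim_le U.ι.isOpenEmbedding.isInducing).trans hdim
    obtain ⟨d, Y, c, j, hc, hj, hjk, hdense, -, hfin, hclp⟩ := Groth.Agent.S1625.result k U hd
    rcases Groth.Agent.VarietyB.CurveDichotomy.affine_or_closed k U hd d Y c j hc hj hjk hdense
      hfin hclp with h | ⟨d', c', hc', hc''⟩
    · exact h
    · exfalso
      have h4 : IsProper (U.ι ≫ s) := by
        rw [← h0, ← hc'']
        infer_instance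
      have h5 : IsProper U.ι := IsProper.of_comp U.ι s
      have h6 : IsClosed (U : Set F) := by
        have := U.ι.isClosedMap.isClosed_range
        simpa using this
      exact hU (Opens.ext ((isClopen_iff.mp ⟨h6, U.2⟩).resolve_left
        (Set.Nonempty.ne_empty (Set.nonempty_coe_sort.mp hne))))
  · have : U = ⊥ := by
      ext x
      exact ⟨fun h => (hne ⟨⟨x, h⟩⟩).elim, fun h => h.elim⟩
    rw [this]
    exact isAffineOpen_bot F

end K857.CurveAff
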