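import Groth.Agent.Biell.K857.WeiField

/-!
# Weierstrass data inside a function field: change of the local equation, scaling, restriction
-/

set_option autoImplicit false
universe u

open CategoryTheory CategoryTheory.Limits AlgebraicGeometry TopologicalSpace Opposite
open Groth.Agent.Picfga.RegLocus Groth.Agent
open K857.OReg K857.WeiAlg

namespace K857.WeiField

variable {Y : Scheme.{u}} [IsIntegral Y] {κ : Type u} [Field κ] {ι : κ →+* Y.functionField}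
variable {R : Subring κ} {D U U' V V' : Y.Opens} {e z z' : Y.functionField} {ρ : O U' →+* κ}

/-- Two local equations with the same class: the leading coefficients agree. -/
theorem P_of_rel (hC : IsChart ι R D V V' e) (hE : IsEqn ι R D U U' z ρ)
    (hE' : IsEqn ι R D U U' z' ρ) (hrel : Rel U U' V V' z⁻¹ e) (hrel' : Rel U U' V V' z'⁻¹ e)
    {n : ℕ} {g : Y.functionField} {c : κ} (h : P ρ z n g c) : P ρ z' n g c := by
  have hUD : U ≤ D := hE.cover ▸ le_sup_left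
  have hU'D : U' ≤ D := hE.cover ▸ le_sup_right
  have hVD : V ≤ D := hC.cover ▸ le_sup_left
  have hV'D : V' ≤ D := hC.cover ▸ le_sup_right
  obtain ⟨v, hv, hzv⟩ := hE.ker ⟨z', hE'.hz⟩ hE'.rz
  obtain ⟨w, hw, hwz⟩ := hE'.ker ⟨z, hE.hz⟩ hE.rz
  change z' = z * v at hzv
  change z = z' * w at hwz
  have hz := hE.z0
  have hz' := hE'.z0
  have hv0 : v ≠ 0 := by
    intro h0
    rw [h0, mul_zero] at hzv
    exact hz' hzv
  -- `ρ v = 1`
  have hv1 : ρ ⟨v, hv⟩ = 1 := by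
    have hr : ρ ⟨v, hv⟩ ∈ R := hE.mem _
    set r := ρ ⟨v, hv⟩ with hrdef
    have hrO : ι r ∈ O U' := O_mono hU'D (hC.mem r hr)
    have h0 : ρ (⟨v, hv⟩ - ⟨ι r, hrO⟩) = 0 := by
      rw [map_sub, hE.sec r hr hrO, sub_self]
    obtain ⟨k, hk, hvk⟩ := hE'.ker _ h0
    change v - ι r = z' * k at hvk
    have e1 : z⁻¹ - ι r * z'⁻¹ = k := by
      have : z⁻¹ = v * z'⁻¹ := by rw [hzv]; field_simp
      rw [this]
      have h3 : v * z'⁻¹ - ι r * z'⁻¹ = (v - ι r) * z'⁻¹ := by ring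
      rw [h3, hvk]; field_simp
    have h2 := hrel.sub (hrel'.mul (O_mono hUD (hC.mem r hr)) hrO)
    rw [e1] at h2
    obtain ⟨a, ha, b, hb, hab⟩ := h2.symm.of_split (hE.cover ▸ hVD) (hE.cover ▸ hV'D)
      (zero_mem _) hk (by ring)
    have h4 : (1 : κ) - r = 0 := by
      refine hC.free (1 - r) (sub_mem (one_mem _) hr) a ha b hb ?_
      rw [map_sub, map_one]
      linear_combination hab
    linear_combination -h4
  obtain ⟨hg, rfl⟩ := h
  have e2 : z' ^ n * g = v ^ n * (z ^ n * g) := by rw [hzv, mul_pow]; ring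
  have hg' : z' ^ n * g ∈ O U' := e2 ▸ mul_mem (pow_mem hv n) hg
  refine ⟨hg', ?_⟩
  have e3 : (⟨z' ^ n * g, hg'⟩ : O U') = ⟨v, hv⟩ ^ n * ⟨z ^ n * g, hg⟩ := Subtype.ext e2
  rw [e3, map_mul, map_pow, hv1, one_pow, one_mul]

theorem Short.of_rel (hC : IsChart ι R D V V' e) (hE : IsEqn ι R D U U' z ρ)
    (hE' : IsEqn ι R D U U' z' ρ) (hrel : Rel U U' V V' z⁻¹ e) (hrel' : Rel U U' V V' z'⁻¹ e)
    {x y : Y.functionField} {a b : κ} (h : Short ι R U ρ z x y a b) :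
    Short ι R U ρ z' x y a b :=
  ⟨h.hx, h.hy, P_of_rel hC hE hE' hrel hrel' h.px, P_of_rel hC hE hE' hrel hrel' h.py, h.ha, h.hb,
    h.eq⟩

/-- Scaling the local equation by a unit of the base. -/
theorem IsEqn.scale (hE : IsEqn ι R D U U' z ρ) {r r' : κ} (hr : r ∈ R) (hr' : r' ∈ R)
    (hrr' : r * r' = 1) (hm : ∀ r ∈ R, ι r ∈ O D) : IsEqn ι R D U U' (ι r * z) ρ := by
  have hU'D : U' ≤ D := hE.cover ▸ le_sup_right
  have hUD : U ≤ D := hE.cover ▸ le_sup_left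
  have hrO := O_mono hU'D (hm r hr)
  have hrO' := O_mono hU'D (hm r' hr')
  have h0 : ι r * ι r' = 1 := by rw [← map_mul, hrr', map_one]
  have hr0 : ι r ≠ 0 := fun h => by rw [h, zero_mul] at h0; exact zero_ne_one h0
  have hinv : (ι r)⁻¹ = ι r' := inv_eq_of_mul_eq_one_right h0
  refine ⟨hE.cover, hE.ne, hE.ne', mul_mem hrO hE.hz, mul_ne_zero hr0 hE.z0, ?_, hE.mem, hE.sec,
    ?_, ?_, ?_⟩
  · rw [mul_inv, hinv]
    exact mul_mem (O_mono (inf_le_left.trans hUD) (hm r' hr')) hE.inv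
  · intro g hg
    obtain ⟨h, hh, hgh⟩ := hE.ker g hg
    refine ⟨ι r' * h, mul_mem hrO' hh, ?_⟩
    rw [hgh]; linear_combination (-(z * h)) * h0
  · have e1 : (⟨ι r * z, mul_mem hrO hE.hz⟩ : O U') = ⟨ι r, hrO⟩ * ⟨z, hE.hz⟩ := rfl
    rw [e1, map_mul, hE.rz, mul_zero]
  · intro g hg
    obtain ⟨n, hn⟩ := hE.loc g hg
    refine ⟨n, ?_⟩
    rw [mul_pow, mul_assoc]
    exact mul_mem (pow_mem hrO n) hn

/-- The same data over a smaller open. -/
theorem Short.restrict {R₁ : Subring κ} {U₁ U₁' : Y.Opens} {ρ₁ : O U₁' →+* κ} (hR : R ≤ R₁)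
    (hU : U₁ ≤ U) (hU' : U₁' ≤ U') (hρ : ∀ (g : Y.functionField) (h : g ∈ O U') (h₁ : g ∈ O U₁'),
      ρ₁ ⟨g, h₁⟩ = ρ ⟨g, h⟩) {x y : Y.functionField} {a b : κ} (h : Short ι R U ρ z x y a b) :
    Short ι R₁ U₁ ρ₁ z x y a b := by
  obtain ⟨h1, h1'⟩ := h.px
  obtain ⟨h2, h2'⟩ := h.py
  exact ⟨O_mono hU h.hx, O_mono hU h.hy, ⟨O_mono hU' h1, (hρ _ h1 _).trans h1'⟩,
    ⟨O_mono hU' h2, (hρ _ h2 _).trans h2'⟩, hR h.ha, hR h.hb, h.eq⟩

/-- Change of the generator by a unit. -/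
theorem Short.scale {r r' : κ} (hr' : r' ∈ R) (hrr' : r * r' = 1)
    (hm : ∀ r ∈ R, ι r ∈ O D) (hE : IsEqn ι R D U U' z ρ)
    {x y : Y.functionField} {a b : κ} (h : Short ι R U ρ z x y a b) :
    Short ι R U ρ (ι r * z) (ι r' ^ 2 * x) (ι r' ^ 3 * y) (r' ^ 4 * a) (r' ^ 6 * b) := by
  have hU'D : U' ≤ D := hE.cover ▸ le_sup_right
  have hUD : U ≤ D := hE.cover ▸ le_sup_left
  have hrU := O_mono hUD (hm r' hr')
  have h0 : ι r * ι r' = 1 := by rw [← map_mul, hrr', map_one]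
  have key : ∀ (n : ℕ) (g : Y.functionField), P ρ z n g 1 → P ρ (ι r * z) n (ι r' ^ n * g) 1 := by
    rintro n g ⟨h1, h1'⟩
    have e : (ι r * z) ^ n * (ι r' ^ n * g) = z ^ n * g := by
      have : (ι r * z) ^ n * (ι r' ^ n * g) = (ι r * ι r') ^ n * (z ^ n * g) := by
        rw [mul_pow, mul_pow]; ring
      rw [this, h0, one_pow, one_mul]
    refine ⟨e ▸ h1, ?_⟩
    rw [← h1']; congr 1; exact Subtype.ext e
  refine ⟨mul_mem (pow_mem hrU 2) h.hx, mul_mem (pow_mem hrU 3) h.hy, key 2 x h.px, key 3 y h.py,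
    mul_mem (pow_mem hr' 4) h.ha, mul_mem (pow_mem hr' 6) h.hb, ?_⟩
  have := h.eq
  simp only [map_mul, map_pow]
  linear_combination (ι r' ^ 6) * this

/-- The class of the inverse of a local equation is a multiple of the generator. -/
theorem exists_class (hC : IsChart ι R D V V' e) (hE : IsEqn ι R D U U' z ρ) :
    ∃ r ∈ R, Rel U U' V V' z⁻¹ (ι r * e) := by
  have hUD : U ≤ D := hE.cover ▸ le_sup_left
  have hU'D : U' ≤ D := hE.cover ▸ le_sup_right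
  have hVD : V ≤ D := hC.cover ▸ le_sup_left
  have hV'D : V' ≤ D := hC.cover ▸ le_sup_right
  have := hE.ne
  have := hE.ne'
  have := hC.ne
  have := hC.ne'
  obtain ⟨d, hd, hrd⟩ := exists_rel (t := z⁻¹) (U := U) (U' := U') (V := V) (V' := V')
    hC.aff hC.aff' (hE.cover ▸ hVD) (hE.cover ▸ hV'D) hE.inv
  obtain ⟨r, hr, a, ha, b, hb, hdr⟩ := hC.gen d hd
  refine ⟨r, hr, ?_⟩
  have h1 : Rel U U' V V' 0 (b - a) := (Rel.left_split ha hb).symm
  have := hrd.sub h1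
  have e1 : d - (b - a) = ι r * e := by rw [hdr]; ring
  rwa [e1, sub_zero] at this

end K857.WeiField
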