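import Groth.Agent.Biell.K857.EqnGeo
import Groth.Agent.Biell.K857.WeiCompare
import Groth.Prelude.Def_BlowUp2

/-!
# Local data of a section: neighbourhoods, restriction, comparison
-/

set_option autoImplicit false
universe u

open CategoryTheory CategoryTheory.Limits AlgebraicGeometry TopologicalSpace Opposite
open Groth.Agent.Picfga.RegLocus
open K857.OReg K857.WeiField K857.EqnGeo

namespace K857.LD

variable {Z Y : Scheme.{u}}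

/-- A local equation `z` of the section `δ`, on the affine open `U`, over the affine open `W`. -/
structure Dat (q : Y ⟶ Z) (δ : Z ⟶ Y) (W : Z.Opens) (U : Y.Opens) (z : Γ(Y, U)) : Prop where
  affW : IsAffineOpen W
  affU : IsAffineOpen U
  pre : δ ⁻¹ᵁ U = W
  le : U ≤ q ⁻¹ᵁ W
  ne : Nonempty W
  z0 : z ≠ 0
  ideal : δ.ker.ideal ⟨U, affU⟩ = Ideal.span {z}

variable {q : Y ⟶ Z} {δ : Z ⟶ Y}

/-- Small neighbourhoods. -/
theorem exists_nhd (hδ : δ ≫ q = 𝟙 Z) (x : Z) (W₀ : Z.Opens) (hx : x ∈ W₀) (V₀ : Y.Opens)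
    (hV : δ x ∈ V₀) : ∃ (W : Z.Opens) (U : Y.Opens), IsAffineOpen W ∧ IsAffineOpen U ∧ x ∈ W ∧
      δ ⁻¹ᵁ U = W ∧ U ≤ q ⁻¹ᵁ W ∧ W ≤ W₀ ∧ U ≤ V₀ := by
  have hq : ∀ x, q (δ x) = x := fun x => by rw [← Scheme.Hom.comp_apply, hδ]; rfl
  obtain ⟨Z₀, hZ₀, hxZ₀, hZW⟩ := exists_isAffineOpen_mem_and_subset (X := Z) (x := x) (U := W₀) hx
  have h1 : δ x ∈ V₀ ⊓ q ⁻¹ᵁ Z₀ := ⟨hV, by
    change q (δ x) ∈ Z₀
    rwa [hq]⟩
  obtain ⟨U₁, hU₁, hxU₁, hUV⟩ := exists_isAffineOpen_mem_and_subset (X := Y) (U := V₀ ⊓ q ⁻¹ᵁ Z₀) h1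
  have h2 : U₁ ≤ q ⁻¹ᵁ Z₀ := fun y hy => (hUV hy).2
  obtain ⟨h, hh, hxh⟩ := hZ₀.exists_basicOpen_le (V := δ ⁻¹ᵁ U₁) ⟨x, hxU₁⟩ hxZ₀
  have h3 : U₁ ⊓ q ⁻¹ᵁ (Z.basicOpen h) = Y.basicOpen (q.appLE Z₀ U₁ h2 h) := by
    rw [Scheme.basicOpen_appLE]
  refine ⟨Z.basicOpen h, U₁ ⊓ q ⁻¹ᵁ (Z.basicOpen h), hZ₀.basicOpen h, ?_, hxh, ?_, inf_le_right,
    (Z.basicOpen_le h).trans hZW, fun y hy => (hUV hy.1).1⟩
  · rw [h3]; exact hU₁.basicOpen _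
  · ext y
    constructor
    · rintro ⟨-, hy⟩
      change q (δ y) ∈ Z.basicOpen h at hy
      rwa [hq] at hy
    · intro hy
      refine ⟨hh hy, ?_⟩
      change q (δ y) ∈ Z.basicOpen h
      rwa [hq]

/-- Restriction of local data. -/
theorem Dat.restrict [IsIntegral Y] [IsClosedImmersion δ] {W W' : Z.Opens} {U U' : Y.Opens} {z : Γ(Y, U)}
    (h : Dat q δ W U z) (hW' : IsAffineOpen W') (hU' : IsAffineOpen U') (hpre : δ ⁻¹ᵁ U' = W')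
    (hle : U' ≤ q ⁻¹ᵁ W') [Nonempty W'] [Nonempty U'] (hUU : U' ≤ U) : Dat q δ W' U' (rs hUU z) := by
  refine ⟨hW', hU', hpre, hle, inferInstance, ?_, ?_⟩
  · intro h0
    have : Nonempty U := ⟨⟨_, hUU (genericPoint_mem U')⟩⟩
    apply h.z0
    apply Y.germToFunctionField_injective U
    rw [map_zero, ← germ_rs hUU, h0, map_zero]
  · have h1 := δ.ker.map_ideal (U := ⟨U', hU'⟩) (V := ⟨U, h.affU⟩) hUU
    rw [← h1, h.ideal, Ideal.map_span, Set.image_singleton]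
    rfl

/-- Existence of local data for an effective Cartier section. -/
theorem exists_dat [IsIntegral Y] [IsClosedImmersion δ] (hδ : δ ≫ q = 𝟙 Z)
    (heff : BlowUp.IsEffCartierIdeal δ.ker) (x : Z) (W₀ : Z.Opens) (hx : x ∈ W₀) :
    ∃ (W : Z.Opens) (U : Y.Opens) (z : Γ(Y, U)), Dat q δ W U z ∧ x ∈ W ∧ W ≤ W₀ := by
  obtain ⟨U₀, hxU₀, z₀, hz₀, hI⟩ := heff (δ x)
  obtain ⟨W, U, hW, hU, hxW, hpre, hle, hWW, hUU⟩ := exists_nhd hδ x W₀ hx U₀.1 hxU₀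
  have hxU : δ x ∈ U := by
    rw [← hpre] at hxW; exact hxW
  have : Nonempty W := ⟨⟨x, hxW⟩⟩
  have : Nonempty U := ⟨⟨_, hxU⟩⟩
  have : Nonempty U₀.1 := ⟨⟨_, hxU₀⟩⟩
  refine ⟨W, U, rs hUU z₀, ⟨hW, hU, hpre, hle, inferInstance, ?_, ?_⟩, hxW, hWW⟩
  · intro h0
    have h1 : z₀ = 0 := by
      apply Y.germToFunctionField_injective U₀.1
      rw [map_zero, ← germ_rs hUU, h0, map_zero]
    rw [h1] at hz₀
    exact zero_notMem_nonZeroDivisors hz₀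
  · have h1 := δ.ker.map_ideal (U := ⟨U, hU⟩) (V := U₀) hUU
    rw [← h1, hI, Ideal.map_span, Set.image_singleton]
    rfl

end K857.LD
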