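import Groth.Agent.Biell.K857.WeiAlg
import Mathlib.RingTheory.IntegralClosure.IntegrallyClosed
import Mathlib.Algebra.Algebra.Subalgebra.Lattice

/-!
# Short Weierstrass coordinates: normality and generators
-/

set_option autoImplicit false
universe u v

namespace K857.WeiAlg

variable {R : Type u} [CommRing R] {B₀ B₁ T : Type v} [CommRing B₀] [CommRing B₁] [CommRing T]
  [Algebra R B₀] [Algebra R B₁] [Algebra R T]
  {i₀ : B₀ →ₐ[R] T} {i₁ : B₁ →ₐ[R] T} {z : B₁} {w : T} {ρ : B₁ →ₐ[R] R}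

/-- On a normal curve the short Weierstrass equation has no double root. -/
theorem no_double_root [Nontrivial R] (H : WD i₀ i₁ z w ρ)
    (hN0 : ∀ g g' c : B₀, g ^ 2 = c * g' ^ 2 → g' ≠ 0 → ∃ d : B₀, g = d * g')
    (hN1 : ∀ (t : T) (h : B₁), t ^ 2 = i₁ h → ∃ h' : B₁, t = i₁ h')
    (hdom : ∀ g g' : B₀, g * g' = 0 → g = 0 ∨ g' = 0)
    {x y : B₀} {α : R} (h : IsShort i₀ i₁ z ρ x y (-3 * α ^ 2) (2 * α ^ 3)) : False := by
  have hp0 : ∀ n : ℕ, Pole i₀ i₁ z ρ n 0 0 := fun n => ⟨0, by simp, by simp⟩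
  have key : y ^ 2 = (x + algebraMap R B₀ (2 * α)) * (x - algebraMap R B₀ α) ^ 2 := by
    have := h.eq
    simp only [Algebra.smul_def, map_mul, map_pow, map_neg, map_ofNat] at this ⊢
    linear_combination this
  have hx : Pole i₀ i₁ z ρ 2 (x - algebraMap R B₀ α) 1 := by
    simpa using h.px.sub ((Pole.const α).mono H (show 0 < 2 by omega))
  have hx2 : Pole i₀ i₁ z ρ 2 (x + algebraMap R B₀ (2 * α)) 1 := by
    simpa using h.px.add ((Pole.const (2 * α)).mono H (show 0 < 2 by omega))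
  have hne : x - algebraMap R B₀ α ≠ 0 := by
    intro h0
    rw [h0] at hx
    exact one_ne_zero (Pole.unique H hx (hp0 2))
  obtain ⟨d, hd⟩ := hN0 _ _ _ key hne
  have hd2 : d ^ 2 = x + algebraMap R B₀ (2 * α) := by
    rw [hd] at key
    have : (d ^ 2 - (x + algebraMap R B₀ (2 * α))) *
        ((x - algebraMap R B₀ α) * (x - algebraMap R B₀ α)) = 0 := by
      linear_combination key
    rcases hdom _ _ this with h1 | h1
    · exact sub_eq_zero.mp h1
    · rcases hdom _ _ h1 with h2 | h2 <;> exact absurd h2 hne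
  obtain ⟨h2, hh2, -⟩ := hx2
  obtain ⟨h3, hh3⟩ := hN1 (i₁ z * i₀ d) h2 (by rw [hh2, ← hd2, map_pow]; ring)
  have hd1 : Pole i₀ i₁ z ρ 1 d (ρ h3) := ⟨h3, by rw [← hh3, pow_one], rfl⟩
  obtain ⟨-, r, hr⟩ := pole_one H hd1
  have h4 : Pole i₀ i₁ z ρ 2 (x + algebraMap R B₀ (2 * α)) 0 := by
    rw [← hd2, hr, ← map_pow]
    exact (Pole.const (r ^ 2)).mono H (show 0 < 2 by omega)
  have h5 : Pole i₀ i₁ z ρ 2 (x + algebraMap R B₀ (2 * α)) 1 := by
    simpa using h.px.add ((Pole.const (2 * α)).mono H (show 0 < 2 by omega))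
  exact one_ne_zero (Pole.unique H h5 h4)

/-- The coordinates generate. -/
theorem adjoin_eq_top (H : WD i₀ i₁ z w ρ) {x y : B₀} (hx : Pole i₀ i₁ z ρ 2 x 1)
    (hy : Pole i₀ i₁ z ρ 3 y 1) (S : Subalgebra R B₀) (hxS : x ∈ S) (hyS : y ∈ S) : S = ⊤ := by
  have hmono : ∀ n : ℕ, 2 ≤ n → ∃ g ∈ S, Pole i₀ i₁ z ρ n g 1 := by
    intro n hn
    obtain ⟨m, rfl | rfl⟩ : ∃ m, n = 2 * m ∨ n = 2 * m + 1 := ⟨n / 2, by omega⟩
    · exact ⟨x ^ m, S.pow_mem hxS m, by simpa using hx.pow m⟩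
    · obtain ⟨m, rfl⟩ : ∃ m', m = m' + 1 := ⟨m - 1, by omega⟩
      refine ⟨x ^ m * y, S.mul_mem (S.pow_mem hxS m) hyS, ?_⟩
      have := (hx.pow m).mul hy
      rw [one_pow, mul_one] at this
      have e : 2 * (m + 1) + 1 = 2 * m + 3 := by ring
      rw [e]; exact this
  have key : ∀ (n : ℕ) (g : B₀) (c : R), Pole i₀ i₁ z ρ n g c → g ∈ S := by
    intro n
    induction n with
    | zero => intro g c hg; rw [pole_zero H hg]; exact S.algebraMap_mem c
    | succ n ih =>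
      intro g c hg
      rcases n with _ | n
      · obtain ⟨-, r, hr⟩ := pole_one H hg
        rw [hr]; exact S.algebraMap_mem r
      · obtain ⟨g', hg'S, hg'⟩ := hmono (n + 1 + 1) (by omega)
        have h1 : Pole i₀ i₁ z ρ (n + 1 + 1) (g - c • g') 0 := by
          simpa using hg.sub (hg'.smul c)
        obtain ⟨c', hc'⟩ := Pole.pred H h1
        have h2 := ih _ _ hc'
        have : g = (g - c • g') + c • g' := by ring
        rw [this]
        exact S.add_mem h2 (S.smul_mem hg'S c)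
  rw [eq_top_iff]
  intro g _
  obtain ⟨n, c, hg⟩ := exists_pole_of H g
  exact key n g c hg

end K857.WeiAlg
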