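import Groth.Agent.Biell.K857.TwoCharts
import Groth.Agent.Biell.K857.WeiAlg2

/-!
# Non-vanishing of the discriminant over a normal fibre square
-/

set_option autoImplicit false
universe u

open CategoryTheory CategoryTheory.Limits AlgebraicGeometry TopologicalSpace Opposite
open Groth.Agent.Picfga.RegLocus
open K857.OReg K857.WeiField K857.EqnGeo K857.LD K857.Global

namespace K857.Disc

theorem mem_O_of_sq {Y : Scheme.{u}} [IsIntegral Y]
    (hn : ∀ y : Y, IsIntegrallyClosed (Y.presheaf.stalk y)) {U : Y.Opens} {g : Y.functionField}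
    (hg : g ^ 2 ∈ O U) : g ∈ O U := by
  intro y hy
  obtain ⟨r, hr⟩ := hg y hy
  have := hn y
  have hint : _root_.IsIntegral (Y.presheaf.stalk y) g := by
    refine ⟨Polynomial.X ^ 2 - Polynomial.C r, Polynomial.monic_X_pow_sub_C r two_ne_zero, ?_⟩
    simp [hr]
  exact IsIntegrallyClosed.isIntegral_iff.mp hint

variable {Y : Scheme.{u}} [IsIntegral Y] {κ : Type u} [Field κ] {ι : κ →+* Y.functionField}
  {R : Subring κ} {D U U' V V' : Y.Opens} {e z : Y.functionField} {ρ : O U' →+* κ}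

theorem no_double_root' (hC : IsChart ι R D V V' e) (hE : IsEqn ι R D U U' z ρ)
    (hrel : Rel U U' V V' z⁻¹ e) (hN : ∀ (U : Y.Opens) (g : Y.functionField), g ^ 2 ∈ O U → g ∈ O U)
    {x y : Y.functionField} {α : κ} (hα : α ∈ R)
    (h : Short ι R U ρ z x y (-3 * α ^ 2) (2 * α ^ 3)) : False := by
  let _ := alg ι R
  have hs := isShort hC hE h
  have e1 : (⟨-3 * α ^ 2, h.ha⟩ : R) = -3 * (⟨α, hα⟩ : R) ^ 2 := rfl
  have e2 : (⟨2 * α ^ 3, h.hb⟩ : R) = 2 * (⟨α, hα⟩ : R) ^ 3 := rfl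
  rw [e1, e2] at hs
  refine WeiAlg.no_double_root (wd hC hE hrel) ?_ ?_ ?_ hs
  · rintro ⟨g, hg⟩ ⟨g', hg'⟩ ⟨c, hc⟩ hgc hne
    have hne' : g' ≠ 0 := fun h0 => hne (Subtype.ext h0)
    have hgc' : g ^ 2 = c * g' ^ 2 := congrArg Subtype.val hgc
    have hd : (g / g') ∈ O U := by
      apply hN
      have : (g / g') ^ 2 = c := by
        rw [div_pow, hgc', mul_div_cancel_right₀ _ (pow_ne_zero 2 hne')]
      rw [this]; exact hc
    refine ⟨⟨g / g', hd⟩, Subtype.ext ?_⟩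
    change g = g / g' * g'
    rw [div_mul_cancel₀ _ hne']
  · intro t h' ht
    have : t ∈ O U' := hN U' t (by
      have : t ^ 2 = (h' : Y.functionField) := ht
      rw [this]; exact h'.2)
    exact ⟨⟨t, this⟩, rfl⟩
  · rintro ⟨g, hg⟩ ⟨g', hg'⟩ h0
    have : g * g' = 0 := congrArg Subtype.val h0
    rcases mul_eq_zero.mp this with h1 | h1
    · left; exact Subtype.ext h1
    · right; exact Subtype.ext h1

theorem exists_root {L : Type*} [Field L] (h6 : (6 : L) ≠ 0) {a b : L}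
    (h : 4 * a ^ 3 + 27 * b ^ 2 = 0) : ∃ α : L, a = -3 * α ^ 2 ∧ b = 2 * α ^ 3 := by
  have h2 : (2 : L) ≠ 0 := fun h0 => h6 (by
    have : (6 : L) = 3 * 2 := by norm_num
    rw [this, h0, mul_zero])
  have h3 : (3 : L) ≠ 0 := fun h0 => h6 (by
    have : (6 : L) = 2 * 3 := by norm_num
    rw [this, h0, mul_zero])
  by_cases ha : a = 0
  · subst ha
    have hb : b = 0 := by
      have h27 : (27 : L) ≠ 0 := by
        have : (27 : L) = 3 ^ 3 := by norm_num
        rw [this]; exact pow_ne_zero _ h3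
      have : 27 * b ^ 2 = 0 := by linear_combination h
      exact pow_eq_zero_iff (two_ne_zero) |>.mp ((mul_eq_zero.mp this).resolve_left h27)
    exact ⟨0, by simp, by simp [hb]⟩
  · refine ⟨-3 * b / (2 * a), ?_, ?_⟩
    · field_simp
      linear_combination h
    · field_simp
      linear_combination b * h

theorem disc_ne_zero {X S Z Y : Scheme.{u}} [IsIntegral X] [IsIntegral S] [IsIntegral Z] [IsIntegral Y]
    {f : X ⟶ S} {g : Z ⟶ S} {p : Y ⟶ X} {q : Y ⟶ Z} {δ : Z ⟶ Y} [IsDominant f] [IsDominant p]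
    [IsDominant q] {A : S.Opens} {V V' : X.Opens} {e : X.functionField} {Δc : Y.Opens}
    [IsClosedImmersion δ] [Flat g] [QuasiSeparatedSpace X] (hS : Sit f g p q δ A V V' e Δc)
    (hn : ∀ y : Y, IsIntegrallyClosed (Y.presheaf.stalk y))
    {x y : Y.functionField} {a b : Z.functionField} (hG : IsGlob f g p q δ A V V' e Δc x y a b) :
    4 * a ^ 3 + 27 * b ^ 2 ≠ 0 := by
  intro h0
  have h6 : (6 : Z.functionField) ≠ 0 := by
    obtain ⟨s, -, h6⟩ := hS.h6
    exact left_ne_zero_of_mul_eq_one h6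
  obtain ⟨α, ha, hb⟩ := exists_root h6 h0
  obtain ⟨W₀, U₀, z, hWA₀, hN₀⟩ := hG.ex
  obtain ⟨z', hz', -⟩ := hN₀.dat
  have := hz'.ne
  have hη₀ : genericPoint Z ∈ W₀ := genericPoint_mem W₀
  obtain ⟨W, U, hW, hU, hxW, hpre, hle, hWW, hUU⟩ := exists_nhd hS.hδ (genericPoint Z) (W₀ ⊓ reg α)
    ⟨hη₀, genericPoint_mem_reg α⟩ U₀ (by rw [← hz'.pre] at hη₀; exact hη₀)
  have hWne : Nonempty W := ⟨⟨_, hxW⟩⟩
  have hUx : δ (genericPoint Z) ∈ U := by rw [← hpre] at hxW; exact hxW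
  have hUne : Nonempty U := ⟨⟨_, hUx⟩⟩
  have hUne' : Nonempty (δ ⁻¹ᵁ U : Z.Opens) := ⟨⟨_, hUx⟩⟩
  have hN := hN₀.restrict hW hU hpre hle hWne hUne hUU (hWW.trans inf_le_left)
  have hWA : W ≤ g ⁻¹ᵁ A := (hWW.trans inf_le_left).trans hWA₀
  have hα : α ∈ O W := mem_O.mpr (hWW.trans inf_le_right)
  have hs := hG.short W U z hWA hN
  subst ha hb
  exact no_double_root' (chart_at hS hW hWne hWA) (hN.isEqn hS) hN.rel
    (fun U g hg => mem_O_of_sq hn hg) hα hs

end K857.Disc
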