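import Groth.Agent.Biell.K857.WeiField
import Groth.Agent.Biell.K857.FF
import Mathlib.AlgebraicGeometry.IdealSheaf.Basic
import Mathlib.AlgebraicGeometry.Morphisms.QuasiSeparated

/-!
# Local equations of a section
-/

set_option autoImplicit false
universe u

open CategoryTheory CategoryTheory.Limits AlgebraicGeometry TopologicalSpace Opposite
open Groth.Agent.Picfga.RegLocus
open K857.OReg K857.WeiField

namespace K857.EqnGeo

variable {X Y : Scheme.{u}} [IsIntegral X] [IsIntegral Y]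

/-- Rational functions regular on a basic open of an affine open. -/
theorem exists_pow_mul_mem {U : Y.Opens} (hU : IsAffineOpen U) [Nonempty U] (f : Γ(Y, U))
    {g : Y.functionField} (hg : g ∈ O (Y.basicOpen f)) :
    ∃ n : ℕ, Y.germToFunctionField U f ^ n * g ∈ O U := by
  by_cases hne : Nonempty (Y.basicOpen f)
  · obtain ⟨a, rfl⟩ := exists_sec hg
    obtain ⟨n, y, hy⟩ := exists_eq_pow_mul_of_isAffineOpen Y U hU f a
    refine ⟨n, ?_⟩
    have h1 : Y.germToFunctionField U y = Y.germToFunctionField U f ^ n *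
        Y.germToFunctionField (Y.basicOpen f) a := by
      have h2 := congrArg (Y.germToFunctionField (Y.basicOpen f)) hy
      rw [map_mul, map_pow] at h2
      have h3 : Y.germToFunctionField (Y.basicOpen f) (rs (Y.basicOpen_le f) y) =
        Y.germToFunctionField (Y.basicOpen f) (rs (Y.basicOpen_le f) f) ^ n *
          Y.germToFunctionField (Y.basicOpen f) a := h2
      rwa [germ_rs, germ_rs] at h3
    rw [← h1]
    exact germ_mem y
  · have h0 : f = 0 := by
      by_contra hf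
      apply hne
      refine ⟨⟨genericPoint Y, ?_⟩⟩
      rw [Scheme.mem_basicOpen _ _ _ (genericPoint_mem U)]
      exact (IsUnit.mk0 _ (fun h => hf (Y.germToFunctionField_injective U (by rw [map_zero]; exact h))))
    exact ⟨1, by rw [h0, map_zero, pow_one, zero_mul]; exact zero_mem _⟩

variable (q : Y ⟶ X) (δ : X ⟶ Y) [IsClosedImmersion δ]

omit [IsIntegral X] [IsIntegral Y] in
theorem basicOpen_eq {U : Y.Opens} (hU : IsAffineOpen U) (z : Γ(Y, U))
    (hz : δ.ker.ideal ⟨U, hU⟩ = Ideal.span {z}) (Δc : Y.Opens)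
    (hΔ : ∀ y, y ∈ Δc ↔ y ∉ Set.range δ) : Y.basicOpen z = Δc ⊓ U := by
  have hs : (δ.ker.support : Set Y) = Set.range δ := by
    rw [Scheme.Hom.support_ker]
    exact δ.isClosedEmbedding.isClosed_range.closure_eq
  ext y
  constructor
  · intro hy
    have hyU : y ∈ U := Y.basicOpen_le z hy
    refine ⟨(hΔ y).2 fun hr => ?_, hyU⟩
    have h1 : y ∈ δ.ker.support := by
      change y ∈ (δ.ker.support : Set Y); rw [hs]; exact hr
    rw [Scheme.IdealSheafData.mem_support_iff_of_mem (U := ⟨U, hU⟩) hyU, hz,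
      Scheme.zeroLocus_span, Scheme.mem_zeroLocus_iff] at h1
    exact h1 z rfl hy
  · rintro ⟨hy, hyU⟩
    by_contra h
    refine (hΔ y).1 hy ?_
    rw [← hs]
    change y ∈ δ.ker.support
    rw [Scheme.IdealSheafData.mem_support_iff_of_mem (U := ⟨U, hU⟩) hyU, hz,
      Scheme.zeroLocus_span, Scheme.mem_zeroLocus_iff]
    rintro f rfl
    exact h

theorem isEqn [IsDominant q] (hδ : δ ≫ q = 𝟙 X) {U : Y.Opens} (hU : IsAffineOpen U)
    {W : X.Opens} [Nonempty W] (hW : δ ⁻¹ᵁ U = W) (hUW : U ≤ q ⁻¹ᵁ W) (z : Γ(Y, U)) (hz0 : z ≠ 0)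
    (hz : δ.ker.ideal ⟨U, hU⟩ = Ideal.span {z}) (Δc : Y.Opens) [Nonempty Δc]
    (hΔ : ∀ y, y ∈ Δc ↔ y ∉ Set.range δ) [Nonempty U] [Nonempty (δ ⁻¹ᵁ U : X.Opens)] :
    IsEqn (ff q) (O W) (q ⁻¹ᵁ W) (q ⁻¹ᵁ W ⊓ Δc) U (Y.germToFunctionField U z) (pb δ U) := by
  have := nonempty_preimage q W
  have hbo := basicOpen_eq δ hU z hz Δc hΔ
  have hinf : q ⁻¹ᵁ W ⊓ Δc ⊓ U = Y.basicOpen z := by
    rw [hbo]
    apply le_antisymm
    · exact le_inf (inf_le_left.trans inf_le_right) inf_le_right
    · exact le_inf (le_inf (inf_le_right.trans hUW) inf_le_left) inf_le_right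
  have hker : ∀ a : Γ(Y, U), δ.app U a = 0 → ∃ b, a = z * b := by
    intro a ha
    have h1 : a ∈ δ.ker.ideal ⟨U, hU⟩ := by
      rw [Scheme.Hom.ker_apply]; exact ha
    rw [hz, Ideal.mem_span_singleton] at h1
    exact h1
  refine ⟨?_, nonempty_inf _ _, inferInstance, germ_mem z, ?_, ?_, ?_, ?_, ?_, ?_, ?_⟩
  · apply le_antisymm
    · exact sup_le inf_le_left hUW
    · intro y hy
      by_cases hr : y ∈ Set.range δ
      · right
        obtain ⟨x, rfl⟩ := hr
        have h1 : q (δ x) = x := by rw [← Scheme.Hom.comp_apply, hδ]; rfl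
        have h2 : x ∈ W := by rw [← h1]; exact hy
        rw [← hW] at h2
        exact h2
      · left
        exact ⟨hy, (hΔ y).2 hr⟩
  · intro h
    exact hz0 (Y.germToFunctionField_injective U (by rw [h, map_zero]))
  · rw [hinf]
    intro y hy
    have hyU : y ∈ U := Y.basicOpen_le z hy
    rw [Scheme.mem_basicOpen _ _ _ hyU] at hy
    obtain ⟨u, hu⟩ := hy
    refine ⟨(↑u⁻¹ : Y.presheaf.stalk y), ?_⟩
    have h1 : algebraMap (Y.presheaf.stalk y) Y.functionField ↑u⁻¹ *
        algebraMap (Y.presheaf.stalk y) Y.functionField ↑u = 1 := by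
      rw [← map_mul, Units.inv_mul, map_one]
    have h2 : algebraMap (Y.presheaf.stalk y) Y.functionField ↑u = Y.germToFunctionField U z := by
      rw [hu]
      exact Y.algebraMap_germ_eq_germToFunctionField hyU z
    rw [h2] at h1
    exact eq_inv_of_mul_eq_one_left h1
  · intro g
    have := pb_mem δ U g
    rwa [hW] at this
  · intro r hr h
    exact pb_ff q δ hδ U W hUW r hr h
  · rintro ⟨g, hg⟩ hg0
    obtain ⟨a, rfl⟩ := exists_sec hg
    rw [pb_germ] at hg0
    have h1 : δ.app U a = 0 := X.germToFunctionField_injective (δ ⁻¹ᵁ U) (by rw [hg0, map_zero])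
    obtain ⟨b, hb⟩ := hker a h1
    subst hb
    exact ⟨_, germ_mem b, map_mul _ _ _⟩
  · rw [pb_germ]
    have h1 : z ∈ δ.ker.ideal ⟨U, hU⟩ := by rw [hz]; exact Ideal.mem_span_singleton_self z
    rw [Scheme.Hom.ker_apply] at h1
    have h2 : δ.app U z = 0 := h1
    rw [h2, map_zero]
  · intro g hg
    refine exists_pow_mul_mem hU z (O_mono ?_ hg)
    rw [hbo]
    exact le_inf ((inf_le_right.trans hUW)) inf_le_left

end K857.EqnGeo
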