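import Groth.Agent.Biell.K857.FibData

/-!
# Weierstrass coordinates restricted to a closed fibre, continued
-/

set_option autoImplicit false
universe u

open CategoryTheory CategoryTheory.Limits AlgebraicGeometry TopologicalSpace Opposite
open Groth.Agent.Picfga.RegLocus
open K857.OReg K857.WeiField K857.EqnGeo K857.LD K857.Global

namespace K857.FibData

variable {Z Y F : Scheme.{u}} [IsIntegral Z] [IsIntegral Y] [IsIntegral F]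
variable {q : Y ⟶ Z} {δ : Z ⟶ Y} [IsDominant q] {Δc : Y.Opens}

theorem exists_co {i : F ⟶ Y} {W : Z.Opens} {U : Y.Opens} {z : Γ(Y, U)} [Nonempty U]
    [Nonempty (δ ⁻¹ᵁ U : Z.Opens)] [Nonempty W]
    (fd : FD q i Δc W U z)
    (hE : IsEqn (ff q) (O W) (q ⁻¹ᵁ W) (q ⁻¹ᵁ W ⊓ Δc) U (Y.germToFunctionField U z) (pb δ U))
    {x y : Y.functionField} {a b : Z.functionField}
    (hs : Short (ff q) (O W) (q ⁻¹ᵁ W ⊓ Δc) (pb δ U) (Y.germToFunctionField U z) x y a b)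
    (hdisc : 4 * a ^ 3 + 27 * b ^ 2 ≠ 0) (hdW : (4 * a ^ 3 + 27 * b ^ 2)⁻¹ ∈ O W)
    (hinv : ∀ c ∈ O (⊤ : F.Opens), c ≠ 0 → c⁻¹ ∈ O (⊤ : F.Opens))
    (haff : IsAffineOpen (i ⁻¹ᵁ (q ⁻¹ᵁ W ⊓ Δc)))
    (hH : ¬ Subsingleton (Coh.HH F (Coh.structureModule F) 1)) :
    ∃ x' y' a' b' : F.functionField, FibGen.Co (i ⁻¹ᵁ (q ⁻¹ᵁ W ⊓ Δc)) (i ⁻¹ᵁ U)
      (F.germToFunctionField (i ⁻¹ᵁ U) (h := fd.nU) (i.app U z)) x' y' ∧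
      a' ∈ O (⊤ : F.Opens) ∧ b' ∈ O (⊤ : F.Opens) ∧ y' ^ 2 = x' ^ 3 + a' * x' + b' ∧
      4 * a' ^ 3 + 27 * b' ^ 2 ≠ 0 := by
  have nU := fd.nU
  have n0 := fd.n0
  set z' := Y.germToFunctionField U z with hz'def
  let P₀ : Y.Opens := (q ⁻¹ᵁ W ⊓ Δc) ⊓ U
  have l0 : P₀ ≤ q ⁻¹ᵁ W ⊓ Δc := inf_le_left
  have lU : P₀ ≤ U := inf_le_right
  have lW : P₀ ≤ q ⁻¹ᵁ W := l0.trans inf_le_left
  have hiP : genericPoint F ∈ i ⁻¹ᵁ P₀ :=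
    ⟨genericPoint_mem (i ⁻¹ᵁ (q ⁻¹ᵁ W ⊓ Δc)), genericPoint_mem (i ⁻¹ᵁ U)⟩
  have nP : Nonempty (i ⁻¹ᵁ P₀ : F.Opens) := ⟨⟨_, hiP⟩⟩
  have nP' : Nonempty P₀ := ⟨⟨i (genericPoint F), hiP⟩⟩
  have mx : x ∈ O P₀ := O_mono l0 hs.hx
  have my : y ∈ O P₀ := O_mono l0 hs.hy
  have mz : z' ∈ O P₀ := O_mono lU (germ_mem z)
  have ma : ff q a ∈ O P₀ := O_mono lW (ff_mem q hs.ha)
  have mb : ff q b ∈ O P₀ := O_mono lW (ff_mem q hs.hb)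
  have md : ff q (4 * a ^ 3 + 27 * b ^ 2)⁻¹ ∈ O P₀ := O_mono lW (ff_mem q hdW)
  let ψ := pb i P₀
  have hζ : F.germToFunctionField (i ⁻¹ᵁ U) (i.app U z) = ψ ⟨z', mz⟩ := by
    have b1 : ψ ⟨z', mz⟩ = pb i U ⟨z', germ_mem z⟩ := pb_restrict i lU z' (germ_mem z) mz
    rw [b1, pb_germ]
  have hζ0 : F.germToFunctionField (i ⁻¹ᵁ U) (i.app U z) ≠ 0 := fun h0 => fd.z0
    (F.germToFunctionField_injective (i ⁻¹ᵁ U) (by rw [map_zero]; exact h0))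
  -- restriction of a pole condition
  have pole : ∀ (n : ℕ) (t : Y.functionField) (mt : t ∈ O P₀), P (pb δ U) z' n t 1 →
      ∃ h ∈ O (i ⁻¹ᵁ U), F.germToFunctionField (i ⁻¹ᵁ U) (i.app U z) ^ n * ψ ⟨t, mt⟩ =
        1 + F.germToFunctionField (i ⁻¹ᵁ U) (i.app U z) * h := by
    intro n t mt ⟨h1, h2⟩
    have h3 : pb δ U (⟨z' ^ n * t, h1⟩ - 1) = 0 := by rw [map_sub, h2, map_one, sub_self]
    obtain ⟨H, hH', e1⟩ := hE.ker _ h3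
    have e2 : z' ^ n * t - 1 = z' * H := e1
    have mH : H ∈ O P₀ := O_mono lU hH'
    refine ⟨pb i U ⟨H, hH'⟩, pb_mem _ _ _, ?_⟩
    have e3 : pb i U ⟨H, hH'⟩ = ψ ⟨H, mH⟩ := (pb_restrict i lU H hH' mH).symm
    rw [e3, hζ]
    have e4 : (⟨z', mz⟩ : O P₀) ^ n * ⟨t, mt⟩ = 1 + ⟨z', mz⟩ * ⟨H, mH⟩ := Subtype.ext (by
      change z' ^ n * t = 1 + z' * H
      linear_combination e2)
    have e5 := congrArg ψ e4
    rwa [map_mul, map_pow, map_add, map_mul, map_one] at e5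
  have hloc : ∀ t ∈ O (i ⁻¹ᵁ (q ⁻¹ᵁ W ⊓ Δc)), ∃ n : ℕ,
      F.germToFunctionField (i ⁻¹ᵁ U) (i.app U z) ^ n * t ∈ O (i ⁻¹ᵁ U) := fun t ht =>
    fd.loc t (O_mono inf_le_left ht)
  refine ⟨ψ ⟨x, mx⟩, ψ ⟨y, my⟩, ψ ⟨ff q a, ma⟩, ψ ⟨ff q b, mb⟩,
    ⟨fd.cov, hζ0, germ_mem _, fd.ker, hloc, ?_, pb_mem_of_le i l0 hs.hx mx, pb_mem_of_le i l0 hs.hy my,
      pole 2 x mx hs.px, pole 3 y my hs.py⟩, ?_, ?_, ?_, ?_⟩
  · exact FibGen.simple_of_H1 fd.cov haff fd.affU hζ0 (germ_mem _) hinv fd.ker fd.loc hH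
  · have := pb_mem_of_le i lW (ff_mem q hs.ha) ma
    rwa [fd.top] at this
  · have := pb_mem_of_le i lW (ff_mem q hs.hb) mb
    rwa [fd.top] at this
  · have e1 : (⟨y, my⟩ : O P₀) ^ 2 = ⟨x, mx⟩ ^ 3 + ⟨ff q a, ma⟩ * ⟨x, mx⟩ + ⟨ff q b, mb⟩ :=
      Subtype.ext hs.eq
    have e2 := congrArg ψ e1
    rwa [map_pow, map_add, map_add, map_mul, map_pow] at e2
  · intro h0
    have e1 : (4 * (⟨ff q a, ma⟩ : O P₀) ^ 3 + 27 * ⟨ff q b, mb⟩ ^ 2) *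
        ⟨ff q (4 * a ^ 3 + 27 * b ^ 2)⁻¹, md⟩ = 1 := Subtype.ext (by
      change (4 * (ff q a) ^ 3 + 27 * (ff q b) ^ 2) * ff q (4 * a ^ 3 + 27 * b ^ 2)⁻¹ = 1
      have : 4 * (ff q a) ^ 3 + 27 * (ff q b) ^ 2 = ff q (4 * a ^ 3 + 27 * b ^ 2) := by
        simp only [map_add, map_mul, map_pow, map_ofNat]
      rw [this, ← map_mul, mul_inv_cancel₀ hdisc, map_one])
    have e2 := congrArg ψ e1
    rw [map_mul, map_add, map_mul, map_mul, map_pow, map_pow, map_ofNat, map_ofNat, map_one] at e2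
    rw [h0, zero_mul] at e2
    exact zero_ne_one e2

end K857.FibData
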