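import Groth.Agent.Biell.K857.SimplePole

/-!
# Generators of the ring of functions with poles at one point
-/

set_option autoImplicit false
universe u

open CategoryTheory CategoryTheory.Limits AlgebraicGeometry TopologicalSpace Opposite
open Groth.Agent.Picfga.RegLocus Groth.Agent
open K857.OReg

namespace K857.FibGen

variable {X : Scheme.{u}} [IsIntegral X]

/-- The data of two coordinates with poles of order two and three at a point. -/
structure Co (U U' : X.Opens) (z x y : X.functionField) : Prop where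
  cov : U ⊔ U' = ⊤
  z0 : z ≠ 0
  hz : z ∈ O U'
  ker : ∀ g ∈ O U', ∃ c ∈ O (⊤ : X.Opens), ∃ h ∈ O U', g = c + z * h
  loc : ∀ t ∈ O U, ∃ n : ℕ, z ^ n * t ∈ O U'
  simple : ∀ g ∈ O U, ∀ c ∈ O (⊤ : X.Opens), ∀ h ∈ O U', z * g = c + z * h → c = 0
  hx : x ∈ O U
  hy : y ∈ O U
  px : ∃ h ∈ O U', z ^ 2 * x = 1 + z * h
  py : ∃ h ∈ O U', z ^ 3 * y = 1 + z * h

theorem pow_form {U' : X.Opens} {z w h : X.functionField} (hz : z ∈ O U') (hh : h ∈ O U')
    (hw : w = 1 + z * h) (n : ℕ) : ∃ h' ∈ O U', w ^ n = 1 + z * h' := by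
  induction n with
  | zero => exact ⟨0, zero_mem _, by simp⟩
  | succ n ih =>
    obtain ⟨h', hh', e⟩ := ih
    refine ⟨h' + h + z * (h' * h), add_mem (add_mem hh' hh) (mul_mem hz (mul_mem hh' hh)), ?_⟩
    rw [pow_succ, e, hw]; ring

theorem gen {U U' : X.Opens} {z x y : X.functionField} (H : Co U U' z x y)
    (S : Subring X.functionField) (hS : O (⊤ : X.Opens) ≤ S) (hxS : x ∈ S) (hyS : y ∈ S) :
    O U ≤ S := by
  have mono : ∀ n : ℕ, 2 ≤ n → ∃ m ∈ S, m ∈ O U ∧ ∃ h ∈ O U', z ^ n * m = 1 + z * h := by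
    intro n hn
    obtain ⟨i, j, rfl⟩ : ∃ i j : ℕ, n = 2 * i + 3 * j := by
      obtain ⟨m, rfl | rfl⟩ : ∃ m, n = 2 * m ∨ n = 2 * m + 1 := ⟨n / 2, by omega⟩
      · exact ⟨m, 0, by omega⟩
      · exact ⟨m - 1, 1, by omega⟩
    obtain ⟨h1, hh1, e1⟩ := H.px
    obtain ⟨h2, hh2, e2⟩ := H.py
    obtain ⟨h3, hh3, e3⟩ := pow_form H.hz hh1 e1 i
    obtain ⟨h4, hh4, e4⟩ := pow_form H.hz hh2 e2 j
    refine ⟨x ^ i * y ^ j, S.mul_mem (S.pow_mem hxS i) (S.pow_mem hyS j),
      mul_mem (pow_mem H.hx i) (pow_mem H.hy j), h3 + h4 + z * (h3 * h4),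
      add_mem (add_mem hh3 hh4) (mul_mem H.hz (mul_mem hh3 hh4)), ?_⟩
    calc z ^ (2 * i + 3 * j) * (x ^ i * y ^ j) = (z ^ 2 * x) ^ i * (z ^ 3 * y) ^ j := by
          rw [pow_add, pow_mul, pow_mul, mul_pow, mul_pow]; ring
      _ = (1 + z * h3) * (1 + z * h4) := by rw [e3, e4]
      _ = 1 + z * (h3 + h4 + z * (h3 * h4)) := by ring
  have key : ∀ n : ℕ, ∀ g ∈ O U, z ^ n * g ∈ O U' → g ∈ S := by
    intro n
    induction n with
    | zero =>
      intro g hg hg'
      rw [pow_zero, one_mul] at hg'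
      apply hS
      have := mem_O_sup hg hg'
      rwa [H.cov] at this
    | succ n ih =>
      intro g hg hg'
      obtain ⟨c, hc, h, hh, e⟩ := H.ker _ hg'
      rcases Nat.eq_zero_or_pos n with rfl | hn
      · rw [zero_add, pow_one] at e
        have hc0 := H.simple g hg c hc h hh e
        rw [hc0, zero_add] at e
        have : g = h := mul_left_cancel₀ H.z0 e
        apply ih g hg
        rw [pow_zero, one_mul, this]; exact hh
      · obtain ⟨m, hmS, hmU, h', hh', e'⟩ := mono (n + 1) (by omega)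
        have hcU : c ∈ O U := O_mono le_top hc
        have hcU' : c ∈ O U' := O_mono le_top hc
        have e2 : z ^ n * (g - c * m) = h - c * h' := by
          apply mul_left_cancel₀ H.z0
          calc z * (z ^ n * (g - c * m)) = z ^ (n + 1) * g - c * (z ^ (n + 1) * m) := by ring
            _ = (c + z * h) - c * (1 + z * h') := by rw [e, e']
            _ = z * (h - c * h') := by ring
        have h3 := ih (g - c * m) (sub_mem hg (mul_mem hcU hmU))
          (by rw [e2]; exact sub_mem hh (mul_mem hcU' hh'))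
        have : g = (g - c * m) + c * m := by ring
        rw [this]
        exact S.add_mem h3 (S.mul_mem (hS hc) hmS)
  intro g hg
  obtain ⟨n, hn⟩ := H.loc g hg
  exact key n g hg hn

/-- no simple pole when `H¹(O) ≠ 0`. -/
theorem simple_of_H1 {U U' : X.Opens} [Nonempty U] [Nonempty U'] {z : X.functionField}
    (hcov : U ⊔ U' = ⊤) (hU : IsAffineOpen U) (hU' : IsAffineOpen U') (hz0 : z ≠ 0) (hz : z ∈ O U')
    (hinv : ∀ c ∈ O (⊤ : X.Opens), c ≠ 0 → c⁻¹ ∈ O (⊤ : X.Opens))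
    (hker : ∀ g ∈ O U', ∃ c ∈ O (⊤ : X.Opens), ∃ h ∈ O U', g = c + z * h)
    (hloc : ∀ t ∈ O (U ⊓ U'), ∃ n : ℕ, z ^ n * t ∈ O U')
    (hH : ¬ Subsingleton (Coh.HH X (Coh.structureModule X) 1)) :
    ∀ g ∈ O U, ∀ c ∈ O (⊤ : X.Opens), ∀ h ∈ O U', z * g = c + z * h → c = 0 := by
  intro g hg c hc h hh e
  by_contra hc0
  apply hH
  have hci := hinv c hc hc0
  refine H1Cech.subsingleton hcov hU hU' (SimplePole.split (U := U) (U' := U') (z := z)
    (α := c⁻¹ * g) (β := -(c⁻¹ * h)) hz0 hz (mul_mem (O_mono le_top hci) hg)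
    (neg_mem (mul_mem (O_mono le_top hci) hh)) ?_ hker hloc)
  field_simp
  linear_combination -e

end K857.FibGen
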