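import Groth.Agent.Biell.K857.Iface
import Groth.Agent.Biell.K857.CurveAff
import Groth.Agent.Smoothlim.SmoothLocusBC
import Groth.Agent.Surf.K456.FlatCurve
import Groth.Agent.VarietyA.SmoothReg
import Groth.Agent.Variety.K658.RelDimComp
import Groth.Agent.VarietyB.DimSch
import Groth.Agent.PosLin.K931.UnitInv
import Mathlib.AlgebraicGeometry.AlgClosed.Basic

/-!
# Geometry of a genus one fibration of a smooth surface
-/

set_option autoImplicit false
universe u

open CategoryTheory CategoryTheory.Limits AlgebraicGeometry TopologicalSpace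

namespace K857

/-- The standing situation: a genus one fibration with integral closed fibres of a smooth proper
surface. -/
structure Setup (k : Type u) [Field k] [IsAlgClosed k] {X E : Scheme.{u}}
    [X.Over (Spec (CommRingCat.of k))] [E.Over (Spec (CommRingCat.of k))] (f : X ⟶ E) : Prop where
  fibr : IsFibr k f
  gen : IsGenusOne k f
  int : IsIntegral X
  prop : IsProper (X ↘ Spec (CommRingCat.of k))
  smooth : SmoothOfRelativeDimension 2 (X ↘ Spec (CommRingCat.of k))

theorem dim_eq_of_open {k : Type u} [Field k] (n : ℕ) {F : Scheme.{u}} [IsIntegral F]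
    (s : F ⟶ Spec (CommRingCat.of k)) [LocallyOfFiniteType s] (V : F.Opens)
    (hne : (V : Set F).Nonempty) [SmoothOfRelativeDimension n (V.ι ≫ s)] :
    topologicalKrullDim F = n := by
  let _ : F.Over (Spec (CommRingCat.of k)) := ⟨s⟩
  have hF : LocallyOfFiniteType (F ↘ Spec (CommRingCat.of k)) := inferInstanceAs (LocallyOfFiniteType s)
  have hVne' : Nonempty (V : Scheme.{u}) := hne.to_subtype
  have h1 := Groth.Agent.VarietyB.DimSch.topologicalKrullDim_eq_trd k (X := F)
  have h2 := Groth.Agent.VarietyB.DimSch.topologicalKrullDim_opens_eq_trd k (X := F) V hne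
  have h3 := K658.RelDimComp.topologicalKrullDim_eq n (V.ι ≫ s)
  exact h1.trans (h2.symm.trans h3)

namespace Setup

variable {k : Type u} [Field k] [IsAlgClosed k] {X E : Scheme.{u}}
    [X.Over (Spec (CommRingCat.of k))] [E.Over (Spec (CommRingCat.of k))] {f : X ⟶ E}

theorem isProper (h : Setup k f) : IsProper f := by
  have := h.prop
  have := h.fibr.proper
  have h1 : IsProper (f ≫ (E ↘ Spec (CommRingCat.of k))) := by rw [h.fibr.over]; infer_instance
  exact IsProper.of_comp f (E ↘ Spec (CommRingCat.of k))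

theorem isNoetherianE (h : Setup k f) : IsNoetherian E := by
  have := h.fibr.proper
  have h1 : IsLocallyNoetherian E := LocallyOfFiniteType.isLocallyNoetherian (E ↘ Spec (CommRingCat.of k))
  have h2 : CompactSpace E := QuasiCompact.compactSpace_of_compactSpace (E ↘ Spec (CommRingCat.of k))
  exact {}

theorem isNoetherianX (h : Setup k f) : IsNoetherian X := by
  have := h.prop
  have h1 : IsLocallyNoetherian X := LocallyOfFiniteType.isLocallyNoetherian (X ↘ Spec (CommRingCat.of k))
  have h2 : CompactSpace X := QuasiCompact.compactSpace_of_compactSpace (X ↘ Spec (CommRingCat.of k))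
  exact {}

theorem bij (h : Setup k f) (U : E.Opens) : Function.Bijective (f.app U) :=
  K931.UnitInv.bijective_app_of_isIso f h.fibr.unit U

theorem isDominant (h : Setup k f) : IsDominant f := by
  have := h.fibr.integral
  refine ⟨?_⟩
  rw [DenseRange, dense_iff_inter_open]
  intro U hU ⟨y, hy⟩
  by_contra hcon
  let V : E.Opens := ⟨U, hU⟩
  have hV : f ⁻¹ᵁ V = ⊥ := by
    ext x
    refine ⟨fun hx => ?_, fun hx => hx.elim⟩
    exact (hcon ⟨f x, hx, ⟨x, rfl⟩⟩).elim
  have h1 : Subsingleton Γ(X, f ⁻¹ᵁ V) := by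
    rw [hV]
    infer_instance
  have h2 : Subsingleton Γ(E, V) := (h.bij V).injective.subsingleton
  have : Nonempty V := ⟨⟨y, hy⟩⟩
  exact not_subsingleton Γ(E, V) h2

theorem smoothE (h : Setup k f) : Smooth (E ↘ Spec (CommRingCat.of k)) := by
  have := h.fibr.smooth
  exact SmoothOfRelativeDimension.smooth 1 _

theorem dimE (h : Setup k f) : topologicalKrullDim E = 1 := by
  have := h.fibr.smooth
  have := h.fibr.integral
  exact K658.RelDimComp.topologicalKrullDim_eq 1 (E ↘ Spec (CommRingCat.of k))

theorem regE (h : Setup k f) (y : E) : IsRegularLocalRing (E.presheaf.stalk y) := by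
  have := h.smoothE
  rw [← Groth.Agent.VarietyA.SmoothReg.mem_smoothLocus_iff_of_perfectField (E ↘ Spec (CommRingCat.of k)),
    Scheme.Hom.smoothLocus_eq_top]
  trivial

theorem flat (h : Setup k f) : Flat f := by
  have := h.isProper
  have := h.isDominant
  have := h.int
  have := h.fibr.integral
  exact K456.FlatCurve.flat_of_dominant f h.regE h.dimE.le

theorem lfp (h : Setup k f) : LocallyOfFinitePresentation f := by
  have := h.isProper
  have := h.isNoetherianE
  exact LocallyOfFinitePresentation.iff_locallyOfFiniteType.mpr inferInstance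

theorem smoothX (h : Setup k f) : Smooth (X ↘ Spec (CommRingCat.of k)) := by
  have := h.smooth
  exact SmoothOfRelativeDimension.smooth 2 _

section Fibre

variable (x : Spec (CommRingCat.of k) ⟶ E) (hx : x ≫ (E ↘ Spec (CommRingCat.of k)) = 𝟙 _)

/-- The generic point of a closed fibre is in the smooth locus. -/
theorem exists_mem_smoothLocus (h : Setup k f) (hx : x ≫ (E ↘ Spec (CommRingCat.of k)) = 𝟙 _)
    [LocallyOfFinitePresentation f] :
    ∃ y : (pullback f x : Scheme.{u}), pullback.fst f x y ∈ f.smoothLocus := by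
  have := h.flat
  have := h.gen.integral x hx
  exact ⟨genericPoint (pullback f x : Scheme.{u}),
    (Groth.Agent.Smoothlim.SmoothLocusBC.mem_smoothLocus_iff_of_isPullback
      (IsPullback.of_hasPullback f x) _ (Or.inl (Flat.stalkMap f _))).1
      (Scheme.Hom.genericPoint_mem_smoothLocus_of_perfectField (pullback.snd f x))⟩

theorem smooth_g (f : X ⟶ E) [LocallyOfFinitePresentation f] : Smooth (f.smoothLocus.ι ≫ f) := by
  rw [← Scheme.Hom.smoothLocus_eq_top_iff, ← Scheme.Hom.preimage_smoothLocus_eq]
  exact Scheme.Opens.ι_preimage_self _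

theorem nonempty_smoothLocus (h : Setup k f) [LocallyOfFinitePresentation f] :
    Nonempty f.smoothLocus := by
  have := h.fibr.integral
  have := h.fibr.proper
  have hj : JacobsonSpace E := LocallyOfFiniteType.jacobsonSpace (E ↘ Spec (CommRingCat.of k))
  obtain ⟨x, -, hx⟩ := (nonempty_inter_closedPoints (X := E) (Z := Set.univ)
    Set.univ_nonempty isOpen_univ.isLocallyClosed)
  obtain ⟨y, hy⟩ := h.exists_mem_smoothLocus (pointOfClosedPoint (E ↘ Spec (CommRingCat.of k)) x hx)
    (pointOfClosedPoint_comp _ _ _)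
  exact ⟨⟨_, hy⟩⟩

theorem relDim_g (h : Setup k f) [LocallyOfFinitePresentation f] :
    SmoothOfRelativeDimension 1 (f.smoothLocus.ι ≫ f) := by
  have := smooth_g f
  have := h.nonempty_smoothLocus
  have h1 := h.smooth
  have h2 : SmoothOfRelativeDimension (0 + 2) (f.smoothLocus.ι ≫ (X ↘ Spec (CommRingCat.of k))) :=
    inferInstance
  exact (K658.RelDimComp.of_comp (f.smoothLocus.ι ≫ f) (E ↘ Spec (CommRingCat.of k)) 1 2 h.fibr.smooth
    (by rw [Category.assoc, h.fibr.over]; exact h2)).2

theorem isPullback_smooth (f : X ⟶ E) (x : Spec (CommRingCat.of k) ⟶ E) (Z : X.Opens) :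
    IsPullback (pullback.fst f x ∣_ Z) ((pullback.fst f x ⁻¹ᵁ Z).ι ≫ pullback.snd f x) (Z.ι ≫ f) x :=
  (isPullback_morphismRestrict (pullback.fst f x) Z).paste_vert (IsPullback.of_hasPullback f x)

theorem dim_fibre (h : Setup k f) (hx : x ≫ (E ↘ Spec (CommRingCat.of k)) = 𝟙 _) :
    topologicalKrullDim (pullback f x : Scheme.{u}) = 1 := by
  have := h.isProper
  have := h.lfp
  have := h.relDim_g
  have := h.gen.integral x hx
  obtain ⟨y, hy⟩ := h.exists_mem_smoothLocus x hx
  have := smoothOfRelativeDimension_isStableUnderBaseChange 1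
  have hV : SmoothOfRelativeDimension 1 ((pullback.fst f x ⁻¹ᵁ f.smoothLocus).ι ≫ pullback.snd f x) :=
    MorphismProperty.of_isPullback (isPullback_smooth f x f.smoothLocus) inferInstance
  exact dim_eq_of_open 1 (pullback.snd f x) (pullback.fst f x ⁻¹ᵁ f.smoothLocus) ⟨y, hy⟩

theorem haff (h : Setup k f) (hx : x ≫ (E ↘ Spec (CommRingCat.of k)) = 𝟙 _)
    (U : (pullback f x : Scheme.{u}).Opens) (hU : U ≠ ⊤) : IsAffineOpen U := by
  have := h.isProper
  have := h.gen.integral x hx
  exact CurveAff.isAffineOpen_of_ne_top (pullback.snd f x) (h.dim_fibre x hx).le U hU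

theorem not_subsingleton_H1 (h : Setup k f) (hx : x ≫ (E ↘ Spec (CommRingCat.of k)) = 𝟙 _) :
    ¬ Subsingleton (Coh.HH (pullback f x) (Coh.structureModule (pullback f x)) 1) := by
  intro hs
  have h1 := h.gen.h1 x hx
  let _ : (pullback f x).Over (Spec (CommRingCat.of k)) := ⟨pullback.snd f x⟩
  have h2 := Module.finrank_zero_of_subsingleton (R := k)
    (M := Coh.HH (pullback f x) (Coh.structureModule (pullback f x)) 1)
  exact one_ne_zero (h1.symm.trans h2)

end Fibre

end Setup

end K857
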