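import Mathlib.RingTheory.Nakayama
import Mathlib.RingTheory.Ideal.Operations
import Mathlib.RingTheory.Finiteness.Basic
import Mathlib.RingTheory.Ideal.Maximal
import Mathlib.Algebra.Category.Ring.Constructions

/-!
# Semi-local generation of a finite module by one element
-/

set_option autoImplicit false
universe u

namespace K857.NakGen

variable {R : Type u} [CommRing R] {M : Type u} [AddCommGroup M] [Module R M]

/-- elements outside one and inside the other maximal ideals of a finite set -/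
theorem exists_crt (T : Finset (Ideal R)) (hT : ∀ 𝔪 ∈ T, 𝔪.IsMaximal) (𝔪 : Ideal R) (h : 𝔪 ∈ T) :
    ∃ c : R, c ∉ 𝔪 ∧ ∀ 𝔪' ∈ T, 𝔪' ≠ 𝔪 → c ∈ 𝔪' := by
  classical
  have h𝔪 := hT 𝔪 h
  have h1 : ¬ (T.erase 𝔪).inf id ≤ 𝔪 := by
    intro hle
    obtain ⟨𝔪', h', hle'⟩ := (Ideal.IsPrime.inf_le' h𝔪.isPrime).1 hle
    have h2 := (hT 𝔪' (Finset.mem_of_mem_erase h')).eq_of_le h𝔪.ne_top hle'
    exact Finset.ne_of_mem_erase h' h2
  obtain ⟨c, hc, hc'⟩ := Set.not_subset.mp h1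
  refine ⟨c, hc', fun 𝔪' h' hne => ?_⟩
  exact (Finset.inf_le (f := id) (Finset.mem_erase.mpr ⟨hne, h'⟩)) hc

theorem exists_gen [Module.Finite R M] (T : Finset (Ideal R)) (hT : ∀ 𝔪 ∈ T, 𝔪.IsMaximal)
    (hgen : ∀ 𝔪 ∈ T, ∃ e : M, ∀ m : M, ∃ r : R, m - r • e ∈ 𝔪 • (⊤ : Submodule R M)) :
    ∃ (e : M) (h : R), (∀ 𝔪 ∈ T, h ∉ 𝔪) ∧ ∀ m : M, ∃ r : R, h • m = r • e := by
  classical
  choose! c hc hc' using exists_crt T hT
  choose! ε hε using hgen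
  let e : M := ∑ 𝔪 ∈ T, c 𝔪 • ε 𝔪
  have key : ∀ 𝔪 ∈ T, ∀ m : M, ∃ r : R, m - r • e ∈ 𝔪 • (⊤ : Submodule R M) := by
    intro 𝔪 h𝔪 m
    have hmax := hT 𝔪 h𝔪
    obtain ⟨r, hr⟩ := hε 𝔪 h𝔪 m
    -- inverse of `c 𝔪` modulo `𝔪`
    obtain ⟨d, hd⟩ : ∃ d : R, 1 - d * c 𝔪 ∈ 𝔪 := by
      obtain ⟨y, i, hi, hyi⟩ := hmax.exists_inv (hc 𝔪 h𝔪)
      exact ⟨y, by rw [← hyi]; simpa using hi⟩
    refine ⟨r * d, ?_⟩
    have h1 : e - c 𝔪 • ε 𝔪 ∈ 𝔪 • (⊤ : Submodule R M) := by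
      have : e = c 𝔪 • ε 𝔪 + ∑ 𝔪' ∈ T.erase 𝔪, c 𝔪' • ε 𝔪' :=
        (Finset.add_sum_erase T (fun 𝔪' => c 𝔪' • ε 𝔪') h𝔪).symm
      rw [this, add_sub_cancel_left]
      refine Submodule.sum_mem _ fun 𝔪' h' => ?_
      exact Submodule.smul_mem_smul (hc' 𝔪' (Finset.mem_of_mem_erase h') 𝔪 h𝔪
        (Finset.ne_of_mem_erase h').symm) trivial
    have h2 : m - (r * d) • e = (m - r • ε 𝔪) + (r • ((1 - d * c 𝔪) • ε 𝔪) -
        (r * d) • (e - c 𝔪 • ε 𝔪)) := by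
      module
    rw [h2]
    refine add_mem hr (sub_mem ?_ (Submodule.smul_mem _ _ h1))
    exact Submodule.smul_mem _ _ (Submodule.smul_mem_smul hd trivial)
  -- the quotient
  let N : Submodule R M := Submodule.span R {e}
  let Q := M ⧸ N
  have hQ : ∀ 𝔪 ∈ T, (⊤ : Submodule R Q) ≤ 𝔪 • (⊤ : Submodule R Q) := by
    intro 𝔪 h𝔪 q _
    obtain ⟨m, rfl⟩ := N.mkQ_surjective q
    obtain ⟨r, hr⟩ := key 𝔪 h𝔪 m
    have h1 : N.mkQ m = N.mkQ (m - r • e) := by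
      rw [map_sub, map_smul]
      have : N.mkQ e = 0 := by
        rw [Submodule.mkQ_apply, Submodule.Quotient.mk_eq_zero]
        exact Submodule.mem_span_singleton_self e
      rw [this, smul_zero, sub_zero]
    rw [h1]
    have h2 : N.mkQ (m - r • e) ∈ Submodule.map N.mkQ (𝔪 • (⊤ : Submodule R M)) :=
      Submodule.mem_map_of_mem hr
    rw [Submodule.map_smul''] at h2
    exact Submodule.smul_mono le_rfl le_top h2
  have hann : ∀ 𝔪 ∈ T, ¬ (Module.annihilator R Q) ≤ 𝔪 := by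
    intro 𝔪 h𝔪 hle
    obtain ⟨r, hr, hr'⟩ := Submodule.exists_sub_one_mem_and_smul_eq_zero_of_fg_of_le_smul 𝔪
      (⊤ : Submodule R Q) (Module.Finite.fg_top) (hQ 𝔪 h𝔪)
    have h1 : r ∈ Module.annihilator R Q := by
      rw [Module.mem_annihilator]
      intro q
      exact hr' q trivial
    have h2 := 𝔪.sub_mem (hle h1) hr
    rw [sub_sub_cancel] at h2
    exact (hT 𝔪 h𝔪).ne_top ((Ideal.eq_top_iff_one _).mpr h2)
  obtain ⟨h, hh, hh'⟩ : ∃ h ∈ Module.annihilator R Q, ∀ 𝔪 ∈ T, h ∉ 𝔪 := by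
    by_contra hcon
    push Not at hcon
    have h1 : ((Module.annihilator R Q : Ideal R) : Set R) ⊆ ⋃ 𝔪 ∈ (T : Set (Ideal R)), (𝔪 : Set R) := by
      intro h hh
      obtain ⟨𝔪, h𝔪, hm⟩ := hcon h hh
      exact Set.mem_iUnion₂.mpr ⟨𝔪, h𝔪, hm⟩
    obtain ⟨𝔪, h𝔪, hle⟩ := (Ideal.subset_union_prime (f := id) (⊥ : Ideal R) (⊥ : Ideal R)
      (fun 𝔪 h𝔪 _ _ => (hT 𝔪 h𝔪).isPrime)).1 h1
    exact hann 𝔪 h𝔪 hle
  refine ⟨e, h, hh', fun m => ?_⟩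
  have h1 : N.mkQ (h • m) = 0 := by
    rw [map_smul]
    exact Module.mem_annihilator.mp hh _
  rw [Submodule.mkQ_apply, Submodule.Quotient.mk_eq_zero] at h1
  obtain ⟨r, hr⟩ := Submodule.mem_span_singleton.mp h1
  exact ⟨r, hr.symm⟩

open CategoryTheory in
/-- Pushout of rings along a surjection. -/
theorem pushout_surj {A B K P : CommRingCat.{u}} {α : A ⟶ B} {φ : A ⟶ K} {β : B ⟶ P} {ψ : K ⟶ P}
    (H : IsPushout α φ β ψ) (hφ : Function.Surjective φ) (b : B) (hb : β b = 0) :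
    b ∈ Ideal.map α.hom (RingHom.ker φ.hom) := by
  let I := Ideal.map α.hom (RingHom.ker φ.hom)
  let D : CommRingCat.{u} := CommRingCat.of (B ⧸ I)
  let μ : B ⟶ D := CommRingCat.ofHom (Ideal.Quotient.mk I)
  have hμ : RingHom.ker φ.hom ≤ RingHom.ker (α ≫ μ).hom := by
    intro r hr
    change Ideal.Quotient.mk I (α r) = 0
    rw [Ideal.Quotient.eq_zero_iff_mem]
    exact Ideal.mem_map_of_mem _ hr
  let ν : K ⟶ D := CommRingCat.ofHom (RingHom.liftOfSurjective φ.hom hφ ⟨(α ≫ μ).hom, hμ⟩)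
  have h1 : α ≫ μ = φ ≫ ν := by
    ext r
    change _ = RingHom.liftOfSurjective φ.hom hφ ⟨(α ≫ μ).hom, hμ⟩ (φ.hom r)
    rw [RingHom.liftOfRightInverse_comp_apply]
  have h2 : β ≫ H.desc μ ν h1 = μ := H.inl_desc _ _ _
  have h3 : μ b = 0 := by
    rw [← h2]
    change (H.desc μ ν h1) (β b) = 0
    rw [hb, map_zero]
  exact Ideal.Quotient.eq_zero_iff_mem.mp h3

end K857.NakGen
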