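import Groth.Agent.Biell.K857.ClassMap
import Groth.Agent.Biell.K857.ChartBC
import Groth.Agent.Biell.K857.NakGen
import Groth.Agent.Biell.K857.FibGeo

/-!
# Restriction of functions to a closed fibre and classes in `H¹`
-/

set_option autoImplicit false
universe u

open CategoryTheory CategoryTheory.Limits AlgebraicGeometry TopologicalSpace Opposite
open Groth.Agent.Picfga.RegLocus Groth.Agent
open K857.OReg K857.ClassMap

namespace K857.FibreMap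

variable {k : Type u} [Field k] {X E F : Scheme.{u}} {f : X ⟶ E} {x : Spec (CommRingCat.of k) ⟶ E}
  {i : F ⟶ X} {s : F ⟶ Spec (CommRingCat.of k)}

theorem ker_le (H : IsPullback i s f x) {A : E.Opens} (hA : IsAffineOpen A) (hx : ⊤ ≤ x ⁻¹ᵁ A)
    (hev : Function.Surjective (x.appLE A ⊤ hx)) {V : X.Opens} (hV : IsAffineOpen V)
    (hVA : V ≤ f ⁻¹ᵁ A) (t : Γ(X, V)) (ht : i.app V t = 0) :
    t ∈ Ideal.map (f.appLE A V hVA).hom (RingHom.ker (x.appLE A ⊤ hx).hom) := by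
  have hP : i ⁻¹ᵁ V = i ⁻¹ᵁ V ⊓ s ⁻¹ᵁ ⊤ := by
    rw [Scheme.Hom.preimage_top, inf_top_eq]
  have h1 := (ChartBC.chart H hA hV (isAffineOpen_top _) hVA hx hP).2
  refine NakGen.pushout_surj h1 hev t ?_
  rw [← ht, Scheme.Hom.app_eq_appLE]

theorem app_appLE (H : IsPullback i s f x) {A : E.Opens} (hx : ⊤ ≤ x ⁻¹ᵁ A) {W : X.Opens}
    (hW : W ≤ f ⁻¹ᵁ A) (r : Γ(E, A)) :
    i.app W (f.appLE A W hW r) = s.appLE ⊤ (i ⁻¹ᵁ W) (fun _ _ => trivial) (x.appLE A ⊤ hx r) := by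
  have hle : i ⁻¹ᵁ W ≤ (i ≫ f) ⁻¹ᵁ A := i.preimage_mono hW
  have hle' : i ⁻¹ᵁ W ≤ (s ≫ x) ⁻¹ᵁ A := by rw [← H.w]; exact hle
  have e1 : f.appLE A W hW ≫ i.app W = (i ≫ f).appLE A (i ⁻¹ᵁ W) hle := by
    rw [Scheme.Hom.app_eq_appLE, Scheme.Hom.appLE_comp_appLE]
  have e2 : (i ≫ f).appLE A (i ⁻¹ᵁ W) hle = (s ≫ x).appLE A (i ⁻¹ᵁ W) hle' := by
    simp only [H.w]
  have e3 : x.appLE A ⊤ hx ≫ s.appLE ⊤ (i ⁻¹ᵁ W) (fun _ _ => trivial) =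
      (s ≫ x).appLE A (i ⁻¹ᵁ W) hle' :=
    Scheme.Hom.appLE_comp_appLE s x A ⊤ (i ⁻¹ᵁ W) hx (fun _ _ => trivial)
  change (f.appLE A W hW ≫ i.app W) r = (x.appLE A ⊤ hx ≫ s.appLE ⊤ (i ⁻¹ᵁ W) (fun _ _ => trivial)) r
  rw [e1, e2, e3]

theorem str_eq (s : F ⟶ Spec (CommRingCat.of k)) (W : F.Opens) (c : k) :
    letI : F.Over (Spec (CommRingCat.of k)) := ⟨s⟩
    s.appLE ⊤ W (fun _ _ => trivial) ((Scheme.ΓSpecIso (CommRingCat.of k)).inv c) =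
      Picfga.ChiCech.str k W c := rfl

/-- the value at the point of a function on an open containing it -/
noncomputable def val (x : Spec (CommRingCat.of k) ⟶ E) {A : E.Opens} (hx : ⊤ ≤ x ⁻¹ᵁ A) : Γ(E, A) →+* k :=
  (x.appLE A ⊤ hx ≫ (Scheme.ΓSpecIso (CommRingCat.of k)).hom).hom

theorem appLE_eq (x : Spec (CommRingCat.of k) ⟶ E) {A : E.Opens} (hx : ⊤ ≤ x ⁻¹ᵁ A) (r : Γ(E, A)) :
    x.appLE A ⊤ hx r = (Scheme.ΓSpecIso (CommRingCat.of k)).inv (val x hx r) := by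
  change _ = ((x.appLE A ⊤ hx ≫ (Scheme.ΓSpecIso (CommRingCat.of k)).hom) ≫
    (Scheme.ΓSpecIso (CommRingCat.of k)).inv) r
  rw [Category.assoc, Iso.hom_inv_id, Category.comp_id]

theorem ker_val (x : Spec (CommRingCat.of k) ⟶ E) {A : E.Opens} (hx : ⊤ ≤ x ⁻¹ᵁ A) :
    RingHom.ker (x.appLE A ⊤ hx).hom = RingHom.ker (val x hx) := by
  ext r
  rw [RingHom.mem_ker, RingHom.mem_ker]
  constructor
  · intro h
    change (Scheme.ΓSpecIso (CommRingCat.of k)).hom ((x.appLE A ⊤ hx).hom r) = 0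
    rw [h, map_zero]
  · intro h
    have := appLE_eq x hx r
    rw [h, map_zero] at this
    exact this

theorem val_surjective [E.Over (Spec (CommRingCat.of k))] (hk : x ≫ (E ↘ Spec (CommRingCat.of k)) = 𝟙 _)
    {A : E.Opens} (hx : ⊤ ≤ x ⁻¹ᵁ A) : Function.Surjective (x.appLE A ⊤ hx) := by
  intro c
  have hle : (⊤ : (Spec (CommRingCat.of k)).Opens) ≤ (x ≫ (E ↘ Spec (CommRingCat.of k))) ⁻¹ᵁ ⊤ :=
    fun _ _ => trivial
  refine ⟨(E ↘ Spec (CommRingCat.of k)).appLE ⊤ A (fun _ _ => trivial) c, ?_⟩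
  have h1 := Scheme.Hom.appLE_comp_appLE x (E ↘ Spec (CommRingCat.of k)) ⊤ A ⊤ (fun _ _ => trivial) hx
  have h2 : (x ≫ (E ↘ Spec (CommRingCat.of k))).appLE ⊤ ⊤ hle = 𝟙 _ := by
    simp only [hk]
    rw [Scheme.Hom.appLE, Scheme.Hom.id_app]
    exact (Spec (CommRingCat.of k)).presheaf.map_id _
  have h3 := congr($(h1.trans h2).hom c)
  exact h3

theorem val_surj' [E.Over (Spec (CommRingCat.of k))] (hk : x ≫ (E ↘ Spec (CommRingCat.of k)) = 𝟙 _)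
    {A : E.Opens} (hx : ⊤ ≤ x ⁻¹ᵁ A) : Function.Surjective (val x hx) :=
  (Scheme.ΓSpecIso (CommRingCat.of k)).commRingCatIsoToRingEquiv.surjective.comp (val_surjective hk hx)

theorem isMaximal_ker [E.Over (Spec (CommRingCat.of k))]
    (hk : x ≫ (E ↘ Spec (CommRingCat.of k)) = 𝟙 _) {A : E.Opens} (hx : ⊤ ≤ x ⁻¹ᵁ A) :
    (RingHom.ker (x.appLE A ⊤ hx).hom).IsMaximal := by
  rw [ker_val]
  exact RingHom.ker_isMaximal_of_surjective (val x hx) (val_surj' hk hx)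

section

variable (s) (A : E.Opens) {V V' : X.Opens}

theorem cover_fibre (H : IsPullback i s f x) (hx : ⊤ ≤ x ⁻¹ᵁ A) (hcov : V ⊔ V' = f ⁻¹ᵁ A) :
    i ⁻¹ᵁ V ⊔ i ⁻¹ᵁ V' = ⊤ := by
  have h1 : i ⁻¹ᵁ (V ⊔ V') = ⊤ := by
    rw [hcov]
    ext w
    refine ⟨fun _ => trivial, fun _ => ?_⟩
    change f (i w) ∈ A
    rw [← Scheme.Hom.comp_apply, H.w, Scheme.Hom.comp_apply]
    exact hx (x := s w) trivial
  exact h1

/-- the class on the fibre of a function on the intersection of the two opens -/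
noncomputable def clF (H : IsPullback i s f x) (hx : ⊤ ≤ x ⁻¹ᵁ A) (hcov : V ⊔ V' = f ⁻¹ᵁ A) :
    letI : F.Over (Spec (CommRingCat.of k)) := ⟨s⟩
    Γ(X, V ⊓ V') →+ Coh.HH F (Coh.structureModule F) 1 :=
  letI : F.Over (Spec (CommRingCat.of k)) := ⟨s⟩
  (cl₀ k (cover_fibre s A H hx hcov)).comp
    (show Γ(X, V ⊓ V') →+* Γ(F, i ⁻¹ᵁ V ⊓ i ⁻¹ᵁ V') from (i.app (V ⊓ V')).hom).toAddMonoidHom

variable (H : IsPullback i s f x) (hx : ⊤ ≤ x ⁻¹ᵁ A) (hcov : V ⊔ V' = f ⁻¹ᵁ A)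

theorem clF_surjective [IsClosedImmersion i] (hV : IsAffineOpen V) (hV' : IsAffineOpen V')
    (hVV' : IsAffineOpen (V ⊓ V')) : Function.Surjective (clF s A H hx hcov) := by
  let _ : F.Over (Spec (CommRingCat.of k)) := ⟨s⟩
  exact (cl₀_surjective k (cover_fibre s A H hx hcov) (hV.preimage i) (hV'.preimage i)).comp
    (i.app_surjective (V ⊓ V') hVV')

theorem clF_smul (hVA : V ⊓ V' ≤ f ⁻¹ᵁ A) (r : Γ(E, A)) (t : Γ(X, V ⊓ V')) :
    letI : F.Over (Spec (CommRingCat.of k)) := ⟨s⟩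
    clF s A H hx hcov (f.appLE A (V ⊓ V') hVA r * t) = val x hx r • clF s A H hx hcov t := by
  let _ : F.Over (Spec (CommRingCat.of k)) := ⟨s⟩
  have h1 : ∀ (φ : Γ(X, V ⊓ V') →+* Γ(F, i ⁻¹ᵁ V ⊓ i ⁻¹ᵁ V')), φ (f.appLE A (V ⊓ V') hVA r) =
      Picfga.ChiCech.str k (i ⁻¹ᵁ V ⊓ i ⁻¹ᵁ V') (val x hx r) →
      cl₀ k (cover_fibre s A H hx hcov) (φ (f.appLE A (V ⊓ V') hVA r * t)) =
        val x hx r • cl₀ k (cover_fibre s A H hx hcov) (φ t) := by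
    intro φ hφ
    rw [map_mul, hφ, cl₀_smul]
  refine h1 (i.app (V ⊓ V')).hom ?_
  refine (app_appLE H hx hVA r).trans ?_
  rw [appLE_eq]
  exact str_eq s _ _

theorem clF_eq_zero (hA : IsAffineOpen A) [IsClosedImmersion i] (hev : Function.Surjective (x.appLE A ⊤ hx))
    (hV : IsAffineOpen V) (hV' : IsAffineOpen V') (hVV' : IsAffineOpen (V ⊓ V'))
    (hVA : V ⊓ V' ≤ f ⁻¹ᵁ A) (t : Γ(X, V ⊓ V')) (ht : clF s A H hx hcov t = 0) :
    ∃ (a : Γ(X, V)) (b : Γ(X, V')), t - (rs inf_le_right b - rs inf_le_left a) ∈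
      Ideal.map (f.appLE A (V ⊓ V') hVA).hom (RingHom.ker (x.appLE A ⊤ hx).hom) := by
  let _ : F.Over (Spec (CommRingCat.of k)) := ⟨s⟩
  obtain ⟨a', b', hab⟩ := (cl₀_eq_zero_iff k (cover_fibre s A H hx hcov) _).1 ht
  obtain ⟨a, rfl⟩ := i.app_surjective V hV a'
  obtain ⟨b, rfl⟩ := i.app_surjective V' hV' b'
  refine ⟨a, b, ker_le H hA hx hev hVV' hVA _ ?_⟩
  have hn1 : i.app (V ⊓ V') (rs inf_le_left a) =
      rs (inf_le_left : i ⁻¹ᵁ V ⊓ i ⁻¹ᵁ V' ≤ i ⁻¹ᵁ V) (i.app V a) := by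
    have := i.naturality (homOfLE (inf_le_left : V ⊓ V' ≤ V)).op
    exact congr($(this).hom a)
  have hn2 : i.app (V ⊓ V') (rs inf_le_right b) =
      rs (inf_le_right : i ⁻¹ᵁ V ⊓ i ⁻¹ᵁ V' ≤ i ⁻¹ᵁ V') (i.app V' b) := by
    have := i.naturality (homOfLE (inf_le_right : V ⊓ V' ≤ V')).op
    exact congr($(this).hom b)
  have h2 : i.app (V ⊓ V') t = i.app (V ⊓ V') (rs inf_le_right b) - i.app (V ⊓ V') (rs inf_le_left a) :=
    hab.trans (by rw [hn1, hn2]; rfl)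
  rw [map_sub, map_sub, h2, sub_self]

theorem clF_split (a : Γ(X, V)) (b : Γ(X, V')) :
    clF s A H hx hcov (rs inf_le_right b - rs inf_le_left a) = 0 := by
  let _ : F.Over (Spec (CommRingCat.of k)) := ⟨s⟩
  have hn1 : i.app (V ⊓ V') (rs inf_le_left a) =
      rs (inf_le_left : i ⁻¹ᵁ V ⊓ i ⁻¹ᵁ V' ≤ i ⁻¹ᵁ V) (i.app V a) := by
    have := i.naturality (homOfLE (inf_le_left : V ⊓ V' ≤ V)).op
    exact congr($(this).hom a)
  have hn2 : i.app (V ⊓ V') (rs inf_le_right b) =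
      rs (inf_le_right : i ⁻¹ᵁ V ⊓ i ⁻¹ᵁ V' ≤ i ⁻¹ᵁ V') (i.app V' b) := by
    have := i.naturality (homOfLE (inf_le_right : V ⊓ V' ≤ V')).op
    exact congr($(this).hom b)
  refine (cl₀_eq_zero_iff k (cover_fibre s A H hx hcov) _).2 ⟨i.app V a, i.app V' b, ?_⟩
  rw [← hn1, ← hn2]
  exact map_sub (i.app (V ⊓ V')).hom _ _

end

end K857.FibreMap
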