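import Groth.Agent.Biell.K857.OSplit

/-!
# Comparison of the classes of two functions with respect to two covers by two opens
-/

set_option autoImplicit false
universe u

open CategoryTheory CategoryTheory.Limits AlgebraicGeometry TopologicalSpace Opposite
open Groth.Agent.Picfga.RegLocus Groth.Agent

namespace K857.OReg

variable {X : Scheme.{u}} [IsIntegral X]

/-- The class of `t` on the cover `(U, U')` and the class of `d` on the cover `(V, V')` agree. -/
def Rel (U U' V V' : X.Opens) (t d : X.functionField) : Prop :=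
  ∃ s, s ∈ O (U ⊓ V) ∧ s + d ∈ O (U ⊓ V') ∧ s + t ∈ O (U' ⊓ V) ∧ s + t + d ∈ O (U' ⊓ V')

variable {U U' V V' : X.Opens} {t d : X.functionField}

theorem Rel.symm (h : Rel U U' V V' t d) : Rel V V' U U' d t := by
  obtain ⟨s, h1, h2, h3, h4⟩ := h
  rw [inf_comm] at h1 h2 h3 h4
  exact ⟨s, h1, h3, h2, by rwa [add_right_comm]⟩

theorem Rel.add {t' d' : X.functionField} (h : Rel U U' V V' t d) (h' : Rel U U' V V' t' d') :
    Rel U U' V V' (t + t') (d + d') := by
  obtain ⟨s, h1, h2, h3, h4⟩ := h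
  obtain ⟨s', h1', h2', h3', h4'⟩ := h'
  refine ⟨s + s', add_mem h1 h1', ?_, ?_, ?_⟩
  · convert add_mem h2 h2' using 1; ring
  · convert add_mem h3 h3' using 1; ring
  · convert add_mem h4 h4' using 1; ring

theorem Rel.mul {r : X.functionField} (hU : r ∈ O U) (hU' : r ∈ O U') (h : Rel U U' V V' t d) :
    Rel U U' V V' (r * t) (r * d) := by
  obtain ⟨s, h1, h2, h3, h4⟩ := h
  refine ⟨r * s, mul_mem (O_mono inf_le_left hU) h1, ?_, ?_, ?_⟩
  · convert mul_mem (O_mono inf_le_left hU) h2 using 1; ring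
  · convert mul_mem (O_mono inf_le_left hU') h3 using 1; ring
  · convert mul_mem (O_mono inf_le_left hU') h4 using 1; ring

theorem Rel.neg (h : Rel U U' V V' t d) : Rel U U' V V' (-t) (-d) := by
  have := h.mul (r := -1) (neg_mem (one_mem _)) (neg_mem (one_mem _))
  simpa using this

theorem Rel.sub {t' d' : X.functionField} (h : Rel U U' V V' t d) (h' : Rel U U' V V' t' d') :
    Rel U U' V V' (t - t') (d - d') := by
  rw [sub_eq_add_neg, sub_eq_add_neg]; exact h.add h'.neg

theorem mem_O_inf_sup {g : X.functionField} (hU : U ≤ V ⊔ V') (h : g ∈ O (U ⊓ V))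
    (h' : g ∈ O (U ⊓ V')) : g ∈ O U := by
  intro x hx
  rcases hU hx with hv | hv
  · exact h x ⟨hx, hv⟩
  · exact h' x ⟨hx, hv⟩

theorem Rel.of_split (h : Rel U U' V V' t d) (hU : U ≤ V ⊔ V') (hU' : U' ≤ V ⊔ V')
    {a b : X.functionField} (ha : a ∈ O V) (hb : b ∈ O V') (hd : d = b - a) :
    ∃ g ∈ O U, ∃ g' ∈ O U', t = g' - g := by
  obtain ⟨s, h1, h2, h3, h4⟩ := h
  refine ⟨s - a, mem_O_inf_sup hU (sub_mem h1 (O_mono inf_le_right ha)) ?_, s + t - a,
    mem_O_inf_sup hU' (sub_mem h3 (O_mono inf_le_right ha)) ?_, by ring⟩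
  · have := sub_mem h2 (O_mono (inf_le_right : U ⊓ V' ≤ V') hb)
    rw [hd] at this
    convert this using 1; ring
  · have := sub_mem h4 (O_mono (inf_le_right : U' ⊓ V' ≤ V') hb)
    rw [hd] at this
    convert this using 1; ring

theorem Rel.left_split {g g' : X.functionField} (hg : g ∈ O U) (hg' : g' ∈ O U') :
    Rel U U' V V' (g' - g) 0 := by
  refine ⟨g, O_mono inf_le_left hg, ?_, ?_, ?_⟩
  · simpa using O_mono inf_le_left hg
  · simpa using O_mono inf_le_left hg'
  · simpa using O_mono inf_le_left hg'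

theorem exists_rel [Nonempty U] [Nonempty U'] [Nonempty V] [Nonempty V'] (hV : IsAffineOpen V)
    (hV' : IsAffineOpen V') (hVU : V ≤ U ⊔ U') (hVU' : V' ≤ U ⊔ U') (ht : t ∈ O (U ⊓ U')) :
    ∃ d ∈ O (V ⊓ V'), Rel U U' V V' t d := by
  have key : ∀ (W : X.Opens) [Nonempty W], IsAffineOpen W → W ≤ U ⊔ U' →
      ∃ a ∈ O (U ⊓ W), ∃ b ∈ O (U' ⊓ W), t = b - a := by
    intro W _ hW hWU
    have := nonempty_inf U W
    have := nonempty_inf U' W
    have e : (U ⊓ W) ⊔ (U' ⊓ W) = W := by
      rw [← inf_sup_right]; exact inf_eq_right.mpr hWU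
    refine split (P := U ⊓ W) (Q := U' ⊓ W) (by rwa [e]) (O_mono ?_ ht)
    exact le_inf (inf_le_left.trans inf_le_left) (inf_le_right.trans inf_le_left)
  obtain ⟨a, ha, b, hb, hab⟩ := key V hV hVU
  obtain ⟨a', ha', b', hb', hab'⟩ := key V' hV' hVU'
  have e1 : a' - a = b' - b := by linear_combination hab' - hab
  refine ⟨a' - a, ?_, a, ha, ?_, ?_, ?_⟩
  · refine mem_O_inf_sup (U := V ⊓ V') (V := U) (V' := U') (inf_le_left.trans hVU) ?_ ?_
    · refine sub_mem (O_mono ?_ ha') (O_mono ?_ ha)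
      · exact le_inf inf_le_right (inf_le_left.trans inf_le_right)
      · exact le_inf inf_le_right (inf_le_left.trans inf_le_left)
    · rw [e1]
      refine sub_mem (O_mono ?_ hb') (O_mono ?_ hb)
      · exact le_inf inf_le_right (inf_le_left.trans inf_le_right)
      · exact le_inf inf_le_right (inf_le_left.trans inf_le_left)
  · convert ha' using 1; ring
  · convert hb using 1; linear_combination hab
  · convert hb' using 1; linear_combination hab'

theorem Rel.trans {W W' : X.Opens} {e : X.functionField} (h : Rel U U' V V' t d)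
    (h' : Rel V V' W W' d e) (hU : U ≤ V ⊔ V') (hU' : U' ≤ V ⊔ V') : Rel U U' W W' t (-e) := by
  obtain ⟨s, h1, h2, h3, h4⟩ := h
  obtain ⟨s', h1', h2', h3', h4'⟩ := h'
  have aux : ∀ {A B C : X.Opens} {g g' : X.functionField}, g ∈ O (A ⊓ B) → g' ∈ O (B ⊓ C) →
      g - g' ∈ O (A ⊓ C ⊓ B) := by
    intro A B C g g' hg hg'
    refine sub_mem (O_mono ?_ hg) (O_mono ?_ hg')
    · exact le_inf (inf_le_left.trans inf_le_left) inf_le_right
    · exact le_inf inf_le_right (inf_le_left.trans inf_le_right)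
  refine ⟨s - s', ?_, ?_, ?_, ?_⟩
  · refine mem_O_inf_sup (V := V) (V' := V') (inf_le_left.trans hU) (aux h1 h1') ?_
    convert aux h2 h3' using 1; ring
  · refine mem_O_inf_sup (V := V) (V' := V') (inf_le_left.trans hU) ?_ ?_
    · convert aux h1 h2' using 1; ring
    · convert aux h2 h4' using 1; ring
  · refine mem_O_inf_sup (V := V) (V' := V') (inf_le_left.trans hU') ?_ ?_
    · convert aux h3 h1' using 1; ring
    · convert aux h4 h3' using 1; ring
  · refine mem_O_inf_sup (V := V) (V' := V') (inf_le_left.trans hU') ?_ ?_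
    · convert aux h3 h2' using 1; ring
    · convert aux h4 h4' using 1; ring

end K857.OReg
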