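import Groth.Agent.Biell.K857.CmpMod
import Groth.Agent.Biell.K857.Rel

/-!
# Sections of an invertible module as multiples of a generator by rational functions
-/

set_option autoImplicit false
universe u

open CategoryTheory CategoryTheory.Limits AlgebraicGeometry TopologicalSpace Opposite
open Groth.Agent Groth.Agent.Fdesc.LocGen Groth.Agent.Picfga.RegLocus
open K857.OReg

namespace K857.GenSec

variable {X : Scheme.{u}} [IsIntegral X] {M : X.Modules} {P Q D W W' : X.Opens}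

theorem secEquiv_symm_germ {U : X.Opens} [Nonempty U] (a : Γ(X, U))
    (h : X.germToFunctionField U a ∈ O U) :
    (secEquiv U).symm ⟨X.germToFunctionField U a, h⟩ = a := by
  rw [RingEquiv.symm_apply_eq]; rfl

/-- the section `T • e` over `W` -/
noncomputable def mk (e : Γ(M, P)) [Nonempty W] (h : W ≤ P) : O W →+ Γ(M, W) :=
  AddMonoidHom.mk' (fun T => (secEquiv W).symm T • res M h e) fun a b => by
    rw [map_add, add_smul]

theorem mk_germ (e : Γ(M, P)) [Nonempty W] (h : W ≤ P) (a : Γ(X, W))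
    (ha : X.germToFunctionField W a ∈ O W) :
    mk e h ⟨X.germToFunctionField W a, ha⟩ = a • res M h e := by
  change (secEquiv W).symm ⟨_, ha⟩ • res M h e = _
  rw [secEquiv_symm_germ]

theorem res_mk (e : Γ(M, P)) [Nonempty W] [Nonempty W'] (h : W ≤ P) (hW : W' ≤ W)
    {T : X.functionField} (hT : T ∈ O W) (hT' : T ∈ O W') :
    res M hW (mk e h ⟨T, hT⟩) = mk e (hW.trans h) ⟨T, hT'⟩ := by
  obtain ⟨a, rfl⟩ := exists_sec hT
  have h1 : (⟨X.germToFunctionField W a, hT'⟩ : O W') =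
      ⟨X.germToFunctionField W' (rs hW a), germ_mem _⟩ := Subtype.ext (germ_rs hW a).symm
  rw [mk_germ, h1, mk_germ, res_smul, res_res]
  rfl

theorem mk_surjective {e : Γ(M, P)} (he : IsGen e) [Nonempty W] (h : W ≤ P) (m : Γ(M, W)) :
    ∃ (T : X.functionField) (hT : T ∈ O W), mk e h ⟨T, hT⟩ = m := by
  obtain ⟨a, ha⟩ := (he.res h).exists_eq m
  exact ⟨X.germToFunctionField W a, germ_mem a, by rw [mk_germ, ha]⟩

theorem mk_eq_zero {e : Γ(M, P)} (he : IsGen e) [Nonempty W] (h : W ≤ P) {T : X.functionField}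
    (hT : T ∈ O W) (h0 : mk e h ⟨T, hT⟩ = 0) : T = 0 := by
  obtain ⟨a, rfl⟩ := exists_sec hT
  rw [mk_germ] at h0
  have h1 : a = 0 := (he.res h).ext (by rw [h0, zero_smul])
  rw [h1, map_zero]

theorem mk_inj {e : Γ(M, P)} (he : IsGen e) [Nonempty W] (h : W ≤ P) {T T' : X.functionField}
    (hT : T ∈ O W) (hT' : T' ∈ O W) (h0 : mk e h ⟨T, hT⟩ = mk e h ⟨T', hT'⟩) : T = T' := by
  have h1 : mk e h ⟨T - T', sub_mem hT hT'⟩ = 0 := by
    have : (⟨T - T', sub_mem hT hT'⟩ : O W) = ⟨T, hT⟩ - ⟨T', hT'⟩ := rfl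
    rw [this, map_sub, h0, sub_self]
  exact sub_eq_zero.mp (mk_eq_zero he h _ h1)

theorem mk_sub (e : Γ(M, P)) [Nonempty W] (h : W ≤ P) {T T' : X.functionField}
    (hT : T ∈ O W) (hT' : T' ∈ O W) :
    mk e h ⟨T - T', sub_mem hT hT'⟩ = mk e h ⟨T, hT⟩ - mk e h ⟨T', hT'⟩ :=
  map_sub (mk e h) ⟨T, hT⟩ ⟨T', hT'⟩

/-- change of generators -/
theorem mk_change (e : Γ(M, P)) (e' : Γ(M, Q)) [Nonempty D] (hP : D ≤ P) (hQ : D ≤ Q) {c : X.functionField}
    (hc : c ∈ O D) (h : res M hP e = mk e' hQ ⟨c, hc⟩) [Nonempty W] (hW : W ≤ D)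
    {T : X.functionField} (hT : T ∈ O W) (hcT : c * T ∈ O W) :
    mk e (hW.trans hP) ⟨T, hT⟩ = mk e' (hW.trans hQ) ⟨c * T, hcT⟩ := by
  obtain ⟨a, rfl⟩ := exists_sec hT
  obtain ⟨b, rfl⟩ := exists_sec hc
  have h1 : (⟨X.germToFunctionField D b * X.germToFunctionField W a, hcT⟩ : O W) =
      ⟨X.germToFunctionField W (rs hW b * a), germ_mem _⟩ := Subtype.ext (by
        change X.germToFunctionField D b * X.germToFunctionField W a =
          X.germToFunctionField W (rs hW b * a)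
        rw [map_mul, germ_rs])
  rw [mk_germ, h1, mk_germ, ← res_res M hP hW, h, mk_germ, res_smul, res_res, smul_smul, mul_comm]
  rfl

open CmpMod in
/-- comparison of classes in terms of rational functions -/
theorem clm_eq_ff (hM : PicF.IsInvertible M) {U U' V V' : X.Opens} [Nonempty U] [Nonempty U']
    [Nonempty V] [Nonempty V'] [Nonempty D] (e : Γ(M, P)) (e' : Γ(M, Q)) (hP : D ≤ P) (hQ : D ≤ Q)
    {c : X.functionField} (hc : c ∈ O D) (hcc : res M hP e = mk e' hQ ⟨c, hc⟩)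
    [Nonempty (U ⊓ U' : X.Opens)] [Nonempty (V ⊓ V' : X.Opens)]
    (hU : D ≤ U ⊔ U') (hV : D ≤ V ⊔ V') (hUP : U ⊓ U' ≤ P) (hVQ : V ⊓ V' ≤ Q)
    {t d : X.functionField} (ht : t ∈ O (U ⊓ U')) (hd : d ∈ O (V ⊓ V'))
    (hrel : Rel (D ⊓ U) (D ⊓ U') V V' (-(c * t)) d) :
    clm M hU (mk e hUP ⟨t, ht⟩) = clm M hV (mk e' hVQ ⟨d, hd⟩) := by
  obtain ⟨s, h1, h2, h3, h4⟩ := hrel
  have := nonempty_inf D (U ⊓ U')
  let N : X.Opens := (D ⊓ (U ⊓ U')) ⊓ (V ⊓ V')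
  have n0 : Nonempty N := nonempty_inf (D ⊓ (U ⊓ U')) (V ⊓ V')
  have nDU := nonempty_inf D U
  have nDU' := nonempty_inf D U'
  have n1 := nonempty_inf (D ⊓ U) V
  have n2 := nonempty_inf (D ⊓ U) V'
  have n3 := nonempty_inf (D ⊓ U') V
  have n4 := nonempty_inf (D ⊓ U') V'
  have hND : N ≤ D := inf_le_left.trans inf_le_left
  have hNU : N ≤ U ⊓ U' := inf_le_left.trans inf_le_right
  have hNV : N ≤ V ⊓ V' := inf_le_right
  have hNQ : N ≤ Q := hND.trans hQ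
  have hN1 : N ≤ (D ⊓ U) ⊓ V := le_inf (le_inf hND (hNU.trans inf_le_left)) (hNV.trans inf_le_left)
  have hN2 : N ≤ (D ⊓ U) ⊓ V' := le_inf (le_inf hND (hNU.trans inf_le_left)) (hNV.trans inf_le_right)
  have hN3 : N ≤ (D ⊓ U') ⊓ V := le_inf (le_inf hND (hNU.trans inf_le_right)) (hNV.trans inf_le_left)
  have hN4 : N ≤ (D ⊓ U') ⊓ V' :=
    le_inf (le_inf hND (hNU.trans inf_le_right)) (hNV.trans inf_le_right)
  have ms : s ∈ O N := O_mono hN1 h1
  have mt : t ∈ O N := O_mono hNU ht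
  have md : d ∈ O N := O_mono hNV hd
  have mct : c * t ∈ O N := mul_mem (O_mono hND hc) mt
  have m0 : (0 : X.functionField) ∈ O N := zero_mem _
  have mnct : -(c * t) ∈ O N := neg_mem mct
  have mns : -s ∈ O N := neg_mem ms
  have mnsd : -s - d ∈ O N := sub_mem mns md
  have hWQ : ∀ W : X.Opens, W ≤ D → W ≤ Q := fun W hW => hW.trans hQ
  have eqmk : ∀ {a b : X.functionField} (ha : a ∈ O N) (hb : b ∈ O N), a = b →
      mk e' hNQ ⟨a, ha⟩ = mk e' hNQ ⟨b, hb⟩ := by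
    rintro a b ha hb rfl; rfl
  refine clm_eq hM hU hV hND hNU hNV (mk e hUP ⟨t, ht⟩) (mk e' hNQ ⟨0, m0⟩) (mk e' hNQ ⟨-(c * t), mnct⟩) ?_
    (mk e' hVQ ⟨d, hd⟩) (mk e' hNQ ⟨-s, mns⟩) (mk e' hNQ ⟨-s - d, mnsd⟩) ?_
    (mk e' (hWQ _ (inf_le_left.trans inf_le_left)) ⟨s, h1⟩) ?_
    (mk e' (hWQ _ (inf_le_left.trans inf_le_left)) ⟨s + d, h2⟩) ?_
    (mk e' (hWQ _ (inf_le_left.trans inf_le_left)) ⟨s + -(c * t), h3⟩) ?_
    (mk e' (hWQ _ (inf_le_left.trans inf_le_left)) ⟨s + -(c * t) + d, h4⟩) ?_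
  · rw [res_mk e hUP hNU ht mt]
    have := mk_change e e' hP hQ hc hcc hND mt mct
    refine this.trans ?_
    rw [← mk_sub]
    exact eqmk _ _ (by ring)
  · rw [res_mk e' hVQ hNV hd md, ← mk_sub]
    exact eqmk _ _ (by ring)
  · rw [res_mk e' _ hN1 h1 ms, ← mk_sub]
    exact eqmk _ _ (by ring)
  · rw [res_mk e' _ hN2 h2 (O_mono hN2 h2), ← mk_sub]
    exact eqmk _ _ (by ring)
  · rw [res_mk e' _ hN3 h3 (O_mono hN3 h3), ← mk_sub]
    exact eqmk _ _ (by ring)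
  · rw [res_mk e' _ hN4 h4 (O_mono hN4 h4), ← mk_sub]
    exact eqmk _ _ (by ring)

end K857.GenSec
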