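import Groth.Agent.Biell.K857.Dat
import Groth.Agent.Biell.K857.ChartBC

/-!
# Global short Weierstrass coordinates of a fibre square with a section
-/

set_option autoImplicit false
universe u

open CategoryTheory CategoryTheory.Limits AlgebraicGeometry TopologicalSpace Opposite
open Groth.Agent.Picfga.RegLocus
open K857.OReg K857.WeiField K857.EqnGeo K857.LD

namespace K857.Global

variable {X S Z Y : Scheme.{u}} [IsIntegral X] [IsIntegral S] [IsIntegral Z] [IsIntegral Y]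

/-- The geometric situation: `Y = X ×_S Z` with a section `δ` of `q : Y ⟶ Z`, and a chart of `X` over
the affine open `A` of `S`. -/
structure Sit (f : X ⟶ S) (g : Z ⟶ S) (p : Y ⟶ X) (q : Y ⟶ Z) (δ : Z ⟶ Y) [IsDominant f] [IsDominant p]
    [IsDominant q] (A : S.Opens) (V V' : X.Opens) (e : X.functionField) (Δc : Y.Opens) : Prop where
  hc : IsPullback p q f g
  hδ : δ ≫ q = 𝟙 Z
  heff : BlowUp.IsEffCartierIdeal δ.ker
  hA : IsAffineOpen A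
  hC : IsChart (ff f) (O A) (f ⁻¹ᵁ A) V V' e
  hVV' : IsAffineOpen (V ⊓ V')
  hΔ : ∀ y, y ∈ Δc ↔ y ∉ Set.range δ
  ne : Nonempty Δc
  h6 : ∃ s ∈ O (⊤ : Z.Opens), (6 : Z.functionField) * s = 1

variable {f : X ⟶ S} {g : Z ⟶ S} {p : Y ⟶ X} {q : Y ⟶ Z} {δ : Z ⟶ Y} [IsDominant f] [IsDominant p]
    [IsDominant q] {A : S.Opens} {V V' : X.Opens} {e : X.functionField} {Δc : Y.Opens}

/-- The class of the inverse of the local equation, as a multiple of the generator. -/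
def Cls (q : Y ⟶ Z) (p : Y ⟶ X) [IsDominant p] [IsDominant q] (V V' : X.Opens) (e : X.functionField)
    (Δc : Y.Opens) (W : Z.Opens) (U : Y.Opens) (z : Y.functionField) (r : Z.functionField) : Prop :=
  Rel (q ⁻¹ᵁ W ⊓ Δc) U (p ⁻¹ᵁ V ⊓ q ⁻¹ᵁ W) (p ⁻¹ᵁ V' ⊓ q ⁻¹ᵁ W) z⁻¹ (ff q r * ff p e)

theorem _root_.K857.OReg.Rel.mono {X : Scheme.{u}} [IsIntegral X] {U U' V V' U₁ U₁' V₁ V₁' : X.Opens}
    {t d : X.functionField} (h : Rel U U' V V' t d) (h1 : U₁ ≤ U) (h2 : U₁' ≤ U') (h3 : V₁ ≤ V)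
    (h4 : V₁' ≤ V') : Rel U₁ U₁' V₁ V₁' t d := by
  obtain ⟨s, a, b, c, d⟩ := h
  exact ⟨s, O_mono (inf_le_inf h1 h3) a, O_mono (inf_le_inf h1 h4) b, O_mono (inf_le_inf h2 h3) c,
    O_mono (inf_le_inf h2 h4) d⟩

theorem Cls.mono {W W' : Z.Opens} {U U' : Y.Opens} {z : Y.functionField} {r : Z.functionField}
    (h : Cls q p V V' e Δc W U z r) (hW : W' ≤ W) (hU : U' ≤ U) : Cls q p V V' e Δc W' U' z r :=
  Rel.mono h (inf_le_inf_right _ (q.preimage_mono hW)) hU (inf_le_inf_left _ (q.preimage_mono hW))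
    (inf_le_inf_left _ (q.preimage_mono hW))

/-- Normalised local data. -/
structure Nor (q : Y ⟶ Z) (p : Y ⟶ X) (δ : Z ⟶ Y) [IsDominant p] [IsDominant q] (V V' : X.Opens)
    (e : X.functionField) (Δc : Y.Opens) (W : Z.Opens) (U : Y.Opens) (z : Y.functionField) : Prop where
  neU : Nonempty U
  dat : ∃ z' : Γ(Y, U), Dat q δ W U z' ∧ Y.germToFunctionField U z' = z
  cls : Cls q p V V' e Δc W U z 1

omit [IsIntegral Y] in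
theorem six_isUnit (hS : Sit f g p q δ A V V' e Δc) (W : Z.Opens) : IsUnit (6 : O W) := by
  obtain ⟨s, hs, h6⟩ := hS.h6
  refine IsUnit.of_mul_eq_one ⟨s, O_mono le_top hs⟩ (Subtype.ext ?_)
  exact h6

theorem chart_at [Flat g] [QuasiSeparatedSpace X] (hS : Sit f g p q δ A V V' e Δc) {W : Z.Opens}
    (hW : IsAffineOpen W) (hne : Nonempty W) (hWA : W ≤ g ⁻¹ᵁ A) :
    IsChart (ff q) (O W) (q ⁻¹ᵁ W) (p ⁻¹ᵁ V ⊓ q ⁻¹ᵁ W) (p ⁻¹ᵁ V' ⊓ q ⁻¹ᵁ W) (ff p e) :=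
  ChartBC.isChart_baseChange hS.hc hS.hA hS.hC hS.hVV' hW hWA

theorem Nor.rel {W : Z.Opens} {U : Y.Opens} {z : Y.functionField}
    (h : Nor q p δ V V' e Δc W U z) :
    Rel (q ⁻¹ᵁ W ⊓ Δc) U (p ⁻¹ᵁ V ⊓ q ⁻¹ᵁ W) (p ⁻¹ᵁ V' ⊓ q ⁻¹ᵁ W) z⁻¹ (ff p e) := by
  have := h.cls
  rwa [Cls, map_one, one_mul] at this

variable [IsClosedImmersion δ]

theorem Nor.restrict {W W' : Z.Opens} {U U' : Y.Opens} {z : Y.functionField}
    (h : Nor q p δ V V' e Δc W U z) (hW' : IsAffineOpen W') (hU' : IsAffineOpen U')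
    (hpre : δ ⁻¹ᵁ U' = W') (hle : U' ≤ q ⁻¹ᵁ W') (hWne : Nonempty W') (hUne : Nonempty U')
    (hUU : U' ≤ U) (hWW : W' ≤ W) : Nor q p δ V V' e Δc W' U' z := by
  have := h.neU
  obtain ⟨z', hz', hz⟩ := h.dat
  refine ⟨hUne, ⟨_, hz'.restrict hW' hU' hpre hle hUU, (germ_rs hUU z').trans hz⟩,
    h.cls.mono hWW hUU⟩

omit [IsIntegral Z] [IsIntegral Y] [IsDominant q] [IsClosedImmersion δ] in
theorem nonempty_of_dat {W : Z.Opens} {U : Y.Opens} {z : Γ(Y, U)} (h : Dat q δ W U z) :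
    Nonempty U ∧ Nonempty (δ ⁻¹ᵁ U : Z.Opens) := by
  obtain ⟨⟨x, hx⟩⟩ := h.ne
  rw [← h.pre] at hx
  exact ⟨⟨⟨δ x, hx⟩⟩, ⟨⟨x, hx⟩⟩⟩

omit [IsClosedImmersion δ] in
theorem Nor.nonempty {W : Z.Opens} {U : Y.Opens} {z : Y.functionField}
    (h : Nor q p δ V V' e Δc W U z) : Nonempty U ∧ Nonempty (δ ⁻¹ᵁ U : Z.Opens) := by
  have := h.neU
  obtain ⟨z', hz', -⟩ := h.dat
  exact nonempty_of_dat hz'

theorem Nor.isEqn (hS : Sit f g p q δ A V V' e Δc) {W : Z.Opens} {U : Y.Opens} {z : Y.functionField}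
    (h : Nor q p δ V V' e Δc W U z) [Nonempty U] [Nonempty (δ ⁻¹ᵁ U : Z.Opens)] :
    IsEqn (ff q) (O W) (q ⁻¹ᵁ W) (q ⁻¹ᵁ W ⊓ Δc) U z (pb δ U) := by
  obtain ⟨z', hz', hz⟩ := h.dat
  have := hz'.ne
  have := hS.ne
  have hz2 : Y.germToFunctionField U z' = z := hz
  rw [← hz2]
  exact EqnGeo.isEqn q δ hS.hδ hz'.affU hz'.pre hz'.le z' hz'.z0 hz'.ideal Δc hS.hΔ

theorem unique [Flat g] [QuasiSeparatedSpace X] (hS : Sit f g p q δ A V V' e Δc)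
    {W₁ W₂ : Z.Opens} {U₁ U₂ : Y.Opens} {z₁ z₂ : Y.functionField}
    (h₁ : Nor q p δ V V' e Δc W₁ U₁ z₁) (h₂ : Nor q p δ V V' e Δc W₂ U₂ z₂) (hWA : W₁ ≤ g ⁻¹ᵁ A)
    [Nonempty U₁] [Nonempty (δ ⁻¹ᵁ U₁ : Z.Opens)] [Nonempty U₂] [Nonempty (δ ⁻¹ᵁ U₂ : Z.Opens)]
    {x x' y y' : Y.functionField} {a a' b b' : Z.functionField}
    (s₁ : Short (ff q) (O W₁) (q ⁻¹ᵁ W₁ ⊓ Δc) (pb δ U₁) z₁ x y a b)
    (s₂ : Short (ff q) (O W₂) (q ⁻¹ᵁ W₂ ⊓ Δc) (pb δ U₂) z₂ x' y' a' b') :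
    x = x' ∧ y = y' ∧ a = a' ∧ b = b' := by
  obtain ⟨z₁', hz₁', -⟩ := h₁.dat
  obtain ⟨z₂', hz₂', -⟩ := h₂.dat
  have := hz₁'.ne
  have := hz₂'.ne
  have hη₁ : genericPoint Z ∈ W₁ := genericPoint_mem W₁
  have hη₂ : genericPoint Z ∈ W₂ := genericPoint_mem W₂
  obtain ⟨W, U, hW, hU, hxW, hpre, hle, hWW, hUU⟩ := exists_nhd hS.hδ (genericPoint Z) (W₁ ⊓ W₂)
    ⟨hη₁, hη₂⟩ (U₁ ⊓ U₂) ⟨by rw [← hz₁'.pre] at hη₁; exact hη₁, by rw [← hz₂'.pre] at hη₂; exact hη₂⟩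
  have hWne : Nonempty W := ⟨⟨_, hxW⟩⟩
  have hUx : δ (genericPoint Z) ∈ U := by rw [← hpre] at hxW; exact hxW
  have hUne : Nonempty U := ⟨⟨_, hUx⟩⟩
  have hUne' : Nonempty (δ ⁻¹ᵁ U : Z.Opens) := ⟨⟨_, hUx⟩⟩
  have r₁ := h₁.restrict hW hU hpre hle hWne hUne (hUU.trans inf_le_left) (hWW.trans inf_le_left)
  have r₂ := h₂.restrict hW hU hpre hle hWne hUne (hUU.trans inf_le_right) (hWW.trans inf_le_right)
  have t₁ := s₁.restrict (R₁ := O W) (U₁ := q ⁻¹ᵁ W ⊓ Δc) (U₁' := U) (ρ₁ := pb δ U)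
    (O_mono (hWW.trans inf_le_left)) (inf_le_inf_right _ (q.preimage_mono (hWW.trans inf_le_left)))
    (hUU.trans inf_le_left) (fun g h h₁ => pb_restrict δ (hUU.trans inf_le_left) g h h₁)
  have t₂ := s₂.restrict (R₁ := O W) (U₁ := q ⁻¹ᵁ W ⊓ Δc) (U₁' := U) (ρ₁ := pb δ U)
    (O_mono (hWW.trans inf_le_right)) (inf_le_inf_right _ (q.preimage_mono (hWW.trans inf_le_right)))
    (hUU.trans inf_le_right) (fun g h h₁ => pb_restrict δ (hUU.trans inf_le_right) g h h₁)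
  have hC := chart_at hS hW hWne ((hWW.trans inf_le_left).trans hWA)
  have t₂' := t₂.of_rel hC (r₂.isEqn hS) (r₁.isEqn hS) r₂.rel r₁.rel
  exact short_unique' (six_isUnit hS W) hC (r₁.isEqn hS) r₁.rel t₁ t₂'

theorem exists_short_of_nor [Flat g] [QuasiSeparatedSpace X] (hS : Sit f g p q δ A V V' e Δc)
    {W : Z.Opens} {U : Y.Opens} {z : Y.functionField}
    (h : Nor q p δ V V' e Δc W U z) (hWA : W ≤ g ⁻¹ᵁ A)
    [Nonempty U] [Nonempty (δ ⁻¹ᵁ U : Z.Opens)] :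
    ∃ x y a b, Short (ff q) (O W) (q ⁻¹ᵁ W ⊓ Δc) (pb δ U) z x y a b := by
  obtain ⟨z', hz', -⟩ := h.dat
  exact exists_short' (six_isUnit hS W) (chart_at hS hz'.affW hz'.ne hWA) (h.isEqn hS) h.rel

end K857.Global
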