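import Groth.Agent.Biell.K857.Global

/-!
# Global short Weierstrass coordinates of a fibre square with a section, continued
-/

set_option autoImplicit false
universe u

open CategoryTheory CategoryTheory.Limits AlgebraicGeometry TopologicalSpace Opposite
open Groth.Agent.Picfga.RegLocus
open K857.OReg K857.WeiField K857.EqnGeo K857.LD

namespace K857.Global

variable {X S Z Y : Scheme.{u}} [IsIntegral X] [IsIntegral S] [IsIntegral Z] [IsIntegral Y]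
variable {f : X ⟶ S} {g : Z ⟶ S} {p : Y ⟶ X} {q : Y ⟶ Z} {δ : Z ⟶ Y} [IsDominant f] [IsDominant p]
    [IsDominant q] {A : S.Opens} {V V' : X.Opens} {e : X.functionField} {Δc : Y.Opens}

/-- The class of a local equation is a unit at `x`. -/
def UnitAt (q : Y ⟶ Z) (p : Y ⟶ X) (δ : Z ⟶ Y) (g : Z ⟶ S) (A : S.Opens) [IsDominant p] [IsDominant q]
    (V V' : X.Opens) (e : X.functionField) (Δc : Y.Opens) (x : Z) : Prop :=
  ∀ (W : Z.Opens) (U : Y.Opens) (z : Γ(Y, U)) [Nonempty U], Dat q δ W U z → x ∈ W → W ≤ g ⁻¹ᵁ A →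
    ∀ r ∈ O W, Cls q p V V' e Δc W U (Y.germToFunctionField U z) r → r ≠ 0 ∧ x ∈ reg r⁻¹

variable [IsClosedImmersion δ]

theorem exists_nor [Flat g] [QuasiSeparatedSpace X] (hS : Sit f g p q δ A V V' e Δc) {x : Z}
    (hx : x ∈ g ⁻¹ᵁ A) (hun : UnitAt q p δ g A V V' e Δc x) :
    ∃ (W : Z.Opens) (U : Y.Opens) (z : Y.functionField), x ∈ W ∧ W ≤ g ⁻¹ᵁ A ∧
      Nor q p δ V V' e Δc W U z := by
  obtain ⟨W, U, z, hD, hxW, hWA⟩ := exists_dat hS.hδ hS.heff x (g ⁻¹ᵁ A) hx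
  obtain ⟨hU, hU'⟩ := nonempty_of_dat hD
  have := hD.ne
  have := hS.ne
  have hE := EqnGeo.isEqn q δ hS.hδ hD.affU hD.pre hD.le z hD.z0 hD.ideal Δc hS.hΔ
  have hC := chart_at hS hD.affW hD.ne hWA
  obtain ⟨r, hr, hrel⟩ := exists_class hC hE
  obtain ⟨hr0, hxr⟩ := hun W U z hD hxW hWA r hr hrel
  have hxU : δ x ∈ U := by
    have : x ∈ δ ⁻¹ᵁ U := by rw [hD.pre]; exact hxW
    exact this
  obtain ⟨W', U', hW', hU', hxW', hpre, hle, hWW, hUU⟩ := exists_nhd hS.hδ x (W ⊓ reg r⁻¹) ⟨hxW, hxr⟩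
    U hxU
  have hWne : Nonempty W' := ⟨⟨_, hxW'⟩⟩
  have hUx : δ x ∈ U' := by rw [← hpre] at hxW'; exact hxW'
  have hUne : Nonempty U' := ⟨⟨_, hUx⟩⟩
  have hD' := hD.restrict hW' hU' hpre hle hUU
  have hWW1 : W' ≤ W := hWW.trans inf_le_left
  have hrO : r ∈ O W' := O_mono hWW1 hr
  have hrO' : r⁻¹ ∈ O W' := mem_O.mpr (hWW.trans inf_le_right)
  obtain ⟨s, hs⟩ := exists_sec hrO
  obtain ⟨s', hs'⟩ := exists_sec hrO'
  have hss : s * s' = 1 := by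
    apply Z.germToFunctionField_injective W'
    rw [map_mul, hs, hs', mul_inv_cancel₀ hr0, map_one]
  let c := q.appLE W' U' hle s
  let c' := q.appLE W' U' hle s'
  have hcc : c * c' = 1 := by
    change q.appLE W' U' hle s * q.appLE W' U' hle s' = 1
    rw [← map_mul, hss, map_one]
  have hc : Y.germToFunctionField U' c = ff q r := by
    rw [← hs]; exact (ff_germ_appLE q W' U' hle s).symm
  refine ⟨W', U', ff q r * Y.germToFunctionField U z, hxW', hWW1.trans hWA, hUne,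
    ⟨c * rs hUU z, ⟨hW', hU', hpre, hle, hWne, ?_, ?_⟩, ?_⟩, ?_⟩
  · intro h0
    apply hD'.z0
    calc rs hUU z = (c * c') * rs hUU z := by rw [hcc, one_mul]
      _ = c' * (c * rs hUU z) := by ring
      _ = 0 := by rw [h0, mul_zero]
  · rw [hD'.ideal]
    apply le_antisymm
    · rw [Ideal.span_singleton_le_span_singleton]
      exact ⟨c', by rw [mul_assoc, mul_comm (rs hUU z), ← mul_assoc, hcc, one_mul]⟩
    · rw [Ideal.span_singleton_le_span_singleton]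
      exact ⟨c, mul_comm _ _⟩
  · rw [map_mul, hc, germ_rs]
  · have h1 : Cls q p V V' e Δc W' U' (Y.germToFunctionField U z) r := Cls.mono hrel hWW1 hUU
    have h2 := Rel.mul (r := ff q r⁻¹) (O_mono inf_le_left (ff_mem q hrO'))
      (O_mono hle (ff_mem q hrO')) h1
    have hf0 : ff q r ≠ 0 := (map_ne_zero _).mpr hr0
    unfold Cls
    convert h2 using 1
    · rw [mul_inv, map_inv₀]
    · rw [map_one, one_mul, map_inv₀, ← mul_assoc, inv_mul_cancel₀ hf0, one_mul]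

/-- The global coordinates over the part of `Z` over `A`. -/
theorem exists_global [Flat g] [QuasiSeparatedSpace X] (hS : Sit f g p q δ A V V' e Δc)
    (C : Set Z) (hCA : ∀ x ∈ C, x ∈ g ⁻¹ᵁ A) (hCne : C.Nonempty)
    (hcov : ∀ W : Z.Opens, C ⊆ W → g ⁻¹ᵁ A ≤ W)
    (hun : ∀ x ∈ C, UnitAt q p δ g A V V' e Δc x) :
    ∃ (x y : Y.functionField) (a b : Z.functionField),
      x ∈ O (q ⁻¹ᵁ (g ⁻¹ᵁ A) ⊓ Δc) ∧ y ∈ O (q ⁻¹ᵁ (g ⁻¹ᵁ A) ⊓ Δc) ∧ a ∈ O (g ⁻¹ᵁ A) ∧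
      b ∈ O (g ⁻¹ᵁ A) ∧ y ^ 2 = x ^ 3 + ff q a * x + ff q b ∧
      ∀ (W : Z.Opens) (U : Y.Opens) (z : Y.functionField), W ≤ g ⁻¹ᵁ A →
        Nor q p δ V V' e Δc W U z → ∀ [Nonempty U] [Nonempty (δ ⁻¹ᵁ U : Z.Opens)],
          Short (ff q) (O W) (q ⁻¹ᵁ W ⊓ Δc) (pb δ U) z x y a b := by
  obtain ⟨x₀, hx₀⟩ := hCne
  obtain ⟨W₀, U₀, z₀, hxW₀, hWA₀, hN₀⟩ := exists_nor hS (hCA _ hx₀) (hun _ hx₀)
  obtain ⟨hU₀, hU₀'⟩ := hN₀.nonempty
  obtain ⟨x, y, a, b, hs₀⟩ := exists_short_of_nor hS hN₀ hWA₀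
  have key : ∀ (W : Z.Opens) (U : Y.Opens) (z : Y.functionField), W ≤ g ⁻¹ᵁ A →
        Nor q p δ V V' e Δc W U z → ∀ [Nonempty U] [Nonempty (δ ⁻¹ᵁ U : Z.Opens)],
          Short (ff q) (O W) (q ⁻¹ᵁ W ⊓ Δc) (pb δ U) z x y a b := by
    intro W U z hWA hN _ _
    obtain ⟨x', y', a', b', hs⟩ := exists_short_of_nor hS hN hWA
    obtain ⟨rfl, rfl, rfl, rfl⟩ := unique hS hN₀ hN hWA₀ hs₀ hs
    exact hs
  -- the union of the good opens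
  let G : Z.Opens := sSup {W | W ≤ g ⁻¹ᵁ A ∧ ∃ U z, Nor q p δ V V' e Δc W U z}
  have hG : g ⁻¹ᵁ A ≤ G := by
    apply hcov
    intro x' hx'
    obtain ⟨W, U, z, hxW, hWA, hN⟩ := exists_nor hS (hCA _ hx') (hun _ hx')
    exact Opens.mem_sSup.mpr ⟨W, ⟨hWA, U, z, hN⟩, hxW⟩
  have hmem : ∀ w ∈ g ⁻¹ᵁ A, ∃ (W : Z.Opens) (U : Y.Opens) (z : Y.functionField), w ∈ W ∧
      W ≤ g ⁻¹ᵁ A ∧ Nor q p δ V V' e Δc W U z := by
    intro w hw
    obtain ⟨W, ⟨hWA, U, z, hN⟩, hwW⟩ := Opens.mem_sSup.mp (hG hw)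
    exact ⟨W, U, z, hwW, hWA, hN⟩
  refine ⟨x, y, a, b, ?_, ?_, ?_, ?_, hs₀.eq, key⟩
  · refine mem_O_of_cover fun w hw => ?_
    obtain ⟨W, U, z, hwW, hWA, hN⟩ := hmem _ hw.1
    obtain ⟨hU, hU'⟩ := hN.nonempty
    exact ⟨q ⁻¹ᵁ W ⊓ Δc, ⟨hwW, hw.2⟩, (key W U z hWA hN).hx⟩
  · refine mem_O_of_cover fun w hw => ?_
    obtain ⟨W, U, z, hwW, hWA, hN⟩ := hmem _ hw.1
    obtain ⟨hU, hU'⟩ := hN.nonempty
    exact ⟨q ⁻¹ᵁ W ⊓ Δc, ⟨hwW, hw.2⟩, (key W U z hWA hN).hy⟩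
  · refine mem_O_of_cover fun w hw => ?_
    obtain ⟨W, U, z, hwW, hWA, hN⟩ := hmem _ hw
    obtain ⟨hU, hU'⟩ := hN.nonempty
    exact ⟨_, hwW, (key W U z hWA hN).ha⟩
  · refine mem_O_of_cover fun w hw => ?_
    obtain ⟨W, U, z, hwW, hWA, hN⟩ := hmem _ hw
    obtain ⟨hU, hU'⟩ := hN.nonempty
    exact ⟨_, hwW, (key W U z hWA hN).hb⟩

end K857.Global
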