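import Groth.Agent.Biell.K857.OSplit

/-!
# Vanishing and non-vanishing of `H¹(X, O)` through two affine opens
-/

set_option autoImplicit false
universe u

open CategoryTheory CategoryTheory.Limits AlgebraicGeometry TopologicalSpace Opposite
open Groth.Agent.Picfga.RegLocus Groth.Agent
open K857.OReg

namespace K857.H1Cech

variable {X : Scheme.{u}} [IsIntegral X]

theorem split' {U V : X.Opens} [Nonempty U] [Nonempty V]
    (hs : ∀ t ∈ O (U ⊓ V), ∃ a ∈ O U, ∃ b ∈ O V, t = b - a) (t : Γ(X, U ⊓ V)) :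
    ∃ (a : Γ(X, U)) (b : Γ(X, V)), rs (inf_le_left : U ⊓ V ≤ U) a - rs inf_le_right b = t := by
  have hne := nonempty_inf U V
  obtain ⟨a, ha, b, hb, hab⟩ := hs (X.germToFunctionField (U ⊓ V) t) (germ_mem _)
  obtain ⟨a', rfl⟩ := exists_sec ha
  obtain ⟨b', rfl⟩ := exists_sec hb
  refine ⟨-a', -b', ?_⟩
  apply X.germToFunctionField_injective (U ⊓ V)
  rw [map_sub, germ_rs, germ_rs, hab, map_neg, map_neg]
  ring

/-- If every rational function regular on `U ⊓ V` splits, then `H¹(X, O) = 0`. -/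
theorem subsingleton {U V : X.Opens} [Nonempty U] [Nonempty V] (h : U ⊔ V = ⊤)
    (hU : IsAffineOpen U) (hV : IsAffineOpen V)
    (hs : ∀ t ∈ O (U ⊓ V), ∃ a ∈ O U, ∃ b ∈ O V, t = b - a) :
    Subsingleton (Coh.HH X (Coh.structureModule X) 1) := by
  have hq := CurvesC.UnitCoh.isQCoh_unit X
  let M := Coh.structureModule X
  have hsurj := Picfga.ChiCech.toH1_surjective (Y := X.toTopCat) (Coh.toAb M) h
    (CohqA.AffVan.subsingleton_HU_of_isAffineOpen M hU 0)
    (CohqA.AffVan.subsingleton_HU_of_isAffineOpen M hV 0)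
  have hzero : ∀ x : Coh.HH X (Coh.structureModule X) 1, x = 0 := by
    intro x
    obtain ⟨t, rfl⟩ := hsurj x
    rw [Picfga.ChiCech.toH1_eq_zero_iff]
    obtain ⟨a, b, hab⟩ := split' (U := U) (V := V) hs t
    exact ⟨a, b, hab⟩
  exact ⟨fun x y => by rw [hzero x, hzero y]⟩

end K857.H1Cech
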