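import Groth.Agent.Biell.K857.Rel
import Groth.Agent.Biell.K857.WeiAlg2

/-!
# Weierstrass data inside a function field
-/

set_option autoImplicit false
universe u

open CategoryTheory CategoryTheory.Limits AlgebraicGeometry TopologicalSpace Opposite
open Groth.Agent.Picfga.RegLocus Groth.Agent
open K857.OReg K857.WeiAlg

namespace K857.WeiField

variable {Y : Scheme.{u}} [IsIntegral Y] {κ : Type u} [Field κ] (ι : κ →+* Y.functionField)

/-- Two affine opens covering `D`, with a generator `e` of the first cohomology of `D` over `R`. -/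
structure IsChart (R : Subring κ) (D V V' : Y.Opens) (e : Y.functionField) : Prop where
  aff : IsAffineOpen V
  aff' : IsAffineOpen V'
  cover : V ⊔ V' = D
  ne : Nonempty V
  ne' : Nonempty V'
  H0 : ∀ g ∈ O D, ∃ r ∈ R, ι r = g
  mem : ∀ r ∈ R, ι r ∈ O D
  he : e ∈ O (V ⊓ V')
  gen : ∀ d ∈ O (V ⊓ V'), ∃ r ∈ R, ∃ a ∈ O V, ∃ b ∈ O V', d = ι r * e + (b - a)
  free : ∀ r ∈ R, ∀ a ∈ O V, ∀ b ∈ O V', ι r * e = b - a → r = 0

/-- A local equation `z` on `U'` of a section with complement `U`, and the restriction `ρ` to the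
section. -/
structure IsEqn (R : Subring κ) (D U U' : Y.Opens) (z : Y.functionField) (ρ : O U' →+* κ) :
    Prop where
  cover : U ⊔ U' = D
  ne : Nonempty U
  ne' : Nonempty U'
  hz : z ∈ O U'
  z0 : z ≠ 0
  inv : z⁻¹ ∈ O (U ⊓ U')
  mem : ∀ g, ρ g ∈ R
  sec : ∀ r ∈ R, ∀ (h : ι r ∈ O U'), ρ ⟨ι r, h⟩ = r
  ker : ∀ g : O U', ρ g = 0 → ∃ h ∈ O U', (g : Y.functionField) = z * h
  rz : ρ ⟨z, hz⟩ = 0
  loc : ∀ g ∈ O U, ∃ n : ℕ, z ^ n * g ∈ O U'

variable {ι} {R : Subring κ} {D U U' V V' : Y.Opens} {e z : Y.functionField} {ρ : O U' →+* κ}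

/-- the algebra structure -/
@[reducible] noncomputable def alg (ι : κ →+* Y.functionField) (R : Subring κ) :
    Algebra R Y.functionField := (ι.comp R.subtype).toAlgebra

/-- functions on an open contained in `D` as a subalgebra -/
noncomputable def sub (ι : κ →+* Y.functionField) (R : Subring κ) {D U : Y.Opens}
    (hmem : ∀ r ∈ R, ι r ∈ O D) (hU : U ≤ D) :
    letI := alg ι R
    Subalgebra R Y.functionField :=
  letI := alg ι R
  { O U with
    algebraMap_mem' := fun r => O_mono hU (hmem r.1 r.2) }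

/-- the restriction to the section as an algebra homomorphism -/
noncomputable def rho (ι : κ →+* Y.functionField) (R : Subring κ) {D U U' : Y.Opens}
    {z : Y.functionField} {ρ : O U' →+* κ} (hmem : ∀ r ∈ R, ι r ∈ O D) (hU : U' ≤ D)
    (hE : IsEqn ι R D U U' z ρ) :
    letI := alg ι R
    sub ι R hmem hU →ₐ[R] R :=
  letI := alg ι R
  { toFun := fun g => ⟨ρ g, hE.mem g⟩
    map_one' := Subtype.ext (map_one ρ)
    map_mul' := fun a b => Subtype.ext (map_mul ρ a b)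
    map_zero' := Subtype.ext (map_zero ρ)
    map_add' := fun a b => Subtype.ext (map_add ρ a b)
    commutes' := fun r => Subtype.ext (hE.sec r.1 r.2 _) }

theorem wd (hC : IsChart ι R D V V' e) (hE : IsEqn ι R D U U' z ρ)
    (hrel : Rel U U' V V' z⁻¹ e) :
    letI := alg ι R
    WD (sub ι R hC.mem (hE.cover ▸ le_sup_left)).val (sub ι R hC.mem (hE.cover ▸ le_sup_right)).val
      ⟨z, hE.hz⟩ z⁻¹ (rho ι R hC.mem (hE.cover ▸ le_sup_right) hE) := by
  let _ := alg ι R
  have hUD : U ≤ D := hE.cover ▸ le_sup_left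
  have hU'D : U' ≤ D := hE.cover ▸ le_sup_right
  have hVD : V ≤ D := hC.cover ▸ le_sup_left
  have hV'D : V' ≤ D := hC.cover ▸ le_sup_right
  have := hE.ne
  have := hE.ne'
  have := hC.ne
  have := hC.ne'
  exact
  { inj₀ := fun a b h => Subtype.ext h
    inj₁ := fun a b h => Subtype.ext h
    zw := mul_inv_cancel₀ hE.z0
    ker := fun h hh => by
      obtain ⟨h', hh', e⟩ := hE.ker ⟨h.1, h.2⟩ (congrArg Subtype.val hh)
      exact ⟨⟨h', hh'⟩, Subtype.ext e⟩
    rz := Subtype.ext hE.rz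
    loc := fun g => by
      obtain ⟨n, hn⟩ := hE.loc g.1 g.2
      exact ⟨n, ⟨_, hn⟩, rfl⟩
    H0 := fun g h hgh => by
      have e0 : (g : Y.functionField) = h := hgh
      have h0 : (g : Y.functionField) ∈ O U' := by rw [e0]; exact h.2
      have h1 : ∀ E : Y.Opens, U ⊔ U' = E → (g : Y.functionField) ∈ O E := by
        rintro E rfl
        exact mem_O_sup g.2 h0
      replace h1 := h1 D hE.cover
      obtain ⟨r, hr, hr'⟩ := hC.H0 _ h1
      exact ⟨⟨r, hr⟩, Subtype.ext hr'.symm⟩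
    H1 := fun n => by
      obtain ⟨d, hd, hrd⟩ := exists_rel (t := z⁻¹ ^ n) (U := U) (U' := U') (V := V) (V' := V')
        hC.aff hC.aff' (hE.cover ▸ hVD) (hE.cover ▸ hV'D) (pow_mem hE.inv n)
      obtain ⟨r, hr, a, ha, b, hb, hdr⟩ := hC.gen d hd
      have h1 := hrd.sub (hrel.mul (O_mono hUD (hC.mem r hr)) (O_mono hU'D (hC.mem r hr)))
      have h2 : d - ι r * e = b - a := by rw [hdr]; ring
      rw [h2] at h1
      obtain ⟨g, hg, g', hg', hgg⟩ := h1.of_split (hC.cover ▸ hUD) (hC.cover ▸ hU'D) ha hb rfl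
      refine ⟨⟨r, hr⟩, ⟨-g, neg_mem hg⟩, ⟨g', hg'⟩, ?_⟩
      change z⁻¹ ^ n = (⟨r, hr⟩ : R) • z⁻¹ + (-g) + g'
      rw [Algebra.smul_def]
      change z⁻¹ ^ n = ι r * z⁻¹ + (-g) + g'
      linear_combination hgg
    H1' := fun c g h hcgh => by
      have h0 : ι c * z⁻¹ = (h : Y.functionField) - (-(g : Y.functionField)) := by
        have : (c : R) • z⁻¹ = (g : Y.functionField) + h := hcgh
        rw [Algebra.smul_def] at this
        change ι c * z⁻¹ = _ at this
        rw [this]; ring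
      have h1 := (hrel.mul (O_mono hUD (hC.mem c c.2)) (O_mono hU'D (hC.mem c c.2))).symm
      obtain ⟨a, ha, b, hb, hab⟩ := h1.of_split (hE.cover ▸ hVD) (hE.cover ▸ hV'D)
        (neg_mem g.2) h.2 h0
      exact Subtype.ext (hC.free c c.2 a ha b hb hab) }

/-- pole order and leading coefficient -/
def P (ρ : O U' →+* κ) (z : Y.functionField) (n : ℕ) (g : Y.functionField) (c : κ) : Prop :=
  ∃ h : z ^ n * g ∈ O U', ρ ⟨_, h⟩ = c

variable (ι) in
/-- Short Weierstrass coordinates. -/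
structure Short (R : Subring κ) (U : Y.Opens) {U' : Y.Opens} (ρ : O U' →+* κ) (z : Y.functionField)
    (x y : Y.functionField) (a b : κ) : Prop where
  hx : x ∈ O U
  hy : y ∈ O U
  px : P ρ z 2 x 1
  py : P ρ z 3 y 1
  ha : a ∈ R
  hb : b ∈ R
  eq : y ^ 2 = x ^ 3 + ι a * x + ι b

theorem isShort (hC : IsChart ι R D V V' e) (hE : IsEqn ι R D U U' z ρ)
    {x y : Y.functionField} {a b : κ} (h : Short ι R U ρ z x y a b) :
    letI := alg ι R
    IsShort (sub ι R hC.mem (U := U) (hE.cover ▸ le_sup_left)).val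
      (sub ι R hC.mem (U := U') (hE.cover ▸ le_sup_right)).val
      ⟨z, hE.hz⟩ (rho ι R hC.mem (hE.cover ▸ le_sup_right) hE) ⟨x, h.hx⟩ ⟨y, h.hy⟩
      ⟨a, h.ha⟩ ⟨b, h.hb⟩ := by
  let _ := alg ι R
  obtain ⟨h1, h1'⟩ := h.px
  obtain ⟨h2, h2'⟩ := h.py
  refine ⟨⟨⟨_, h1⟩, rfl, Subtype.ext h1'⟩, ⟨⟨_, h2⟩, rfl, Subtype.ext h2'⟩, ?_⟩
  apply Subtype.ext
  have e1 : ((⟨a, h.ha⟩ : R) • (⟨x, h.hx⟩ : sub ι R hC.mem (U := U) (hE.cover ▸ le_sup_left)) :
      sub ι R hC.mem (U := U) (hE.cover ▸ le_sup_left)).1 = ι a * x := by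
    change (⟨a, h.ha⟩ : R) • x = _
    rw [Algebra.smul_def]; rfl
  change y ^ 2 = x ^ 3 + _ + ι b
  rw [e1]
  exact h.eq

theorem exists_short' (h6 : IsUnit (6 : R)) (hC : IsChart ι R D V V' e)
    (hE : IsEqn ι R D U U' z ρ) (hrel : Rel U U' V V' z⁻¹ e) :
    ∃ x y a b, Short ι R U ρ z x y a b := by
  let _ := alg ι R
  obtain ⟨x, y, a, b, h⟩ := exists_short (wd hC hE hrel) h6
  obtain ⟨h1, e1, e1'⟩ := h.px
  obtain ⟨h2, e2, e2'⟩ := h.py
  have k1 : (h1 : Y.functionField) = z ^ 2 * x := e1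
  have k2 : (h2 : Y.functionField) = z ^ 3 * y := e2
  have k1' : z ^ 2 * (x : Y.functionField) ∈ O U' := k1 ▸ h1.2
  have k2' : z ^ 3 * (y : Y.functionField) ∈ O U' := k2 ▸ h2.2
  refine ⟨x, y, a, b, x.2, y.2, ⟨k1', ?_⟩, ⟨k2', ?_⟩, a.2, b.2, ?_⟩
  · have : ρ h1 = 1 := congrArg Subtype.val e1'
    rw [← this]; congr 1; exact Subtype.ext k1.symm
  · have : ρ h2 = 1 := congrArg Subtype.val e2'
    rw [← this]; congr 1; exact Subtype.ext k2.symm
  · have := congrArg Subtype.val h.eq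
    have e3 : ((a : R) • x).1 = ι a * x := by
      change (a : R) • (x : Y.functionField) = _
      rw [Algebra.smul_def]; rfl
    change (y : Y.functionField) ^ 2 = (x : Y.functionField) ^ 3 + _ + ι b at this
    rw [e3] at this
    exact this

theorem short_unique' (h6 : IsUnit (6 : R)) (hC : IsChart ι R D V V' e)
    (hE : IsEqn ι R D U U' z ρ) (hrel : Rel U U' V V' z⁻¹ e)
    {x y x' y' : Y.functionField} {a b a' b' : κ}
    (h : Short ι R U ρ z x y a b) (h' : Short ι R U ρ z x' y' a' b') :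
    x = x' ∧ y = y' ∧ a = a' ∧ b = b' := by
  let _ := alg ι R
  obtain ⟨h1, h2, h3, h4⟩ := short_unique (wd hC hE hrel) h6 (isShort hC hE h) (isShort hC hE h')
  exact ⟨congrArg Subtype.val h1, congrArg Subtype.val h2, congrArg Subtype.val h3,
    congrArg Subtype.val h4⟩

end K857.WeiField
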