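import Groth.Agent.Biell.K857.GenSec
import Groth.Agent.Biell.K857.WeiField
import Groth.Agent.Biell.K857.FF
import Groth.Agent.Ega2.QCohLocal

/-!
# Non-vanishing of `H²`
-/

set_option autoImplicit false
universe u

open CategoryTheory CategoryTheory.Limits AlgebraicGeometry TopologicalSpace Opposite Abelian
open Groth.Agent Groth.Agent.Fdesc.LocGen Groth.Agent.Picfga.RegLocus
open K857.OReg K857.WeiField K857.GenSec K857.CmpMod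

namespace K857.H2Ne

variable {X : Scheme.{u}} {M : X.Modules}

theorem res_clm {U V D D' : X.Opens} (h : D ≤ U ⊔ V) (h' : D' ≤ D) (t : Γ(M, U ⊓ V)) :
    CohTop.res (X := X.toTopCat) (Coh.toAb M) 1 h' (clm M h t) = clm M (h'.trans h) t := by
  change ((Sheaf.cohomologyPresheaf.{u} (Coh.toAb M) 1).map (homOfLE h').op).hom
    (((Sheaf.cohomologyPresheaf.{u} (Coh.toAb M) 1).map (homOfLE h).op).hom _) =
    ((Sheaf.cohomologyPresheaf.{u} (Coh.toAb M) 1).map (homOfLE (h'.trans h)).op).hom _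
  rw [← AddCommGrpCat.comp_apply, ← Functor.map_comp]
  rfl

theorem res_self {D : X.Opens} (x : CohTop.HU (X := X.toTopCat) (Coh.toAb M) 1 D) :
    CohTop.res (X := X.toTopCat) (Coh.toAb M) 1 (le_refl D) x = x := by
  change ((Sheaf.cohomologyPresheaf.{u} (Coh.toAb M) 1).map (𝟙 _)).hom x = x
  rw [CategoryTheory.Functor.map_id]
  rfl

theorem clm_surjective [Coh.IsQCoh M] {U V D : X.Opens} (hU : IsAffineOpen U) (hV : IsAffineOpen V)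
    (h : U ⊔ V = D) : Function.Surjective (clm M h.ge) := by
  subst h
  intro x
  have h1 := CohqA.AffVan.subsingleton_HU_of_isAffineOpen M hU 0
  have h2 := CohqA.AffVan.subsingleton_HU_of_isAffineOpen M hV 0
  obtain ⟨z, hz⟩ := CohqA.MV.exists_δ_eq (X := X.toTopCat) (Coh.toAb M) U V 0 x
    (Subsingleton.elim _ _) (Subsingleton.elim _ _)
  refine ⟨CurvesB.MVOne.secE (X := X.toTopCat) (Coh.toAb M) (U ⊓ V) z, ?_⟩
  change CohTop.res (X := X.toTopCat) (Coh.toAb M) 1 (le_refl _)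
    (CohqA.MV.δ (X := X.toTopCat) (Coh.toAb M) U V 0
      ((CurvesB.MVOne.secE (X := X.toTopCat) (Coh.toAb M) (U ⊓ V)).symm
        (CurvesB.MVOne.secE (X := X.toTopCat) (Coh.toAb M) (U ⊓ V) z))) = x
  rw [AddEquiv.symm_apply_apply, hz, res_self]

theorem clm_eq_zero {U V D : X.Opens} (h : U ⊔ V = D) (t : Γ(M, U ⊓ V)) (ht : clm M h.ge t = 0) :
    ∃ (a : Γ(M, U)) (b : Γ(M, V)), t = res M inf_le_left a - res M inf_le_right b := by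
  subst h
  have h1 : CohqA.MV.δ (X := X.toTopCat) (Coh.toAb M) U V 0
      ((CurvesB.MVOne.secE (X := X.toTopCat) (Coh.toAb M) (U ⊓ V)).symm t) = 0 := by
    rw [← ht]
    exact (res_self _).symm
  obtain ⟨a, b, hab⟩ := CohqA.MV.exists_sub_eq (X := X.toTopCat) (Coh.toAb M) U V 0 _ h1
  refine ⟨CurvesB.MVOne.secE (X := X.toTopCat) (Coh.toAb M) U a,
    CurvesB.MVOne.secE (X := X.toTopCat) (Coh.toAb M) V b, ?_⟩
  have h2 := congrArg (CurvesB.MVOne.secE (X := X.toTopCat) (Coh.toAb M) (U ⊓ V)) hab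
  rw [map_sub, CurvesB.MVOne.secE_res, CurvesB.MVOne.secE_res] at h2
  exact (h2.trans ((CurvesB.MVOne.secE (X := X.toTopCat) (Coh.toAb M) (U ⊓ V)).apply_symm_apply t)).symm

variable [IsIntegral X]

theorem exists_sub_of_H2 {E : Scheme.{u}} [IsIntegral E] (f : X ⟶ E) [IsDominant f]
    (hM : PicF.IsInvertible M) (h2 : Subsingleton (Coh.HH X M 2)) {A A₁ : E.Opens}
    (hcov : A ⊔ A₁ = ⊤) {V V' V₁ V₁' : X.Opens} {e e₁ : X.functionField}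
    (hC : IsChart (ff f) (O A) (f ⁻¹ᵁ A) V V' e) (hC₁ : IsChart (ff f) (O A₁) (f ⁻¹ᵁ A₁) V₁ V₁' e₁)
    (hCB : IsChart (ff f) (O (A ⊓ A₁)) (f ⁻¹ᵁ (A ⊓ A₁)) (V ⊓ f ⁻¹ᵁ (A ⊓ A₁)) (V' ⊓ f ⁻¹ᵁ (A ⊓ A₁)) e)
    {w : E.functionField} (hw0 : w ≠ 0) (hw' : w⁻¹ ∈ O (A ⊓ A₁))
    (hrel : Rel (V₁ ⊓ f ⁻¹ᵁ (A ⊓ A₁)) (V₁' ⊓ f ⁻¹ᵁ (A ⊓ A₁)) (V ⊓ f ⁻¹ᵁ (A ⊓ A₁))
      (V' ⊓ f ⁻¹ᵁ (A ⊓ A₁)) e₁ (-(ff f w * e)))
    {l₀ : Γ(M, f ⁻¹ᵁ A)} (hl₀ : IsGen l₀) {l₁ : Γ(M, f ⁻¹ᵁ A₁)} (hl₁ : IsGen l₁)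
    (hl : ∀ (_ : Nonempty (f ⁻¹ᵁ (A ⊓ A₁) : X.Opens)) (h : ff f w⁻¹ ∈ O (f ⁻¹ᵁ (A ⊓ A₁))),
      res M (f.preimage_mono inf_le_right) l₁ = mk l₀ (f.preimage_mono inf_le_left) ⟨ff f w⁻¹, h⟩) :
    ∀ r ∈ O (A ⊓ A₁), ∃ a ∈ O A, ∃ b ∈ O A₁, r = a - b := by
  intro r hr
  have := hC.ne
  have := hC.ne'
  have := hC₁.ne
  have := hC₁.ne'
  have := hCB.ne
  have := hCB.ne'
  have hQ : Coh.IsQCoh M := Ega2.QCohLocal.isQCoh_of_isInvertible hM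
  set D : X.Opens := f ⁻¹ᵁ (A ⊓ A₁) with hD
  have hVV' := nonempty_inf V V'
  have hVV₁ := nonempty_inf V₁ V₁'
  have hVB := nonempty_inf (V ⊓ D) (V' ⊓ D)
  have hDne : Nonempty D := ⟨⟨_, (genericPoint_mem (V ⊓ D)).2⟩⟩
  have hVA : V ≤ f ⁻¹ᵁ A := hC.cover ▸ le_sup_left
  have hVA₁ : V₁ ≤ f ⁻¹ᵁ A₁ := hC₁.cover ▸ le_sup_left
  have hDA : D ≤ f ⁻¹ᵁ A := f.preimage_mono inf_le_left
  have hDA₁ : D ≤ f ⁻¹ᵁ A₁ := f.preimage_mono inf_le_right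
  have hBA : (V ⊓ D) ⊓ (V' ⊓ D) ≤ f ⁻¹ᵁ A := (inf_le_left.trans inf_le_left).trans hVA
  have meB : e ∈ O ((V ⊓ D) ⊓ (V' ⊓ D)) := hCB.he
  have mff : ∀ {x : E.functionField}, x ∈ O (A ⊓ A₁) → ff f x ∈ O D := fun hx => ff_mem f hx
  have mre : ∀ {x : E.functionField}, x ∈ O (A ⊓ A₁) → ff f x * e ∈ O ((V ⊓ D) ⊓ (V' ⊓ D)) :=
    fun hx => mul_mem (O_mono (inf_le_left.trans inf_le_right) (mff hx)) meB
  let z := clm M (D := D) hCB.cover.ge (mk l₀ hBA ⟨ff f r * e, mre hr⟩)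
  -- the connecting map
  have hcovX : f ⁻¹ᵁ A ⊔ f ⁻¹ᵁ A₁ = ⊤ := by
    have h1 : f ⁻¹ᵁ (A ⊔ A₁) = ⊤ := by rw [hcov]; rfl
    exact h1
  have hsub : Subsingleton (CohTop.HU (X := X.toTopCat) (Coh.toAb M) 2 (f ⁻¹ᵁ A ⊔ f ⁻¹ᵁ A₁)) :=
    (CohqA.HTop.equivH (CurvesB.MVOne.termOf (X := X.toTopCat) hcovX) (Coh.toAb M) 2).toEquiv.subsingleton
  obtain ⟨a, b, hab⟩ := CohqA.MV.exists_sub_eq (X := X.toTopCat) (Coh.toAb M) (f ⁻¹ᵁ A) (f ⁻¹ᵁ A₁) 1 z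
    (Subsingleton.elim _ _)
  obtain ⟨α, rfl⟩ := clm_surjective (M := M) hC.aff hC.aff' hC.cover a
  obtain ⟨β, rfl⟩ := clm_surjective (M := M) hC₁.aff hC₁.aff' hC₁.cover b
  obtain ⟨T, hT, rfl⟩ := mk_surjective hl₀ (inf_le_left.trans hVA) α
  obtain ⟨T₁, hT₁, rfl⟩ := mk_surjective hl₁ (inf_le_left.trans hVA₁) β
  obtain ⟨ra, hra, x, hx, x', hx', hTx⟩ := hC.gen T hT
  obtain ⟨rb, hrb, y, hy, y', hy', hTy⟩ := hC₁.gen T₁ hT₁
  have hra' : ra ∈ O (A ⊓ A₁) := O_mono inf_le_left hra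
  have hrb' : rb ∈ O (A ⊓ A₁) := O_mono inf_le_right hrb
  -- first class
  have c1 : clm M (hDA.trans hC.cover.ge) (mk l₀ (inf_le_left.trans hVA) ⟨T, hT⟩) =
      clm M hCB.cover.ge (mk l₀ hBA ⟨ff f ra * e, mre hra'⟩) := by
    have m1 : (1 : X.functionField) ∈ O D := one_mem _
    have h1 : res M hDA l₀ = mk l₀ hDA ⟨1, m1⟩ := by
      have h2 : (⟨1, m1⟩ : O D) = 1 := rfl
      change _ = (secEquiv D).symm ⟨1, m1⟩ • res M hDA l₀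
      rw [h2, map_one, one_smul]
    refine clm_eq_ff hM l₀ l₀ hDA hDA m1 h1 (hDA.trans hC.cover.ge) hCB.cover.ge
      (inf_le_left.trans hVA) hBA hT (mre hra') ?_
    have mde : ff f ra * e ∈ O (V ⊓ V') := mul_mem (O_mono (inf_le_left.trans hVA) (ff_mem f hra)) hC.he
    refine ⟨-x, neg_mem (O_mono (inf_le_left.trans inf_le_right) hx), ?_, ?_, ?_⟩
    · refine add_mem (neg_mem (O_mono (inf_le_left.trans inf_le_right) hx)) (O_mono ?_ mde)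
      exact le_inf (inf_le_left.trans inf_le_right) (inf_le_right.trans inf_le_left)
    · have : -x + -(1 * T) = -(ff f ra * e) - x' := by rw [hTx]; ring
      rw [this]
      refine sub_mem (neg_mem (O_mono ?_ mde)) (O_mono (inf_le_left.trans inf_le_right) hx')
      exact le_inf (inf_le_right.trans inf_le_left) (inf_le_left.trans inf_le_right)
    · have : -x + -(1 * T) + ff f ra * e = -x' := by rw [hTx]; ring
      rw [this]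
      exact neg_mem (O_mono (inf_le_left.trans inf_le_right) hx')
  -- second class
  have c2 : clm M (hDA₁.trans hC₁.cover.ge) (mk l₁ (inf_le_left.trans hVA₁) ⟨T₁, hT₁⟩) =
      clm M hCB.cover.ge (mk l₀ hBA ⟨ff f rb * e, mre hrb'⟩) := by
    have mw : ff f w⁻¹ ∈ O D := ff_mem f hw'
    refine clm_eq_ff hM l₁ l₀ hDA₁ hDA mw (hl hDne mw) (hDA₁.trans hC₁.cover.ge) hCB.cover.ge
      (inf_le_left.trans hVA₁) hBA hT₁ (mre hrb') ?_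
    have hm : -(ff f (w⁻¹ * rb)) ∈ O D := neg_mem (ff_mem f (mul_mem hw' hrb'))
    have h1 := hrel.mul (r := -(ff f (w⁻¹ * rb))) (O_mono inf_le_right hm) (O_mono inf_le_right hm)
    have h2 := Rel.left_split (V := V ⊓ D) (V' := V' ⊓ D)
      (g := -(ff f w⁻¹ * y)) (g' := -(ff f w⁻¹ * y')) (U := V₁ ⊓ D) (U' := V₁' ⊓ D)
      (neg_mem (mul_mem (O_mono inf_le_right mw) (O_mono inf_le_left hy)))
      (neg_mem (mul_mem (O_mono inf_le_right mw) (O_mono inf_le_left hy')))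
    have h3 := h1.add h2
    have hww : ff f w⁻¹ * ff f w = 1 := by rw [← map_mul, inv_mul_cancel₀ hw0, map_one]
    have e1 : -(ff f (w⁻¹ * rb)) * e₁ + (-(ff f w⁻¹ * y') - -(ff f w⁻¹ * y)) = -(ff f w⁻¹ * T₁) := by
      rw [hTy, map_mul]; ring
    have e2 : -(ff f (w⁻¹ * rb)) * -(ff f w * e) + 0 = ff f rb * e := by
      rw [map_mul]
      linear_combination (ff f rb * e) * hww
    rw [e1, e2] at h3
    rwa [inf_comm D V₁, inf_comm D V₁']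
  -- conclusion
  have r1 : CohTop.res (X := X.toTopCat) (Coh.toAb M) 1 (inf_le_left : f ⁻¹ᵁ A ⊓ f ⁻¹ᵁ A₁ ≤ f ⁻¹ᵁ A)
      (clm M hC.cover.ge (mk l₀ (inf_le_left.trans hVA) ⟨T, hT⟩)) =
      clm M hCB.cover.ge (mk l₀ hBA ⟨ff f ra * e, mre hra'⟩) :=
    (res_clm hC.cover.ge _ _).trans c1
  have r2 : CohTop.res (X := X.toTopCat) (Coh.toAb M) 1 (inf_le_right : f ⁻¹ᵁ A ⊓ f ⁻¹ᵁ A₁ ≤ f ⁻¹ᵁ A₁)
      (clm M hC₁.cover.ge (mk l₁ (inf_le_left.trans hVA₁) ⟨T₁, hT₁⟩)) =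
      clm M hCB.cover.ge (mk l₀ hBA ⟨ff f rb * e, mre hrb'⟩) :=
    (res_clm hC₁.cover.ge _ _).trans c2
  rw [r1, r2] at hab
  have hz : clm M hCB.cover.ge (mk l₀ hBA ⟨ff f (ra - rb - r) * e,
      mre (sub_mem (sub_mem hra' hrb') hr)⟩) = 0 := by
    have h1 : (⟨ff f (ra - rb - r) * e, mre (sub_mem (sub_mem hra' hrb') hr)⟩ :
        O ((V ⊓ D) ⊓ (V' ⊓ D))) = ⟨ff f ra * e, mre hra'⟩ - ⟨ff f rb * e, mre hrb'⟩ -
          ⟨ff f r * e, mre hr⟩ := Subtype.ext (by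
      change ff f (ra - rb - r) * e = ff f ra * e - ff f rb * e - ff f r * e
      rw [map_sub, map_sub]; ring)
    rw [h1, map_sub, map_sub, map_sub, map_sub]
    exact sub_eq_zero.mpr hab
  obtain ⟨p, q, hpq⟩ := clm_eq_zero hCB.cover _ hz
  obtain ⟨p, hp, rfl⟩ := mk_surjective hl₀ (inf_le_left.trans hVA) p
  obtain ⟨q, hq, rfl⟩ := mk_surjective hl₀ (inf_le_right.trans hDA) q
  have mp : p ∈ O ((V ⊓ D) ⊓ (V' ⊓ D)) := O_mono inf_le_left hp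
  have mq : q ∈ O ((V ⊓ D) ⊓ (V' ⊓ D)) := O_mono inf_le_right hq
  rw [res_mk l₀ _ _ hp mp, res_mk l₀ _ _ hq mq, ← mk_sub] at hpq
  have h5 := mk_inj hl₀ hBA _ _ hpq
  have h6 := hCB.free (ra - rb - r) (sub_mem (sub_mem hra' hrb') hr) (-p) (neg_mem hp) (-q) (neg_mem hq)
    (by rw [h5]; ring)
  exact ⟨ra, hra, rb, hrb, by linear_combination -h6⟩

end K857.H2Ne
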