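import Groth.Agent.S14810
import Groth.Agent.Surf.K456.SecTriv
import Groth.Agent.Picfga.ChiCech
import Mathlib.FieldTheory.IsAlgClosed.Basic

/-!
# Sections of numerically trivial invertible modules, and `h⁰(O) = 1`
-/

set_option autoImplicit false
universe u
open CategoryTheory CategoryTheory.Limits AlgebraicGeometry

namespace K857.SecLib

open Groth.Agent Groth.Agent.Fdesc.LocGen

theorem triv_of_section (k : Type u) [Field k] {X : Scheme.{u}} [X.Over (Spec (CommRingCat.of k))]
    [IsProper (X ↘ Spec (CommRingCat.of k))] [IsIntegral X] {L : X.Modules} (hL : PicF.IsInvertible L)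
    (hnum : Pic13.IsNumEquivZero k X L) {s : Γ(L, ⊤)} (hs : s ≠ 0) :
    Nonempty (L ≅ Coh.structureModule X) := by
  refine Groth.Agent.S14810.result k X (isField_of_universallyClosed k (X ↘ Spec (CommRingCat.of k))) L hL hnum
    (homOf s) fun h => hs ?_
  have h1 := sec_homOf s ⊤
  rw [h, res_refl] at h1
  rw [← h1]
  rfl

theorem exists_section (k : Type u) [Field k] {X : Scheme.{u}} [X.Over (Spec (CommRingCat.of k))]
    {M : X.Modules} (h : 0 < Module.finrank k (Coh.HH X M 0)) : ∃ s : Γ(M, ⊤), s ≠ 0 := by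
  have : Nontrivial (Coh.HH X M 0) := Module.nontrivial_of_finrank_pos h
  exact K456.SecTriv.exists_ne_zero_of_nontrivial this

theorem const (k : Type u) [Field k] [IsAlgClosed k] (X : Scheme.{u}) [X.Over (Spec (CommRingCat.of k))]
    [IsProper (X ↘ Spec (CommRingCat.of k))] [IsIntegral X] (a : Γ(X, ⊤)) :
    ∃ c : k, (Coh.toGlobal (X ↘ Spec (CommRingCat.of k)) c : Γ(X, ⊤)) = a := by
  let _ := (isField_of_universallyClosed k (X ↘ Spec (CommRingCat.of k))).toField
  let φ : k →+* Γ(X, ⊤) := Coh.toGlobal (X ↘ Spec (CommRingCat.of k))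
  let _ : Algebra k Γ(X, ⊤) := φ.toAlgebra
  have h1 := isIntegral_appTop_of_universallyClosed (X ↘ Spec (CommRingCat.of k))
  have h2 : φ.IsIntegral := by
    refine RingHom.IsIntegral.trans _ _ (RingHom.isIntegral_of_surjective _ ?_) h1
    exact (Scheme.ΓSpecIso (CommRingCat.of k)).commRingCatIsoToRingEquiv.symm.surjective
  have h3 : Algebra.IsIntegral k Γ(X, ⊤) := ⟨h2⟩
  obtain ⟨c, hc⟩ := (IsAlgClosed.algebraMap_bijective_of_isIntegral (k := k) (K := Γ(X, ⊤))).2 a
  exact ⟨c, hc⟩

theorem finrank_zero (k : Type u) [Field k] [IsAlgClosed k] (X : Scheme.{u}) [X.Over (Spec (CommRingCat.of k))]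
    [IsProper (X ↘ Spec (CommRingCat.of k))] [IsIntegral X] :
    Module.finrank k (Coh.HH X (Coh.structureModule X) 0) = 1 := by
  rw [(Picfga.ChiCech.h0Top k (Coh.structureModule X)).finrank_eq]
  refine finrank_eq_one (Picfga.ChiCech.toSecA (one ⊤ : Γ(Coh.structureModule X, ⊤))) ?_ ?_
  · intro h
    have h0 : (one ⊤ : Γ(Coh.structureModule X, ⊤)) = 0 := h
    have h1 : (1 : Γ(X, ⊤)) = 0 :=
      (isGen_one (X := X) ⊤).ext (a := 1) (b := 0) (by rw [h0, smul_zero, smul_zero])
    exact one_ne_zero h1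
  · intro w
    obtain ⟨a, ha⟩ := (isGen_one (X := X) ⊤).exists_eq (Picfga.ChiCech.toSecA.symm w)
    obtain ⟨c, hc⟩ := const k X a
    refine ⟨c, ?_⟩
    rw [Picfga.ChiCech.toSecA_smul]
    have h2 : Picfga.ChiCech.str k (⊤ : X.Opens) c = a := by
      rw [← hc]
      exact ores_refl _
    rw [h2, ← ha]
    rfl

end K857.SecLib
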