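import Groth.Agent.Biell.K665.AlgTriv
import Groth.Agent.Biell.K857.FibGeo

/-!
# Existence of the standing situation from the existence of the fibration
-/

set_option autoImplicit false
universe u
open CategoryTheory CategoryTheory.Limits AlgebraicGeometry Opposite TopologicalSpace

namespace K857.SetupEx

open Groth.Agent Groth.Agent.Grpsch.PicGrp Groth.Agent.Pic13.H138.AlgEquiv

variable (k : Type u) [Field k] [IsAlgClosed k] {X : Scheme.{u}} [X.Over (Spec (CommRingCat.of k))]

/-- The standing situation, with the description of `Pic⁰`, of the canonical sheaf, and the class `P`. -/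
theorem exists_setup [IsIntegral X] [IsProper (X ↘ Spec (CommRingCat.of k))]
    [SmoothOfRelativeDimension 2 (X ↘ Spec (CommRingCat.of k))]
    (hfib : ∃ (E : Scheme.{u}) (_ : E.Over (Spec (CommRingCat.of k))) (f : X ⟶ E),
      f ≫ (E ↘ Spec (CommRingCat.of k)) = X ↘ Spec (CommRingCat.of k) ∧
      Curve.IsSmoothProperCurve k E (E ↘ Spec (CommRingCat.of k)) ∧ (∀ U, IsIso (f.app U)) ∧
      (∀ c ∈ alg0 k X, ∃ d : Pic E, pull f d = c) ∧
      Module.finrank k (Coh.HH E (Coh.structureModule E) 1) = 1)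
    (hproj : ∃ H : X.Modules, CohB1.IsAmple H) (ω : X.Modules)
    (hω : Canon.IsTopDiff (X ↘ Spec (CommRingCat.of k)) 2 ω) (hnum : Pic13.IsNumEquivZero k X ω)
    (hchi : Curv2.euler k X (Coh.structureModule X) = 0)
    (hC : ∀ (I : X.IdealSheafData) [IsIntegral I.subscheme], topologicalKrullDim I.subscheme = 1 →
      0 ≤ FGA.intNum k X 2 ![ClSub.idealMod I, ClSub.idealMod I] (Coh.structureModule X)) :
    ∃ (E : Scheme.{u}) (_ : E.Over (Spec (CommRingCat.of k))) (f : X ⟶ E), K857.Setup k f ∧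
      (∀ c ∈ alg0 k X, ∃ d : Pic E, pull f d = c) ∧
      ∃ P : E.Modules, PicF.IsInvertible P ∧
        Nonempty (ω ≅ (AlgebraicGeometry.Scheme.Modules.pullback f).obj P) := by
  obtain ⟨E, hE, f, hfo, hEc, hfi, h0, hg⟩ := hfib
  have hnoeth : IsNoetherian X := Fga.IntAdd.isNoetherian k X
  have hdim : topologicalKrullDim X = 2 := by
    exact_mod_cast Pi1.H538.RelDimOne.topologicalKrullDim_eq k X (X ↘ Spec (CommRingCat.of k)) 2
  have hchi' : FGA.eulerCharLE k X (Coh.structureModule X) 2 = 0 := by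
    rw [Fga.EulerLEAdd.eulerCharLE_eq_euler k X 2 (hdim.le.trans (by norm_num)), hchi]
  have hf := K665.AlgTriv.isFibr k f hfo hEc hfi hg
  obtain ⟨h1, P, hP, hdeg, e⟩ := K665.fib k X E f hf hproj ω hω hnum hchi' hC
  exact ⟨E, hE, f, ⟨hf, h1, inferInstance, inferInstance, inferInstance⟩, h0, P, hP, e⟩

end K857.SetupEx
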