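import Groth.Agent.Biell.K857.Change

/-!
# Comparison of the global short Weierstrass coordinates of two charts
-/

set_option autoImplicit false
universe u

open CategoryTheory CategoryTheory.Limits AlgebraicGeometry TopologicalSpace Opposite
open Groth.Agent.Picfga.RegLocus
open K857.OReg K857.WeiField K857.EqnGeo K857.LD

namespace K857.Global

variable {X S Z Y : Scheme.{u}} [IsIntegral X] [IsIntegral S] [IsIntegral Z] [IsIntegral Y]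
variable {f : X ⟶ S} {g : Z ⟶ S} {p : Y ⟶ X} {q : Y ⟶ Z} {δ : Z ⟶ Y} [IsDominant f] [IsDominant p]
    [IsDominant q] {A A₁ : S.Opens} {V V' V₁ V₁' : X.Opens} {e e₁ : X.functionField} {Δc : Y.Opens}
    [IsDominant g] [IsClosedImmersion δ]

/-- Global coordinates over `A`. -/
structure IsGlob (f : X ⟶ S) (g : Z ⟶ S) (p : Y ⟶ X) (q : Y ⟶ Z) (δ : Z ⟶ Y) [IsDominant f]
    [IsDominant p] [IsDominant q] (A : S.Opens) (V V' : X.Opens) (e : X.functionField) (Δc : Y.Opens)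
    (x y : Y.functionField) (a b : Z.functionField) : Prop where
  hx : x ∈ O (q ⁻¹ᵁ (g ⁻¹ᵁ A) ⊓ Δc)
  hy : y ∈ O (q ⁻¹ᵁ (g ⁻¹ᵁ A) ⊓ Δc)
  ha : a ∈ O (g ⁻¹ᵁ A)
  hb : b ∈ O (g ⁻¹ᵁ A)
  eq : y ^ 2 = x ^ 3 + ff q a * x + ff q b
  ex : ∃ (W : Z.Opens) (U : Y.Opens) (z : Y.functionField), W ≤ g ⁻¹ᵁ A ∧
    Nor q p δ V V' e Δc W U z
  short : ∀ (W : Z.Opens) (U : Y.Opens) (z : Y.functionField), W ≤ g ⁻¹ᵁ A →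
        Nor q p δ V V' e Δc W U z → ∀ [Nonempty U] [Nonempty (δ ⁻¹ᵁ U : Z.Opens)],
          Short (ff q) (O W) (q ⁻¹ᵁ W ⊓ Δc) (pb δ U) z x y a b

omit [IsDominant g] in
theorem exists_isGlob [Flat g] [QuasiSeparatedSpace X] (hS : Sit f g p q δ A V V' e Δc)
    (C : Set Z) (hCA : ∀ x ∈ C, x ∈ g ⁻¹ᵁ A) (hCne : C.Nonempty)
    (hcov : ∀ W : Z.Opens, C ⊆ W → g ⁻¹ᵁ A ≤ W)
    (hun : ∀ x ∈ C, UnitAt q p δ g A V V' e Δc x) :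
    ∃ (x y : Y.functionField) (a b : Z.functionField), IsGlob f g p q δ A V V' e Δc x y a b := by
  obtain ⟨x, y, a, b, h1, h2, h3, h4, h5, h6⟩ := exists_global hS C hCA hCne hcov hun
  obtain ⟨x₀, hx₀⟩ := hCne
  obtain ⟨W₀, U₀, z₀, hxW₀, hWA₀, hN₀⟩ := exists_nor hS (hCA _ hx₀) (hun _ hx₀)
  exact ⟨x, y, a, b, h1, h2, h3, h4, h5, ⟨W₀, U₀, z₀, hWA₀, hN₀⟩, h6⟩

theorem IsGlob.change [Flat g] [QuasiSeparatedSpace X] (hS : Sit f g p q δ A V V' e Δc)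
    (hS₁ : Sit f g p q δ A₁ V₁ V₁' e₁ Δc) {w : S.functionField}
    (hw0 : w ≠ 0) (hw : w ∈ O (A ⊓ A₁)) (hw' : w⁻¹ ∈ O (A ⊓ A₁))
    (hrel : Rel (V₁ ⊓ f ⁻¹ᵁ (A ⊓ A₁)) (V₁' ⊓ f ⁻¹ᵁ (A ⊓ A₁)) (V ⊓ f ⁻¹ᵁ (A ⊓ A₁))
      (V' ⊓ f ⁻¹ᵁ (A ⊓ A₁)) e₁ (-(ff f w * e)))
    {x y x₁ y₁ : Y.functionField} {a b a₁ b₁ : Z.functionField}
    (h : IsGlob f g p q δ A V V' e Δc x y a b) (h₁ : IsGlob f g p q δ A₁ V₁ V₁' e₁ Δc x₁ y₁ a₁ b₁) :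
    ff q (ff g w) ^ 2 * x = x₁ ∧ ff q (ff g w) ^ 3 * y = y₁ ∧ ff g w ^ 4 * a = a₁ ∧
      ff g w ^ 6 * b = b₁ := by
  obtain ⟨W₀, U₀, z, hWA₀, hN₀⟩ := h.ex
  obtain ⟨W₁, U₁, z₁, hWA₁, hN₁⟩ := h₁.ex
  obtain ⟨hU₀, hU₀'⟩ := hN₀.nonempty
  obtain ⟨z', hz', -⟩ := hN₀.dat
  obtain ⟨z₁', hz₁', -⟩ := hN₁.dat
  have := hz'.ne
  have := hz₁'.ne
  have hη₀ : genericPoint Z ∈ W₀ := genericPoint_mem W₀
  have hη₁ : genericPoint Z ∈ W₁ := genericPoint_mem W₁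
  obtain ⟨W, U, hW, hU, hxW, hpre, hle, hWW, hUU⟩ := exists_nhd hS.hδ (genericPoint Z) (W₀ ⊓ W₁)
    ⟨hη₀, hη₁⟩ U₀ (by rw [← hz'.pre] at hη₀; exact hη₀)
  have hWne : Nonempty W := ⟨⟨_, hxW⟩⟩
  have hUx : δ (genericPoint Z) ∈ U := by rw [← hpre] at hxW; exact hxW
  have hUne : Nonempty U := ⟨⟨_, hUx⟩⟩
  have hUne' : Nonempty (δ ⁻¹ᵁ U : Z.Opens) := ⟨⟨_, hUx⟩⟩
  have hN := hN₀.restrict hW hU hpre hle hWne hUne hUU (hWW.trans inf_le_left)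
  have hWA : W ≤ g ⁻¹ᵁ A := (hWW.trans inf_le_left).trans hWA₀
  have hWA' : W ≤ g ⁻¹ᵁ A₁ := (hWW.trans inf_le_right).trans hWA₁
  have hs := h.short W U z hWA hN
  have hN' := hN.change hS hWA hWA' hw0 hw hw' hrel
  have hs₁ := h₁.short W U _ hWA' hN'
  have hWB : W ≤ g ⁻¹ᵁ (A ⊓ A₁) := fun x hx => ⟨hWA hx, hWA' hx⟩
  have hgw : ff g w ∈ O W := O_mono hWB (ff_mem g hw)
  have hgw0 : ff g w ≠ 0 := (map_ne_zero _).mpr hw0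
  have hsc := hs.scale (r := (ff g w)⁻¹) (r' := ff g w) hgw (inv_mul_cancel₀ hgw0)
    (D := q ⁻¹ᵁ W) (fun r hr => ff_mem q hr) (hN.isEqn hS)
  exact unique hS₁ hN' hN' hWA' hsc hs₁

end K857.Global
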