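import Groth.Agent.Biell.K857.Square
import Groth.Agent.Biell.K857.UnitAt
import Groth.Agent.Biell.K857.TwoCharts

/-!
# Weierstrass coordinates for a genus one fibration
-/

set_option autoImplicit false
universe u

open CategoryTheory CategoryTheory.Limits AlgebraicGeometry TopologicalSpace
open Groth.Agent.Picfga.RegLocus
open K857.OReg K857.WeiField K857.EqnGeo K857.LD K857.Global

namespace K857.Square

variable {k : Type u} [Field k] [IsAlgClosed k] {X E : Scheme.{u}}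
    [X.Over (Spec (CommRingCat.of k))] [E.Over (Spec (CommRingCat.of k))] (f : X ⟶ E)
    [LocallyOfFinitePresentation f]

/-- the complement of the diagonal section -/
noncomputable def Δc [IsSeparated f] : (Y f).Opens :=
  ⟨(Set.range (δ f))ᶜ, (δ f).isClosedEmbedding.isClosed_range.isOpen_compl⟩

theorem mem_Δc [IsSeparated f] (y : Y f) : y ∈ Δc f ↔ y ∉ Set.range (δ f) := Iff.rfl

variable {f}

theorem nonempty_Δc [IsSeparated f] [IsIntegral (Y f)] [Nonempty (Z f)]
    (heff : BlowUp.IsEffCartierIdeal (δ f).ker) : Nonempty (Δc f) := by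
  obtain ⟨W, U, z, hD, -, -⟩ := exists_dat (δ_q f) heff (Classical.arbitrary (Z f)) ⊤ trivial
  have h1 := basicOpen_eq (δ f) hD.affU z hD.ideal (Δc f) (mem_Δc f)
  have h2 : Nonempty ((Y f).basicOpen z) := by
    by_contra hne
    apply hD.z0
    rw [← basicOpen_eq_bot_iff]
    ext y
    exact ⟨fun hy => (hne ⟨⟨y, hy⟩⟩).elim, fun hy => hy.elim⟩
  obtain ⟨⟨y, hy⟩⟩ := h2
  rw [h1] at hy
  exact ⟨⟨y, hy.1⟩⟩

theorem exists_sixth {R : Type u} [CommRing R] (h6 : IsUnit (6 : R)) {W : Scheme.{u}} [IsIntegral W]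
    (s : W ⟶ Spec (CommRingCat.of R)) : ∃ a ∈ O (⊤ : W.Opens), (6 : W.functionField) * a = 1 := by
  have : Nonempty (⊤ : W.Opens) := ⟨⟨genericPoint W, trivial⟩⟩
  obtain ⟨r, hr⟩ := h6.exists_right_inv
  let φ : R →+* Γ(W, ⊤) := s.appTop.hom.comp (Scheme.ΓSpecIso (CommRingCat.of R)).inv.hom
  refine ⟨W.germToFunctionField ⊤ (φ r), germ_mem _, ?_⟩
  have h1 : (6 : W.functionField) = W.germToFunctionField ⊤ (φ 6) := by
    rw [map_ofNat, map_ofNat]
  rw [h1, ← map_mul, ← map_mul, hr, map_one, map_one]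

theorem sit (h : Setup k f) (h6 : (6 : k) ≠ 0) [IsIntegral X] [IsIntegral E] [IsIntegral (Z f)]
    [IsIntegral (Y f)] [IsDominant f] [IsDominant (p f)] [IsDominant (q f)] [IsSeparated f]
    {A : E.Opens} {V V' : X.Opens} {e : X.functionField} (hA : IsAffineOpen A)
    (hC : IsChart (ff f) (O A) (f ⁻¹ᵁ A) V V' e) (hVV' : IsAffineOpen (V ⊓ V')) :
    Sit f (g f) (p f) (q f) (δ f) A V V' e (Δc f) where
  hc := IsPullback.of_hasPullback f (g f)
  hδ := δ_q f
  heff := heff h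
  hA := hA
  hC := hC
  hVV' := hVV'
  hΔ := mem_Δc f
  ne := nonempty_Δc (heff h)
  h6 := exists_sixth (IsUnit.mk0 _ h6) (f.smoothLocus.ι ≫ (X ↘ Spec (CommRingCat.of k)))

theorem unitAt' (h : Setup k f) [IsIntegral X] [IsIntegral E] [IsIntegral (Z f)]
    [IsIntegral (Y f)] [IsDominant f] [IsDominant (p f)] [IsDominant (q f)] [IsSeparated f]
    [QuasiSeparatedSpace X]
    {A : E.Opens} {V V' : X.Opens} {e : X.functionField}
    (hS : Sit f (g f) (p f) (q f) (δ f) A V V' e (Δc f)) (z : Z f) (hz : IsClosed ({z} : Set (Z f))) :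
    UnitAt (q f) (p f) (δ f) (g f) A V V' e (Δc f) z := by
  obtain ⟨xk, h1, h2, h3⟩ := exists_point h z hz
  have := h.gen.integral _ h3
  exact unitAt hS xk (fib f xk) _ (isPullback_fib xk) z h2 (h.haff _ h3) (h.not_subsingleton_H1 _ h3)

theorem exists_glob (h : Setup k f) [IsIntegral X] [IsIntegral E] [IsIntegral (Z f)]
    [IsIntegral (Y f)] [IsDominant f] [IsDominant (p f)] [IsDominant (q f)] [IsSeparated f]
    [QuasiSeparatedSpace X] [IsDominant (g f)]
    {A : E.Opens} {V V' : X.Opens} {e : X.functionField} (hAne : Nonempty A)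
    (hS : Sit f (g f) (p f) (q f) (δ f) A V V' e (Δc f)) :
    ∃ (x y : (Y f).functionField) (a b : (Z f).functionField),
      IsGlob f (g f) (p f) (q f) (δ f) A V V' e (Δc f) x y a b := by
  have := lftZ h
  have hj : JacobsonSpace (Z f) :=
    LocallyOfFiniteType.jacobsonSpace (f.smoothLocus.ι ≫ (X ↘ Spec (CommRingCat.of k)))
  have hgA : Nonempty (g f ⁻¹ᵁ A : (Z f).Opens) := nonempty_preimage (g f) A
  refine exists_isGlob hS (((g f ⁻¹ᵁ A : (Z f).Opens) : Set (Z f)) ∩ closedPoints (Z f))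
    (fun x hx => hx.1) ?_ ?_ fun x hx => unitAt' h hS x hx.2
  · exact nonempty_inter_closedPoints (Set.nonempty_coe_sort.mp hgA)
      (g f ⁻¹ᵁ A : (Z f).Opens).2.isLocallyClosed
  · intro W hW x hx
    by_contra hxW
    have h1 : (((g f ⁻¹ᵁ A : (Z f).Opens) : Set (Z f)) ∩ (W : Set (Z f))ᶜ).Nonempty := ⟨x, hx, hxW⟩
    obtain ⟨y, ⟨hy1, hy2⟩, hy3⟩ := nonempty_inter_closedPoints h1
      ((g f ⁻¹ᵁ A : (Z f).Opens).2.isLocallyClosed.inter W.2.isClosed_compl.isLocallyClosed)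
    exact hy2 (hW ⟨hy1, hy3⟩)

end K857.Square
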