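import Groth.Agent.Biell.K857.SitEx
import Groth.Agent.Biell.K857.Disc
import Groth.Agent.Biell.K857.FibCo
import Groth.Agent.Biell.K857.ClosedPt

/-!
# Existence of smooth fibres
-/

set_option autoImplicit false
universe u

open CategoryTheory CategoryTheory.Limits AlgebraicGeometry TopologicalSpace
open Groth.Agent.Picfga.RegLocus
open K857.OReg K857.WeiField K857.EqnGeo K857.LD K857.Global

namespace K857.Square

variable {k : Type u} [Field k] [IsAlgClosed k] {X E : Scheme.{u}}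
    [X.Over (Spec (CommRingCat.of k))] [E.Over (Spec (CommRingCat.of k))] {f : X ⟶ E}
    [LocallyOfFinitePresentation f]

/-- a fibre over a `k`-point at whose closed points it is regular lies in the smooth locus. -/
theorem mem_smoothLocus_of_regular (h : Setup k f) (x : Spec (CommRingCat.of k) ⟶ E)
    (hreg : ∀ w : (pullback f x : Scheme.{u}), IsClosed ({w} : Set (pullback f x : Scheme.{u})) →
      IsRegularLocalRing ((pullback f x).presheaf.stalk w)) (w : (pullback f x : Scheme.{u})) :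
    pullback.fst f x w ∈ f.smoothLocus := by
  have := h.flat
  have h1 : (pullback.snd f x).smoothLocus = ⊤ := by
    rw [eq_top_iff]
    intro w' _
    by_contra hcon
    have hj : JacobsonSpace (pullback f x : Scheme.{u}) :=
      LocallyOfFiniteType.jacobsonSpace (pullback.snd f x)
    obtain ⟨w₁, hw₁, hw₂⟩ := nonempty_inter_closedPoints
      (Z := (((pullback.snd f x).smoothLocus : Set (pullback f x : Scheme.{u})))ᶜ) ⟨w', hcon⟩
      (pullback.snd f x).smoothLocus.2.isClosed_compl.isLocallyClosed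
    exact hw₁ ((Groth.Agent.VarietyA.SmoothReg.mem_smoothLocus_iff_of_perfectField
      (pullback.snd f x) w₁).2 (hreg w₁ hw₂))
  refine (Groth.Agent.Smoothlim.SmoothLocusBC.mem_smoothLocus_iff_of_isPullback
      (IsPullback.of_hasPullback f x) w (Or.inl (Flat.stalkMap f _))).1 ?_
  rw [h1]; trivial

theorem exists_smooth_fibre (h : Setup k f) (h6 : (6 : k) ≠ 0) [IsIntegral X] [IsIntegral E]
    [IsIntegral (Z f)]
    [IsIntegral (Y f)] [IsDominant f] [IsDominant (p f)] [IsDominant (q f)] [IsSeparated f]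
    [QuasiSeparatedSpace X] [IsDominant (g f)]
    {A : E.Opens} {V V' : X.Opens} {e : X.functionField}
    (hS : Sit f (g f) (p f) (q f) (δ f) A V V' e (Δc f))
    {x y : (Y f).functionField} {a b : (Z f).functionField}
    (hG : IsGlob f (g f) (p f) (q f) (δ f) A V V' e (Δc f) x y a b) (hAne : Nonempty A) :
    ∃ z : Z f, IsClosed ({z} : Set (Z f)) ∧ ∀ w : X, f w = g f z → w ∈ f.smoothLocus := by
  have hlftZ := lftZ h
  have hflat := h.flat
  have hprop := h.isProper
  have hj : JacobsonSpace (Z f) :=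
    LocallyOfFiniteType.jacobsonSpace (f.smoothLocus.ι ≫ (X ↘ Spec (CommRingCat.of k)))
  set D := 4 * a ^ 3 + 27 * b ^ 2 with hD
  have hD0 : D ≠ 0 := Disc.disc_ne_zero hS (fun y => (stalkY h y).2) hG
  have hgA : Nonempty (g f ⁻¹ᵁ A : (Z f).Opens) := nonempty_preimage (g f) A
  -- a closed point at which the discriminant is a unit
  obtain ⟨z₀, ⟨hz₀A, hz₀D⟩, hz₀⟩ := nonempty_inter_closedPoints
    (Z := ((g f ⁻¹ᵁ A ⊓ reg D⁻¹ : (Z f).Opens) : Set (Z f)))
    ⟨genericPoint (Z f), genericPoint_mem _, genericPoint_mem_reg _⟩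
    (g f ⁻¹ᵁ A ⊓ reg D⁻¹ : (Z f).Opens).2.isLocallyClosed
  obtain ⟨W₀, U₀, z₁, hzW₀, hWA₀, hN₀⟩ := exists_nor hS hz₀A (unitAt' h hS z₀ hz₀)
  obtain ⟨z₁', hz₁', -⟩ := hN₀.dat
  obtain ⟨W, U, hW, hU, hxW, hpre, hle, hWW, hUU⟩ := exists_nhd hS.hδ z₀ (W₀ ⊓ reg D⁻¹)
    ⟨hzW₀, hz₀D⟩ U₀ (by rw [← hz₁'.pre] at hzW₀; exact hzW₀)
  have hWne : Nonempty W := ⟨⟨_, hxW⟩⟩
  have hUx : δ f z₀ ∈ U := by rw [← hpre] at hxW; exact hxW
  have hUne : Nonempty U := ⟨⟨_, hUx⟩⟩
  have hUne' : Nonempty (δ f ⁻¹ᵁ U : (Z f).Opens) := ⟨⟨_, hUx⟩⟩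
  have hN := hN₀.restrict hW hU hpre hle hWne hUne hUU (hWW.trans inf_le_left)
  have hWA : W ≤ g f ⁻¹ᵁ A := (hWW.trans inf_le_left).trans hWA₀
  have hs := hG.short W U z₁ hWA hN
  have hE := hN.isEqn hS
  obtain ⟨zz, hDat, hzz⟩ := hN.dat
  have hzz' : (Y f).germToFunctionField U zz = z₁ := hzz
  clear hzz
  rw [← hzz'] at hs hE
  -- the fibre
  obtain ⟨xk, hx1, hx2, hx3⟩ := exists_point h z₀ hz₀
  have hFint := h.gen.integral _ hx3
  have hH := h.not_subsingleton_H1 _ hx3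
  have fd := FibData.exists_fd hS xk (fib f xk) _ (isPullback_fib xk) z₀ hx2 hH hDat hxW
  have haff := h.haff _ hx3 _ fd.ne_top
  have hinv := ClosedPt.inv_mem (pullback.snd f (xk ≫ g f))
  obtain ⟨x', y', a', b', hco, ha', hb', heq, hdisc⟩ := FibData.exists_co fd hE hs hD0
    (mem_O.mpr (hWW.trans inf_le_right)) hinv haff hH
  have n0 := fd.n0
  have hFN : IsLocallyNoetherian (pullback f (xk ≫ g f) : Scheme.{u}) :=
    LocallyOfFiniteType.isLocallyNoetherian (pullback.snd f (xk ≫ g f))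
  have h2 : (2 : (pullback f (xk ≫ g f) : Scheme.{u}).functionField) ≠ 0 := by
    obtain ⟨s, -, hs6⟩ := exists_sixth (IsUnit.mk0 _ h6) (pullback.snd f (xk ≫ g f))
    intro h0
    have : (6 : (pullback f (xk ≫ g f) : Scheme.{u}).functionField) = 3 * 2 := by norm_num
    rw [this, h0, mul_zero, zero_mul] at hs6
    exact zero_ne_one hs6
  have hreg : ∀ w : (pullback f (xk ≫ g f) : Scheme.{u}),
      IsClosed ({w} : Set (pullback f (xk ≫ g f) : Scheme.{u})) →
      IsRegularLocalRing ((pullback f (xk ≫ g f)).presheaf.stalk w) := by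
    intro w hw
    by_cases hwU : w ∈ fib f xk ⁻¹ᵁ (q f ⁻¹ᵁ W ⊓ Δc f)
    · exact FibReg.isRegular haff hco hinv ha' hb' heq hdisc h2 hwU
        (ClosedPt.exists_value (pullback.snd f (xk ≫ g f)) hwU hw)
    · -- the point of the section
      have h3 : fib f xk w ∈ Set.range (δ f) := by
        by_contra hr
        apply hwU
        refine ⟨?_, hr⟩
        have : w ∈ fib f xk ⁻¹ᵁ (q f ⁻¹ᵁ W) := by rw [fd.top]; trivial
        exact this
      obtain ⟨v, hv⟩ := h3
      have h4 : pullback.fst f (xk ≫ g f) w ∈ f.smoothLocus := by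
        have e1 : pullback.fst f (xk ≫ g f) = fib f xk ≫ p f := (pullback.lift_fst _ _ _).symm
        rw [e1, Scheme.Hom.comp_apply, ← hv, ← Scheme.Hom.comp_apply, δ_p]
        exact v.2
      rw [← Groth.Agent.VarietyA.SmoothReg.mem_smoothLocus_iff_of_perfectField
        (pullback.snd f (xk ≫ g f)) w]
      exact (Groth.Agent.Smoothlim.SmoothLocusBC.mem_smoothLocus_iff_of_isPullback
        (IsPullback.of_hasPullback f (xk ≫ g f)) w (Or.inl (Flat.stalkMap f _))).2 h4
  refine ⟨z₀, hz₀, fun w hw => ?_⟩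
  obtain ⟨o, ho⟩ := hx2
  obtain ⟨w', hw', -⟩ := Scheme.Pullback.exists_preimage_pullback (f := f) (g := xk ≫ g f) w o (by
    rw [hw, ← ho]; rfl)
  rw [← hw']
  exact mem_smoothLocus_of_regular h _ hreg w'

/-- `f` is smooth over a nonempty open subset. -/
theorem exists_smooth_open (h : Setup k f) (h6 : (6 : k) ≠ 0) [IsIntegral X] [IsIntegral E]
    [IsIntegral (Z f)]
    [IsIntegral (Y f)] [IsDominant f] [IsDominant (p f)] [IsDominant (q f)] [IsSeparated f]
    [QuasiSeparatedSpace X] [IsDominant (g f)]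
    {A : E.Opens} {V V' : X.Opens} {e : X.functionField}
    (hS : Sit f (g f) (p f) (q f) (δ f) A V V' e (Δc f))
    {x y : (Y f).functionField} {a b : (Z f).functionField}
    (hG : IsGlob f (g f) (p f) (q f) (δ f) A V V' e (Δc f) x y a b) (hAne : Nonempty A) :
    ∃ G : E.Opens, Nonempty G ∧ f ⁻¹ᵁ G ≤ f.smoothLocus := by
  have hprop := h.isProper
  obtain ⟨z, -, hz⟩ := exists_smooth_fibre h h6 hS hG hAne
  have h1 : IsClosed (f '' ((f.smoothLocus : Set X)ᶜ)) :=
    f.isClosedMap _ f.smoothLocus.2.isClosed_compl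
  refine ⟨⟨(f '' ((f.smoothLocus : Set X)ᶜ))ᶜ, h1.isOpen_compl⟩, ⟨⟨g f z, ?_⟩⟩, ?_⟩
  · rintro ⟨w, hw, hw'⟩
    exact hw (hz w hw')
  · intro w hw
    by_contra hcon
    exact hw ⟨w, hcon, rfl⟩

end K857.Square
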