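import Groth.Agent.Biell.K857.FibGeo
import Groth.Agent.Biell.K857.FF
import Groth.Agent.Sga7.H591.SecSm
import Groth.Agent.Dix.NormalLoc

/-!
# The fibre square `X ×_E Z` over the smooth locus `Z`
-/

set_option autoImplicit false
universe u

open CategoryTheory CategoryTheory.Limits AlgebraicGeometry TopologicalSpace

namespace K857.Square

open K857

variable {k : Type u} [Field k] [IsAlgClosed k] {X E : Scheme.{u}}
    [X.Over (Spec (CommRingCat.of k))] [E.Over (Spec (CommRingCat.of k))] (f : X ⟶ E)
    [LocallyOfFinitePresentation f]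

/-- the smooth locus, as a scheme -/
noncomputable abbrev Z : Scheme.{u} := (f.smoothLocus : Scheme.{u})

/-- the smooth part of the fibration -/
noncomputable abbrev g : Z f ⟶ E := f.smoothLocus.ι ≫ f

/-- the fibre square -/
noncomputable abbrev Y : Scheme.{u} := pullback f (g f)

noncomputable abbrev p : Y f ⟶ X := pullback.fst f (g f)

noncomputable abbrev q : Y f ⟶ Z f := pullback.snd f (g f)

/-- the diagonal section -/
noncomputable def δ : Z f ⟶ Y f := pullback.lift f.smoothLocus.ι (𝟙 _) (by simp)

theorem δ_p : δ f ≫ p f = f.smoothLocus.ι := pullback.lift_fst _ _ _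

theorem δ_q : δ f ≫ q f = 𝟙 _ := pullback.lift_snd _ _ _

instance [IsSeparated f] : IsClosedImmersion (δ f) := by
  have : IsClosedImmersion (δ f ≫ q f) := by rw [δ_q]; infer_instance
  exact IsClosedImmersion.of_comp (δ f) (q f)

instance : Smooth (g f) := Setup.smooth_g f

instance : Smooth (p f) := inferInstance

variable {f}

theorem heff (h : Setup k f) : BlowUp.IsEffCartierIdeal (δ f).ker := by
  have := h.isProper
  have := h.relDim_g
  have h1 := Groth.Agent.Sga7.H591.SecSm.isEff_sec f f.smoothLocus (T := Over.mk (g f))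
    ⟨f.smoothLocus.ι, rfl⟩ (by rw [Scheme.Opens.range_ι])
  exact h1

theorem smoothY (h : Setup k f) : Smooth (p f ≫ (X ↘ Spec (CommRingCat.of k))) := by
  have := h.smoothX
  infer_instance

theorem stalkY (h : Setup k f) (y : Y f) :
    IsDomain ((Y f).presheaf.stalk y) ∧ IsIntegrallyClosed ((Y f).presheaf.stalk y) := by
  have := smoothY h
  exact Groth.Agent.Dix.NormalLoc.stalk_of_smooth (p f ≫ (X ↘ Spec (CommRingCat.of k))) y

theorem isReducedY (h : Setup k f) : IsReduced (Y f) := by
  have : ∀ y : Y f, _root_.IsReduced ((Y f).presheaf.stalk y) := fun y => by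
    have := (stalkY h y).1
    infer_instance
  exact isReduced_of_isReduced_stalk _

/-- The fibre of `q` over a `k`-point of `Z` is the fibre of `f`. -/
noncomputable def fib (f : X ⟶ E) [LocallyOfFinitePresentation f] (z : Spec (CommRingCat.of k) ⟶ Z f) :
    (pullback f (z ≫ g f) : Scheme.{u}) ⟶ Y f :=
  pullback.lift (pullback.fst f (z ≫ g f)) (pullback.snd f (z ≫ g f) ≫ z) (by
    rw [Category.assoc, pullback.condition])

omit [IsAlgClosed k] [X.Over (Spec (CommRingCat.of k))] [E.Over (Spec (CommRingCat.of k))] in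
theorem isPullback_fib (z : Spec (CommRingCat.of k) ⟶ Z f) :
    IsPullback (fib f z) (pullback.snd f (z ≫ g f)) (q f) z := by
  refine IsPullback.of_right (h₁₂ := p f) (v₁₃ := f) (h₂₂ := g f) ?_ (pullback.lift_snd _ _ _)
    (IsPullback.of_hasPullback f (g f))
  have h1 : fib f z ≫ p f = pullback.fst f (z ≫ g f) := pullback.lift_fst _ _ _
  rw [h1]
  exact IsPullback.of_hasPullback f (z ≫ g f)

theorem isIntegralZ (h : Setup k f) : IsIntegral (Z f) := by
  have := h.int
  have := h.nonempty_smoothLocus
  infer_instance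

theorem lftZ (h : Setup k f) : LocallyOfFiniteType (f.smoothLocus.ι ≫ (X ↘ Spec (CommRingCat.of k))) := by
  have := h.prop
  infer_instance

/-- the `k`-point of a closed point of `Z` -/
theorem exists_point (h : Setup k f) (z : Z f) (hz : IsClosed ({z} : Set (Z f))) :
    ∃ xk : Spec (CommRingCat.of k) ⟶ Z f, IsClosedImmersion xk ∧ z ∈ Set.range xk ∧
      (xk ≫ g f) ≫ (E ↘ Spec (CommRingCat.of k)) = 𝟙 _ := by
  have := lftZ h
  let s := f.smoothLocus.ι ≫ (X ↘ Spec (CommRingCat.of k))
  refine ⟨pointOfClosedPoint s z hz, ?_, ⟨IsLocalRing.closedPoint k, pointOfClosedPoint_apply _ _ _ _⟩, ?_⟩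
  · exact isClosedImmersion_of_comp_eq_id _ _ (pointOfClosedPoint_comp s z hz)
  · rw [Category.assoc, Category.assoc, h.fibr.over]
    exact pointOfClosedPoint_comp s z hz

theorem isPreirreducible_fibre (h : Setup k f) (z : Z f) (hz : IsClosed ({z} : Set (Z f))) :
    IsPreirreducible ((q f) ⁻¹' {z}) := by
  obtain ⟨xk, h1, ⟨o, rfl⟩, h2⟩ := exists_point h z hz
  have := h.gen.integral _ h2
  have h3 : (q f) ⁻¹' {xk o} = Set.range (fib f xk) := by
    ext y
    constructor
    · intro hy
      obtain ⟨w, hw, -⟩ := Scheme.exists_preimage_of_isPullback (isPullback_fib xk) y o hy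
      exact ⟨w, hw⟩
    · rintro ⟨w, rfl⟩
      change q f (fib f xk w) = xk o
      rw [← Scheme.Hom.comp_apply, (isPullback_fib xk).w, Scheme.Hom.comp_apply]
      congr 1
      exact Subsingleton.elim _ _
  rw [h3, ← Set.image_univ]
  exact (IrreducibleSpace.isIrreducible_univ _).2.image _ (fib f xk).continuous.continuousOn

theorem irreducibleY (h : Setup k f) : IrreducibleSpace (Y f) := by
  have := lftZ h
  have := h.flat
  have hZ := isIntegralZ h
  have hj : JacobsonSpace (Z f) :=
    LocallyOfFiniteType.jacobsonSpace (f.smoothLocus.ι ≫ (X ↘ Spec (CommRingCat.of k)))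
  have h1 : IsPreirreducible ((q f) ⁻¹' (Set.univ : Set (Z f))) := by
    refine (IrreducibleSpace.isIrreducible_univ (Z f)).2.preimage_of_dense_isPreirreducible_fiber
      (q f) (q f).isOpenMap ?_
    have h3 : closure (closedPoints (Z f)) ⊆
        closure (Set.univ ∩ {z | IsPreirreducible ((q f) ⁻¹' {z})}) :=
      closure_mono fun z hz => ⟨trivial, isPreirreducible_fibre h z hz⟩
    rwa [closure_closedPoints] at h3
  have hne : Nonempty (Y f) := ⟨δ f (genericPoint (Z f))⟩
  have h2 : PreirreducibleSpace (Y f) := ⟨by simpa using h1⟩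
  exact { toNonempty := hne }

theorem isIntegralY (h : Setup k f) : IsIntegral (Y f) := by
  have := irreducibleY h
  have := isReducedY h
  exact isIntegral_of_irreducibleSpace_of_isReduced _

/-- A nonempty open map to an irreducible scheme is dominant. -/
theorem isDominant_of_isOpenMap {A B : Scheme.{u}} [IrreducibleSpace B] [Nonempty A] (φ : A ⟶ B)
    (hφ : IsOpenMap φ) : IsDominant φ := by
  refine ⟨?_⟩
  exact (hφ.isOpen_range).dense (Set.range_nonempty _)

theorem isDominant_p (h : Setup k f) : IsDominant (p f) := by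
  have := h.int
  have := isIntegralY h
  exact isDominant_of_isOpenMap (p f) (p f).isOpenMap

theorem isDominant_q (h : Setup k f) : IsDominant (q f) := by
  have := isIntegralZ h
  have := isIntegralY h
  have := h.flat
  exact isDominant_of_isOpenMap (q f) (q f).isOpenMap

theorem isDominant_g (h : Setup k f) : IsDominant (g f) := by
  have := h.fibr.integral
  have := isIntegralZ h
  exact isDominant_of_isOpenMap (g f) (g f).isOpenMap

end K857.Square
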