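import Groth.Agent.Biell.K857.Atlas
import Groth.Agent.Biell.K857.Coef
import Groth.Agent.Biell.K857.H2Ne
import Groth.Agent.Biell.K857.SecLib
import Groth.Agent.VarietyA.Glue2
import Groth.Agent.Surf.K455.SmoothRR
import Groth.Agent.Surf.K455.Canon
import Groth.Agent.S2329

/-!
# The order of the canonical sheaf divides 4 or 6
-/

set_option autoImplicit false
universe u

open CategoryTheory CategoryTheory.Limits AlgebraicGeometry TopologicalSpace Opposite
open Groth.Agent Groth.Agent.Fdesc.LocGen Groth.Agent.Picfga.RegLocus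
open K857.OReg K857.WeiField K857.GenSec

namespace K857.T1

/-- The line bundle with transition function `u` on two opens. -/
theorem exists_line {X : Scheme.{u}} [IsIntegral X] {U U' : X.Opens} [Nonempty U] [Nonempty U']
    (hU : U ⊔ U' = ⊤) {c : X.functionField}
    (hc0 : c ≠ 0) (hc : c ∈ O (U ⊓ U')) (hc' : c⁻¹ ∈ O (U ⊓ U')) :
    ∃ (M : X.Modules) (l₀ : Γ(M, U)) (l₁ : Γ(M, U')), PicF.IsInvertible M ∧ IsGen l₀ ∧ IsGen l₁ ∧
      (∀ (_ : Nonempty (U ⊓ U' : X.Opens)), res M inf_le_left l₀ = mk l₁ inf_le_right ⟨c, hc⟩) ∧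
      (∀ (_ : Nonempty (U ⊓ U' : X.Opens)), res M inf_le_right l₁ = mk l₀ inf_le_left ⟨c⁻¹, hc'⟩) := by
  have := nonempty_inf U U'
  obtain ⟨a, ha⟩ := exists_sec hc
  obtain ⟨b, hb⟩ := exists_sec hc'
  have hab : a * b = 1 := by
    apply X.germToFunctionField_injective (U ⊓ U')
    rw [map_mul, ha, hb, map_one, mul_inv_cancel₀ hc0]
  obtain ⟨M, l₀, l₁, hM, h0, h1, h2⟩ := VarietyA.Glue2.exists_glued_two U U' hU a
    (IsUnit.of_mul_eq_one b hab)
  have h2' : res M inf_le_left l₀ = a • res M inf_le_right l₁ := h2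
  refine ⟨M, l₀, l₁, hM, h0, h1, fun _ => ?_, fun _ => ?_⟩
  · have h3 : (⟨c, hc⟩ : O (U ⊓ U')) = ⟨X.germToFunctionField (U ⊓ U') a, germ_mem a⟩ :=
      Subtype.ext ha.symm
    rw [h3, mk_germ, h2']
  · have h3 : (⟨c⁻¹, hc'⟩ : O (U ⊓ U')) = ⟨X.germToFunctionField (U ⊓ U') b, germ_mem b⟩ :=
      Subtype.ext hb.symm
    rw [h3, mk_germ, h2', smul_smul, mul_comm, hab, one_smul]

/-- A global section of `M^n` from `α` with `c^n α` regular. -/
theorem exists_sec_pow {X : Scheme.{u}} [IsIntegral X] {U U' : X.Opens} [Nonempty U] [Nonempty U']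
    (hU : U ⊔ U' = ⊤) {c : X.functionField} (hc : c ∈ O (U ⊓ U')) {M : X.Modules}
    {l₀ : Γ(M, U)} {l₁ : Γ(M, U')} (h0 : IsGen l₀)
    (hl : ∀ (_ : Nonempty (U ⊓ U' : X.Opens)), res M inf_le_left l₀ = mk l₁ inf_le_right ⟨c, hc⟩)
    (n : ℕ) {α : X.functionField} (hα : α ∈ O U) (hα' : c ^ n * α ∈ O U') (hα0 : α ≠ 0) :
    ∃ s : Γ(CohB1.tensorPow M n, ⊤), s ≠ 0 := by
  have hne := nonempty_inf U U'
  obtain ⟨a, ha⟩ := exists_sec hα
  obtain ⟨b, hb⟩ := exists_sec hα'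
  obtain ⟨u, hu⟩ := exists_sec hc
  have h1 : res M inf_le_left l₀ = u • res M (inf_le_right : U ⊓ U' ≤ U') l₁ := by
    rw [hl hne]
    have h3 : (⟨c, hc⟩ : O (U ⊓ U')) = ⟨X.germToFunctionField (U ⊓ U') u, germ_mem u⟩ :=
      Subtype.ext hu.symm
    rw [h3, mk_germ]
  obtain ⟨s, hs1, hs2⟩ := VarietyA.Glue2.exists_msec_two (CohB1.tensorPow M n) U U' hU
    (a • pow l₀ n) (b • pow l₁ n) (by
      change res (CohB1.tensorPow M n) inf_le_left (a • pow l₀ n) =
        res (CohB1.tensorPow M n) inf_le_right (b • pow l₁ n)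
      rw [res_smul, res_smul, res_pow, res_pow, h1, smul_pow, smul_smul]
      congr 1
      apply X.germToFunctionField_injective (U ⊓ U')
      change X.germToFunctionField (U ⊓ U') (rs inf_le_left a * u ^ n) =
        X.germToFunctionField (U ⊓ U') (rs inf_le_right b)
      rw [map_mul, map_pow, germ_rs, germ_rs, ha, hb, hu, mul_comm])
  refine ⟨s, ?_⟩
  rintro rfl
  have h2 : a • pow l₀ n = 0 := by
    rw [← hs1]
    exact map_zero (res (CohB1.tensorPow M n) (le_top : U ≤ ⊤))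
  have h3 : a = 0 := (h0.pow n).ext (by rw [h2, zero_smul])
  apply hα0
  rw [← ha, h3, map_zero]

/-- product of sections: from sections of `ω ⊗ M'` and of `M^n`. -/
theorem exists_sec_prod {X : Scheme.{u}} [IsIntegral X] {ω M M' : X.Modules} (hω : PicF.IsInvertible ω)
    (hM : PicF.IsInvertible M) (hM' : PicF.IsInvertible M')
    (e : Nonempty (CohB1.tensorMod M M' ≅ Coh.structureModule X))
    {s : Γ(CohB1.tensorMod ω M', ⊤)} (hs : s ≠ 0) (n : ℕ) {t : Γ(CohB1.tensorPow M n, ⊤)} (ht : t ≠ 0) :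
    ∃ r : Γ(CohB1.tensorPow ω n, ⊤), r ≠ 0 := by
  have hW : PicF.IsInvertible (CohB1.tensorMod ω M') := isInvertible_tensorMod hω hM'
  obtain ⟨s', hs'⟩ := K456.SecTriv.exists_ne_zero_tensorPow hW hs n
  have h1 := K456.SecTriv.tmul_ne_zero (isInvertible_tensorPow hW n) (isInvertible_tensorPow hM n) hs' ht
  have h2 : Nonempty (CohB1.tensorMod (CohB1.tensorPow (CohB1.tensorMod ω M') n)
      (CohB1.tensorPow M n) ≅ CohB1.tensorPow ω n) := by
    rw [← Fga.PicMon.mc_eq_iff, Fga.PicMon.mc_tensor, Fga.PicMon.mc_tensorPow, Fga.PicMon.mc_tensorPow,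
      Fga.PicMon.mc_tensorPow, Fga.PicMon.mc_tensor, ← mul_pow]
    have h3 : Fga.PicMon.mc M * Fga.PicMon.mc M' = 1 := by
      rw [← Fga.PicMon.mc_tensor, ← Fga.PicMon.mc_one, Fga.PicMon.mc_eq_iff]
      exact e
    rw [mul_assoc, mul_comm (Fga.PicMon.mc M'), h3, mul_one]
  obtain ⟨φ⟩ := h2
  refine ⟨φ.hom.app ⊤ (tmul s' t), fun h0 => h1 ?_⟩
  have h4 : tmul s' t = φ.inv.app ⊤ (φ.hom.app ⊤ (tmul s' t)) :=
    (congr($(congrArg (fun q => Scheme.Modules.Hom.app q ⊤) φ.hom_inv_id) (tmul s' t))).symm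
  rw [h4, h0, map_zero]

variable {k : Type u} [Field k] [IsAlgClosed k] {X E : Scheme.{u}}
    [X.Over (Spec (CommRingCat.of k))] [E.Over (Spec (CommRingCat.of k))] {f : X ⟶ E}

/-- **Order of the canonical sheaf**, given a genus one fibration with integral closed fibres. -/
theorem core (h : Setup k f) (h6 : (6 : k) ≠ 0) (hproj : ∃ H : X.Modules, CohB1.IsAmple H)
    (ω : X.Modules) (hω : Canon.IsTopDiff (X ↘ Spec (CommRingCat.of k)) 2 ω)
    (hnum : Pic13.IsNumEquivZero k X ω) :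
    Nonempty (CohB1.tensorPow ω 4 ≅ Coh.structureModule X) ∨
      Nonempty (CohB1.tensorPow ω 6 ≅ Coh.structureModule X) := by
  have := h.int
  have := h.fibr.integral
  have := h.prop
  have := h.smooth
  have := h.isDominant
  have := h.isNoetherianX
  have := h.isNoetherianE
  have := h.lfp
  obtain ⟨A, A₁, V, V', V₁, V₁', e, e₁, w, hT⟩ := exists_atlas h hproj
  have := hT.neA
  have := hT.neA₁
  obtain ⟨α, β, hα, hβ, hα', hβ', hd⟩ := Square.exists_coef_two h h6 hT.affA hT.affA₁ hT.neA hT.neA₁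
    hT.chart hT.affV hT.chart₁ hT.affV₁ hT.w0 hT.hw hT.hw' hT.rel
  have hUcov : f ⁻¹ᵁ A ⊔ f ⁻¹ᵁ A₁ = ⊤ := by
    have h1 : f ⁻¹ᵁ (A ⊔ A₁) = ⊤ := by rw [hT.cover]; rfl
    exact h1
  have := nonempty_preimage f A
  have := nonempty_preimage f A₁
  have hc0 : ff f w ≠ 0 := (map_ne_zero (ff f)).mpr hT.w0
  have hc : ff f w ∈ O (f ⁻¹ᵁ A ⊓ f ⁻¹ᵁ A₁) := ff_mem f hT.hw
  have hc' : (ff f w)⁻¹ ∈ O (f ⁻¹ᵁ A ⊓ f ⁻¹ᵁ A₁) := by
    rw [← map_inv₀]; exact ff_mem f hT.hw'
  obtain ⟨M, l₀, l₁, hM, g0, g1, h01, h10⟩ := exists_line hUcov hc0 hc hc'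
  -- non-vanishing of `H²(X, M)`
  have hH2 : ¬ Subsingleton (Coh.HH X M 2) := by
    intro hs
    have h1 := H2Ne.exists_sub_of_H2 f hM hs hT.cover hT.chart hT.chart₁ hT.chartB hT.w0 hT.hw' hT.rel g0 g1
      (by
        intro hne hm
        have h2 := h10 hne
        have h3 : (⟨(ff f w)⁻¹, hc'⟩ : O (f ⁻¹ᵁ A ⊓ f ⁻¹ᵁ A₁)) = ⟨ff f w⁻¹, hm⟩ :=
          Subtype.ext (map_inv₀ (ff f) w).symm
        rw [h3] at h2
        exact h2)
    have h4 : Subsingleton (Coh.HH E (Coh.structureModule E) 1) := by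
      refine H1Cech.subsingleton hT.cover hT.affA hT.affA₁ fun t ht => ?_
      obtain ⟨a, ha, b, hb, hab⟩ := h1 t ht
      exact ⟨-a, neg_mem ha, -b, neg_mem hb, by rw [hab]; ring⟩
    have h5 := h.fibr.genus
    have h6 := Module.finrank_zero_of_subsingleton (R := k) (M := Coh.HH E (Coh.structureModule E) 1)
    exact one_ne_zero (h5.symm.trans h6)
  have hinv : PicF.IsInvertible ω := K455.Canon.isInvertible (X ↘ Spec (CommRingCat.of k)) 2 hω
  obtain ⟨M', hM', eM⟩ := Grpsch.PicGrp.exists_inverse hM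
  have hpos : 0 < Module.finrank k (Coh.HH X M 2) := by
    have hfin : Module.Finite k (Coh.HH X M 2) := by
      refine Groth.Agent.S0002.result k X M ?_ 2
      exact S2329.isCoh_of_isInvertible hM
    have hnt : Nontrivial (Coh.HH X M 2) := not_subsingleton_iff_nontrivial.mp hH2
    exact Module.finrank_pos
  rw [K455.SmoothRR.finrank_dual k hω hM eM 0 2 rfl] at hpos
  obtain ⟨s, hs⟩ := SecLib.exists_section k hpos
  have fin : ∀ n : ℕ, (∃ t : Γ(CohB1.tensorPow M n, ⊤), t ≠ 0) →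
      Nonempty (CohB1.tensorPow ω n ≅ Coh.structureModule X) := by
    rintro n ⟨t, ht⟩
    obtain ⟨r, hr⟩ := exists_sec_prod hinv hM hM' eM hs n ht
    refine SecLib.triv_of_section k (isInvertible_tensorPow hinv n) ?_ hr
    have h1 := (Pic13.H945.DegAmple.isNumEquivZero_iff_mem k X hinv).1 hnum
    rw [Pic13.H945.DegAmple.isNumEquivZero_iff_mem k X (isInvertible_tensorPow hinv n),
      Grpsch.PicGrp.mk_tensorPow]
    exact pow_mem h1 n
  by_cases hα0 : α = 0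
  · have hβ0 : β ≠ 0 := by
      rintro rfl
      exact hd (by rw [hα0]; ring)
    right
    refine fin 6 (exists_sec_pow hUcov hc g0 h01 6 (ff_mem f hβ) ?_ ((map_ne_zero (ff f)).mpr hβ0))
    rw [← map_pow, ← map_mul]
    exact ff_mem f hβ'
  · left
    refine fin 4 (exists_sec_pow hUcov hc g0 h01 4 (ff_mem f hα) ?_ ((map_ne_zero (ff f)).mpr hα0))
    rw [← map_pow, ← map_mul]
    exact ff_mem f hα'

end K857.T1
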