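import Groth.Agent.Biell.K857.SetupEx
import Groth.Agent.Biell.K857.T1Core
import Groth.Agent.Biell.K856.Final

/-!
# The order of the canonical sheaf of a bielliptic surface divides 4 or 6
-/

set_option autoImplicit false
universe u
open CategoryTheory CategoryTheory.Limits AlgebraicGeometry Opposite TopologicalSpace

namespace K857.T1Final

open Groth.Agent Groth.Agent.Grpsch.PicGrp Groth.Agent.Pic13.H138.AlgEquiv

variable (k : Type u) [Field k] [IsAlgClosed k] (X : Scheme.{u}) [X.Over (Spec (CommRingCat.of k))]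
  [IsIntegral X] [IsProper (X ↘ Spec (CommRingCat.of k))]
  [SmoothOfRelativeDimension 2 (X ↘ Spec (CommRingCat.of k))]

/-- The standing situation exists on a bielliptic surface. -/
theorem exists_setup (hproj : ∃ H : X.Modules, CohB1.IsAmple H) (ω : X.Modules)
    (hω : Canon.IsTopDiff (X ↘ Spec (CommRingCat.of k)) 2 ω) (hnum : Pic13.IsNumEquivZero k X ω)
    (hb2 : ∀ ℓ : ℕ, ℓ.Prime → (ℓ : k) ≠ 0 → EtAdic.betti X ℓ 2 = 2) :
    ∃ (E : Scheme.{u}) (_ : E.Over (Spec (CommRingCat.of k))) (f : X ⟶ E), K857.Setup k f ∧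
      (∀ c ∈ alg0 k X, ∃ d : Pic E, pull f d = c) ∧
      ∃ P : E.Modules, PicF.IsInvertible P ∧
        Nonempty (ω ≅ (AlgebraicGeometry.Scheme.Modules.pullback f).obj P) := by
  obtain ⟨hchi, -, -⟩ := K856.Basic.main k X hproj hω hnum hb2
  obtain ⟨E, hE, f, h1, h2, h3, h4, h5, -⟩ := K856.Final.exists_fibration k X hproj hω hnum hb2
  exact SetupEx.exists_setup k ⟨E, hE, f, h1, h2, h3, h4, h5⟩ hproj ω hω hnum hchi
    (fun I _ h => K856.Final.integral_nonneg k X hproj hω hnum hb2 I h)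

/-- **T1.** -/
theorem main (hproj : ∃ H : X.Modules, CohB1.IsAmple H) (ω : X.Modules)
    (hω : Canon.IsTopDiff (X ↘ Spec (CommRingCat.of k)) 2 ω) (hnum : Pic13.IsNumEquivZero k X ω)
    (hb2 : ∀ ℓ : ℕ, ℓ.Prime → (ℓ : k) ≠ 0 → EtAdic.betti X ℓ 2 = 2) (h6 : (6 : k) ≠ 0) :
    Nonempty (CohB1.tensorPow ω 4 ≅ Coh.structureModule X) ∨
      Nonempty (CohB1.tensorPow ω 6 ≅ Coh.structureModule X) := by
  obtain ⟨E, hE, f, h, -, -⟩ := exists_setup k X hproj ω hω hnum hb2
  exact T1.core h h6 hproj ω hω hnum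

end K857.T1Final
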