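import Groth.Agent.Biell.K857.SitEx
import Groth.Agent.CurvSt.K899.DivAmple
import Groth.Agent.S0054

/-!
# The complement of the diagonal is affine over small opens
-/

set_option autoImplicit false
universe u

open CategoryTheory CategoryTheory.Limits AlgebraicGeometry TopologicalSpace

namespace K857.T2

theorem exists_nhd {Z T : Scheme.{u}} [IsNoetherian T] (f : Z ⟶ T) [IsProper f] {D : Z.IdealSheafData}
    (hD : BlowUp.IsEffCartierIdeal D) (t : T) (hdim : topologicalKrullDim (f.fiber t) ≤ 1)
    (hirr : IsPreirreducible (f ⁻¹' {t})) (h1 : ∃ y, f y = t ∧ y ∉ D.support)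
    (h2 : ∃ y, f y = t ∧ y ∈ D.support) :
    ∃ V : T.Opens, t ∈ V ∧ ∀ W : T.Opens, W ≤ V → IsAffineOpen W →
      IsAffineOpen (f ⁻¹ᵁ W ⊓ D.support.compl) := by
  have hirr' : PreirreducibleSpace (f.fiber t : Type u) := by
    have := Subtype.preirreducibleSpace hirr
    refine ⟨?_⟩
    have h3 := (PreirreducibleSpace.isPreirreducible_univ (X := (f ⁻¹' {t} : Set Z))).image
      (f.fiberHomeo t).symm (f.fiberHomeo t).symm.continuous.continuousOn
    rwa [Set.image_univ, (f.fiberHomeo t).symm.surjective.range_eq] at h3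
  obtain ⟨L, hLi, hLD⟩ := K899.DivAmple.exists_inverse hD
  let _ : (f.fiber t).Over (Spec (CommRingCat.of (T.residueField t))) := ⟨f.fiberToSpecResidueField t⟩
  have h3 : IsProper ((f.fiber t) ↘ (Spec (CommRingCat.of (T.residueField t)))) :=
    inferInstanceAs (IsProper (pullback.snd f (T.fromSpecResidueField t)))
  have hamp := K899.DivAmple.isAmple_pullback (T.residueField t) hdim (f.fiberι t) hD (fun C hC _ => by
    have hCu : C = Set.univ := by
      have h4 : Set.univ ∈ {s : Set (f.fiber t : Type u) | IsIrreducible s} := by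
        refine ⟨?_, hirr'.isPreirreducible_univ⟩
        obtain ⟨y, hy, -⟩ := h1
        exact ⟨(f.fiberHomeo t).symm ⟨y, hy⟩, trivial⟩
      exact Set.eq_univ_of_univ_subset (hC.2 h4 (Set.subset_univ _))
    subst hCu
    obtain ⟨y, hy, hyD⟩ := h1
    obtain ⟨y', hy', hyD'⟩ := h2
    refine ⟨⟨(f.fiberHomeo t).symm ⟨y, hy⟩, trivial, ?_⟩, ⟨(f.fiberHomeo t).symm ⟨y', hy'⟩, trivial, ?_⟩⟩
    · rw [Scheme.Hom.fiberι_fiberHomeo_symm]; exact hyD
    · rw [Scheme.Hom.fiberι_fiberHomeo_symm]; exact hyD') hLi hLD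
  obtain ⟨V, hV, hVW⟩ := Groth.Agent.S0054.result f L hLi t hamp
  exact ⟨V, hV, fun W hWV hW => K899.DivAmple.isAffineOpen_inf_compl f hD hLD W hW (hVW W hWV hW)⟩

open K857.Square

variable {k : Type u} [Field k] [IsAlgClosed k] {X E : Scheme.{u}}
    [X.Over (Spec (CommRingCat.of k))] [E.Over (Spec (CommRingCat.of k))] {f : X ⟶ E}
    [LocallyOfFinitePresentation f]

theorem range_fib (xk : Spec (CommRingCat.of k) ⟶ Z f) (o : Spec (CommRingCat.of k)) :
    Set.range (fib f xk) = (q f) ⁻¹' {xk o} := by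
  ext y
  constructor
  · rintro ⟨w, rfl⟩
    change q f (fib f xk w) = xk o
    rw [← Scheme.Hom.comp_apply, (isPullback_fib xk).w, Scheme.Hom.comp_apply]
    congr 1
    exact Subsingleton.elim _ _
  · intro hy
    obtain ⟨w, hw, -⟩ := Scheme.exists_preimage_of_isPullback (isPullback_fib xk) y o hy
    exact ⟨w, hw⟩

theorem support_ker_δ [IsSeparated f] : ((δ f).ker.support : Set (Y f)) = Set.range (δ f) := by
  rw [Scheme.Hom.support_ker]
  exact (δ f).isClosedEmbedding.isClosed_range.closure_eq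

theorem compl_support [IsSeparated f] : (δ f).ker.support.compl = Δc f := by
  apply TopologicalSpace.Opens.ext
  change ((δ f).ker.support : Set (Y f))ᶜ = (Set.range (δ f))ᶜ
  rw [support_ker_δ]

theorem isNoetherianZ (h : Setup k f) : IsNoetherian (Z f) := by
  have := h.isNoetherianX
  have h1 : IsLocallyNoetherian (Z f) := isLocallyNoetherian_of_isOpenImmersion f.smoothLocus.ι
  have h2 : CompactSpace (Z f) := isCompact_iff_compactSpace.mp (NoetherianSpace.isCompact _)
  exact {}

theorem exists_aff (h : Setup k f) [IsIntegral X] [IsSeparated f]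
    (z : Z f) (hz : IsClosed ({z} : Set (Z f))) :
    ∃ V : (Z f).Opens, z ∈ V ∧ ∀ W : (Z f).Opens, W ≤ V → IsAffineOpen W →
      IsAffineOpen (q f ⁻¹ᵁ W ⊓ Δc f) := by
  have := h.isProper
  have := h.isNoetherianX
  have : IsNoetherian (Z f) := isNoetherianZ h
  obtain ⟨xk, hc, ⟨o, ho⟩, hk⟩ := exists_point h z hz
  have hF := h.gen.integral _ hk
  have hi : IsClosedImmersion (fib f xk) := MorphismProperty.of_isPullback (isPullback_fib xk).flip hc
  have hr := range_fib xk o
  rw [ho] at hr
  have hqδ : ∀ z, q f (δ f z) = z := fun z => by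
    rw [← Scheme.Hom.comp_apply, δ_q]; rfl
  rw [← compl_support]
  refine exists_nhd (q f) (heff h) z ?_ (isPreirreducible_fibre h z hz) ?_ ⟨δ f z, hqδ z, ?_⟩
  · have h1 := ((q f).fiberHomeo z).isHomeomorph.topologicalKrullDim_eq
    rw [h1, ← hr, ← (fib f xk).isEmbedding.toHomeomorph.isHomeomorph.topologicalKrullDim_eq]
    exact (h.dim_fibre _ hk).le
  · -- a point of the fibre outside of the diagonal
    by_contra hcon
    push Not at hcon
    have h1 : ∀ w, fib f xk w = δ f z := by
      intro w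
      have h2 : fib f xk w ∈ (q f) ⁻¹' {z} := by rw [← hr]; exact ⟨w, rfl⟩
      have h3 := hcon _ h2
      have h4 : fib f xk w ∈ Set.range (δ f) := by rw [← support_ker_δ]; exact h3
      obtain ⟨v, hv⟩ := h4
      have h5 : q f (fib f xk w) = z := h2
      rw [← hv, hqδ] at h5
      rw [← hv, h5]
    have h2 : Subsingleton (pullback f (xk ≫ g f) : Scheme.{u}) :=
      ⟨fun a b => (fib f xk).isEmbedding.injective ((h1 a).trans (h1 b).symm)⟩
    have h3 : topologicalKrullDim (pullback f (xk ≫ g f) : Scheme.{u}) ≤ 0 := by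
      have : Subsingleton (IrreducibleCloseds (pullback f (xk ≫ g f) : Scheme.{u})) := ⟨fun a b => by
        apply IrreducibleCloseds.ext
        ext y
        obtain ⟨a', ha'⟩ := a.isIrreducible.nonempty
        obtain ⟨b', hb'⟩ := b.isIrreducible.nonempty
        exact ⟨fun _ => by rw [Subsingleton.elim y b']; exact hb', fun _ => by
          rw [Subsingleton.elim y a']; exact ha'⟩⟩
      exact Order.krullDim_nonpos_of_subsingleton
    rw [h.dim_fibre _ hk] at h3
    norm_cast at h3
  · change δ f z ∈ ((δ f).ker.support : Set (Y f))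
    rw [support_ker_δ]
    exact ⟨z, rfl⟩

end K857.T2
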