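import Groth.Agent.Biell.K857.FF
import Groth.Agent.Biell.K857.EqnGeo

/-!
# From statements in the function field to statements on sections over an open subscheme
-/

set_option autoImplicit false
universe u

open CategoryTheory CategoryTheory.Limits AlgebraicGeometry TopologicalSpace Opposite
open Groth.Agent.Picfga.RegLocus
open K857.OReg K857.EqnGeo

namespace K857.T2

variable {Y Z : Scheme.{u}} [IsIntegral Y] [IsIntegral Z] (D : Y.Opens)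

/-- sections over an open of an open subscheme as rational functions -/
noncomputable def θ (V : (D : Scheme.{u}).Opens) [Nonempty (D.ι ''ᵁ V)] : Γ(D, V) →+* Y.functionField :=
  (Y.germToFunctionField (D.ι ''ᵁ V)).hom

theorem θ_injective (V : (D : Scheme.{u}).Opens) [Nonempty (D.ι ''ᵁ V)] : Function.Injective (θ D V) :=
  Y.germToFunctionField_injective (D.ι ''ᵁ V)

theorem θ_mem (V : (D : Scheme.{u}).Opens) [Nonempty (D.ι ''ᵁ V)] (t : Γ(D, V)) :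
    θ D V t ∈ O (D.ι ''ᵁ V) := germ_mem (X := Y) (U := D.ι ''ᵁ V) t

theorem θ_res {V V' : (D : Scheme.{u}).Opens} [Nonempty (D.ι ''ᵁ V)] [Nonempty (D.ι ''ᵁ V')] (h : V' ≤ V)
    (t : Γ(D, V)) : θ D V' ((D : Scheme.{u}).presheaf.map (homOfLE h).op t) = θ D V t :=
  germ_rs (X := Y) (U := D.ι ''ᵁ V) (V := D.ι ''ᵁ V') (D.ι.image_mono h) t

theorem exists_θ (V : (D : Scheme.{u}).Opens) [Nonempty (D.ι ''ᵁ V)] {g : Y.functionField}
    (hg : g ∈ O (D.ι ''ᵁ V)) : ∃ t : Γ(D, V), θ D V t = g := exists_sec hg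

theorem θ_app (q : Y ⟶ Z) [IsDominant q] (W : Z.Opens) [Nonempty W]
    [Nonempty (D.ι ''ᵁ ((D.ι ≫ q) ⁻¹ᵁ W))] (r : Γ(Z, W)) :
    θ D ((D.ι ≫ q) ⁻¹ᵁ W) ((D.ι ≫ q).app W r) = ff q (Z.germToFunctionField W r) := by
  have hle : D.ι ''ᵁ ((D.ι ≫ q) ⁻¹ᵁ W) ≤ q ⁻¹ᵁ W := by
    rintro _ ⟨y, hy, rfl⟩
    exact hy
  rw [ff_germ_appLE q W (D.ι ''ᵁ ((D.ι ≫ q) ⁻¹ᵁ W)) hle]
  have h1 : (D.ι ≫ q).app W r = q.appLE W (D.ι ''ᵁ ((D.ι ≫ q) ⁻¹ᵁ W)) hle r := by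
    have h2 : (D.ι ≫ q).app W = q.app W ≫ D.ι.app (q ⁻¹ᵁ W) := Scheme.Hom.comp_app _ _ _
    rw [h2, Scheme.Opens.ι_app]
    rfl
  rw [h1]
  rfl

theorem sec_form (q : Y ⟶ Z) [IsDominant q] {x y : Y.functionField} [Nonempty (D.ι ''ᵁ (⊤ : (D : Scheme.{u}).Opens))]
    {xs ys : Γ(D, ⊤)} (hxs : θ D ⊤ xs = x) (hys : θ D ⊤ ys = y) (W : Z.Opens) [Nonempty W]
    [Nonempty (D.ι ''ᵁ ((D.ι ≫ q) ⁻¹ᵁ W))]
    (hgen : ∀ S : Subring Y.functionField, (∀ r ∈ O W, ff q r ∈ S) → x ∈ S → y ∈ S →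
        O (q ⁻¹ᵁ W ⊓ D) ≤ S)
    (hind : ∀ (n : ℕ) (c d : ℕ → Z.functionField), (∀ i, c i ∈ O W) → (∀ i, d i ∈ O W) →
        ∑ i ∈ Finset.range n, (ff q (c i) * x ^ i + ff q (d i) * (x ^ i * y)) = 0 →
          ∀ i < n, c i = 0 ∧ d i = 0) :
    (∀ S : Subring Γ(D, (D.ι ≫ q) ⁻¹ᵁ W), (∀ r : Γ(Z, W), (D.ι ≫ q).app W r ∈ S) →
        (D : Scheme.{u}).presheaf.map (homOfLE le_top).op xs ∈ S →
        (D : Scheme.{u}).presheaf.map (homOfLE le_top).op ys ∈ S → S = ⊤) ∧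
      (∀ (n : ℕ) (c d : ℕ → Γ(Z, W)), ∑ i ∈ Finset.range n,
          ((D.ι ≫ q).app W (c i) * (D : Scheme.{u}).presheaf.map (homOfLE le_top).op xs ^ i +
            (D.ι ≫ q).app W (d i) * ((D : Scheme.{u}).presheaf.map (homOfLE le_top).op xs ^ i *
              (D : Scheme.{u}).presheaf.map (homOfLE le_top).op ys)) = 0 →
        ∀ i < n, c i = 0 ∧ d i = 0) := by
  have hx : θ D ((D.ι ≫ q) ⁻¹ᵁ W) ((D : Scheme.{u}).presheaf.map (homOfLE le_top).op xs) = x :=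
    (θ_res D le_top xs).trans hxs
  have hy : θ D ((D.ι ≫ q) ⁻¹ᵁ W) ((D : Scheme.{u}).presheaf.map (homOfLE le_top).op ys) = y :=
    (θ_res D le_top ys).trans hys
  constructor
  · intro S hS hSx hSy
    rw [eq_top_iff]
    intro t _
    have h1 := hgen (S.map (θ D ((D.ι ≫ q) ⁻¹ᵁ W))) (fun r hr => by
      obtain ⟨r', rfl⟩ := exists_sec hr
      exact ⟨_, hS r', θ_app D q W r'⟩) ⟨_, hSx, hx⟩ ⟨_, hSy, hy⟩
    have h2 : θ D ((D.ι ≫ q) ⁻¹ᵁ W) t ∈ O (q ⁻¹ᵁ W ⊓ D) := by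
      refine O_mono ?_ (θ_mem D _ t)
      rintro z ⟨hz1, hz2⟩
      exact ⟨⟨z, hz2⟩, hz1, rfl⟩
    obtain ⟨s, hs, e⟩ := h1 h2
    rwa [← θ_injective D _ e]
  · intro n c d h0 i hi
    have h1 := hind n (fun i => Z.germToFunctionField W (c i)) (fun i => Z.germToFunctionField W (d i))
      (fun i => germ_mem _) (fun i => germ_mem _) (by
        have h2 := congrArg (θ D ((D.ι ≫ q) ⁻¹ᵁ W)) h0
        rw [map_sum, map_zero] at h2
        refine Eq.trans (Finset.sum_congr rfl fun i _ => ?_) h2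
        rw [map_add, map_mul, map_mul, map_mul, map_pow, θ_app, θ_app, hx, hy]) i hi
    exact ⟨Z.germToFunctionField_injective W (by rw [map_zero]; exact h1.1),
      Z.germToFunctionField_injective W (by rw [map_zero]; exact h1.2)⟩

end K857.T2
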