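import Groth.Agent.Biell.K857.T2Cov
import Groth.Agent.Biell.K857.T2Sec
import Groth.Agent.Biell.K665.NodeB

/-!
# The complement of the diagonal is a product
-/

set_option autoImplicit false
universe u

open CategoryTheory CategoryTheory.Limits AlgebraicGeometry TopologicalSpace Opposite
open Groth.Agent.Picfga.RegLocus
open K857.OReg K857.WeiField K857.EqnGeo K857.LD K857.Global K857.Square

namespace K857.T2

section

variable {k : Type u} [Field k] {Y Z : Scheme.{u}} [IsIntegral Y] [IsIntegral Z] (D : Y.Opens)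

omit [IsIntegral Y] in
theorem nonempty_image_top [Nonempty D] : Nonempty (D.ι ''ᵁ (⊤ : (D : Scheme.{u}).Opens)) := by
  rw [Scheme.Opens.ι_image_top]
  infer_instance

/-- a section over `D` as a global section of the open subscheme -/
noncomputable def gsec (t : Γ(Y, D)) : Γ(D, ⊤) := D.ι.appLE D ⊤ (by simp) t

theorem θ_gsec [Nonempty D] [Nonempty (D.ι ''ᵁ (⊤ : (D : Scheme.{u}).Opens))] (t : Γ(Y, D)) :
    θ D ⊤ (gsec D t) = Y.germToFunctionField D t := by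
  have h1 : gsec D t = (Y.presheaf.map (homOfLE (D.ι_image_top.le)).op) t := by
    change D.ι.appLE D ⊤ _ t = _
    rw [Scheme.Opens.ι_appLE]
    rfl
  rw [h1]
  exact germ_rs (U := D) (V := D.ι ''ᵁ ⊤) D.ι_image_top.le t

theorem θ_cst [Nonempty (D.ι ''ᵁ (⊤ : (D : Scheme.{u}).Opens))] (s : Y ⟶ Spec (CommRingCat.of k)) (c : k) :
    θ D ⊤ ((D.ι ≫ s).appTop ((Scheme.ΓSpecIso (CommRingCat.of k)).inv c)) = cst s c := by
  rw [cst_germ s (D.ι ''ᵁ ⊤)]
  rfl

theorem isAffineOpen_of_inf (q : Y ⟶ Z) {W : Z.Opens} (h : IsAffineOpen (q ⁻¹ᵁ W ⊓ D)) :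
    IsAffineOpen ((D.ι ≫ q) ⁻¹ᵁ W) := by
  have h1 := h.preimage_of_isOpenImmersion D.ι (by
    rw [Scheme.Opens.opensRange_ι]; exact inf_le_right)
  have h2 : D.ι ⁻¹ᵁ (q ⁻¹ᵁ W ⊓ D) = (D.ι ≫ q) ⁻¹ᵁ W := by
    ext y
    exact ⟨fun hy => hy.1, fun hy => ⟨hy, y.2⟩⟩
  rwa [h2] at h1

end

variable {k : Type u} [Field k] [IsAlgClosed k] {X E : Scheme.{u}}
    [X.Over (Spec (CommRingCat.of k))] [E.Over (Spec (CommRingCat.of k))] {f : X ⟶ E}
    [LocallyOfFinitePresentation f]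

theorem exists_chi (h : Setup k f) (h6 : (6 : k) ≠ 0) [IsIntegral X] [IsIntegral E]
    [IsIntegral (Z f)]
    [IsIntegral (Y f)] [IsDominant f] [IsDominant (p f)] [IsDominant (q f)] [IsSeparated f]
    [QuasiSeparatedSpace X] [IsDominant (g f)]
    {A A₁ : E.Opens} {V V' V₁ V₁' : X.Opens} {e e₁ : X.functionField}
    (hT : Atlas f A A₁ V V' V₁ V₁' e e₁ 1) {a b : k} [Nonempty (Δc f)] (ax ay : Γ(Y f, Δc f))
    (hG : IsGlob f (g f) (p f) (q f) (δ f) A V V' e (Δc f) ((Y f).germToFunctionField (Δc f) ax)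
      ((Y f).germToFunctionField (Δc f) ay) (cst (g f ≫ (E ↘ Spec (CommRingCat.of k))) a)
        (cst (g f ≫ (E ↘ Spec (CommRingCat.of k))) b))
    (hG₁ : IsGlob f (g f) (p f) (q f) (δ f) A₁ V₁ V₁' e₁ (Δc f) ((Y f).germToFunctionField (Δc f) ax)
      ((Y f).germToFunctionField (Δc f) ay)
        (cst (g f ≫ (E ↘ Spec (CommRingCat.of k))) a) (cst (g f ≫ (E ↘ Spec (CommRingCat.of k))) b)) :
    ∃ χ : (Δc f : Scheme.{u}) ⟶ Spec (CommRingCat.of (K665.NodeB.W a b).CoordinateRing),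
      IsPullback χ ((Δc f).ι ≫ q f)
        (Spec.map (CommRingCat.ofHom (algebraMap k (K665.NodeB.W a b).CoordinateRing)))
        (g f ≫ (E ↘ Spec (CommRingCat.of k))) ∧
      χ.appTop ((Scheme.ΓSpecIso (CommRingCat.of (K665.NodeB.W a b).CoordinateRing)).inv
        (algebraMap (Polynomial k) (K665.NodeB.W a b).CoordinateRing Polynomial.X)) = gsec (Δc f) ax ∧
      χ.appTop ((Scheme.ΓSpecIso (CommRingCat.of (K665.NodeB.W a b).CoordinateRing)).inv
        (WeierstrassCurve.Affine.CoordinateRing.mk (K665.NodeB.W a b) Polynomial.X)) =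
          gsec (Δc f) ay := by
  have n0 := nonempty_image_top (Δc f)
  refine K665.NodeB.isPullback k (g f ≫ (E ↘ Spec (CommRingCat.of k))) ((Δc f).ι ≫ q f) a b
    (gsec (Δc f) ax) (gsec (Δc f) ay) ?_ ?_
  · apply θ_injective (Δc f) ⊤
    rw [Category.assoc]
    rw [map_add, map_add, map_pow, map_pow, map_mul, θ_gsec, θ_gsec, θ_cst, θ_cst]
    have h1 := hG.eq
    rwa [ff_cst, ff_cst] at h1
  · intro z
    obtain ⟨W, hzW, hW, haff, hgen, hind⟩ := exists_cov h h6 hT hG hG₁ z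
    have hWne : Nonempty W := ⟨⟨z, hzW⟩⟩
    have n1 : Nonempty ((Δc f).ι ''ᵁ (((Δc f).ι ≫ q f) ⁻¹ᵁ W)) := by
      have n2 := nonempty_preimage (q f) W
      have h1 := genericPoint_mem (q f ⁻¹ᵁ W)
      have h2 := genericPoint_mem (Δc f)
      exact ⟨⟨genericPoint (Y f), ⟨genericPoint (Y f), h2⟩, h1, rfl⟩⟩
    obtain ⟨k1, k2⟩ := sec_form (Δc f) (q f) (θ_gsec (Δc f) ax) (θ_gsec (Δc f) ay) W hgen hind
    exact ⟨W, hzW, hW, isAffineOpen_of_inf (Δc f) (q f) haff, k1, k2⟩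

end K857.T2
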