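import Groth.Agent.Biell.K857.WeiField

/-!
# Independence and generation for short Weierstrass coordinates
-/

set_option autoImplicit false
universe u v

namespace K857.WeiAlg

open Finset

variable {R : Type u} [CommRing R] {B₀ B₁ T : Type v} [CommRing B₀] [CommRing B₁] [CommRing T]
  [Algebra R B₀] [Algebra R B₁] [Algebra R T]
  {i₀ : B₀ →ₐ[R] T} {i₁ : B₁ →ₐ[R] T} {z : B₁} {w : T} {ρ : B₁ →ₐ[R] R}

/-- partial sums -/
def ps (x y : B₀) (c d : ℕ → R) (n : ℕ) : B₀ := ∑ i ∈ range n, (c i • x ^ i + d i • (x ^ i * y))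

theorem ps_succ (x y : B₀) (c d : ℕ → R) (n : ℕ) :
    ps x y c d (n + 1) = ps x y c d n + (c n • x ^ n + d n • (x ^ n * y)) := sum_range_succ _ _

theorem ps_zero (x y : B₀) (c d : ℕ → R) : ps x y c d 0 = 0 := sum_range_zero _

theorem Pole.zero (n : ℕ) : Pole i₀ i₁ z ρ n 0 0 := ⟨0, by simp, by simp⟩

theorem pole_ps (H : WD i₀ i₁ z w ρ) {x y : B₀} (hx : Pole i₀ i₁ z ρ 2 x 1)
    (hy : Pole i₀ i₁ z ρ 3 y 1) (c d : ℕ → R) (n : ℕ) :
    Pole i₀ i₁ z ρ (2 * n + 3) (ps x y c d (n + 1)) (d n) := by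
  have hxn : ∀ n : ℕ, Pole i₀ i₁ z ρ (2 * n) (c n • x ^ n) (c n) := fun n => by
    simpa using (hx.pow n).smul (c n)
  have hyn : ∀ n : ℕ, Pole i₀ i₁ z ρ (2 * n + 3) (d n • (x ^ n * y)) (d n) := fun n => by
    have := ((hx.pow n).mul hy).smul (d n)
    rwa [one_pow, mul_one, mul_one] at this
  induction n with
  | zero =>
    rw [ps_succ, ps_zero, zero_add]
    simpa using ((hxn 0).mono H (show 2 * 0 < 2 * 0 + 3 by omega)).add (hyn 0)
  | succ n ih =>
    rw [ps_succ]
    simpa using (ih.mono H (show 2 * n + 3 < 2 * (n + 1) + 3 by omega)).add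
      (((hxn (n + 1)).mono H (show 2 * (n + 1) < 2 * (n + 1) + 3 by omega)).add (hyn (n + 1)))

theorem indep (H : WD i₀ i₁ z w ρ) {x y : B₀} (hx : Pole i₀ i₁ z ρ 2 x 1)
    (hy : Pole i₀ i₁ z ρ 3 y 1) (n : ℕ) (c d : ℕ → R) (h0 : ps x y c d n = 0) :
    ∀ i < n, c i = 0 ∧ d i = 0 := by
  have hxn : ∀ n : ℕ, Pole i₀ i₁ z ρ (2 * n) (c n • x ^ n) (c n) := fun n => by
    simpa using (hx.pow n).smul (c n)
  induction n with
  | zero => intro i hi; omega
  | succ n ih =>
    -- the coefficient `d n`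
    have hdn : d n = 0 := Pole.unique H (h0 ▸ pole_ps H hx hy c d n) (Pole.zero _)
    have h1 : ps x y c d n + c n • x ^ n = 0 := by
      rw [ps_succ, hdn, zero_smul, add_zero] at h0
      exact h0
    -- `ps n` has pole of order less than `2 n`
    have h2 : c n = 0 := by
      rcases n with _ | m
      · rw [ps_zero, zero_add] at h1
        exact Pole.unique H (h1 ▸ hxn 0) (Pole.zero _)
      · have h3 := (pole_ps H hx hy c d m).add
          ((hxn (m + 1)).mono H (show 2 * (m + 1) < 2 * m + 3 by omega))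
        rw [h1, add_zero] at h3
        have hdm : d m = 0 := Pole.unique H h3 (Pole.zero _)
        have h4 : Pole i₀ i₁ z ρ (2 * (m + 1)) (ps x y c d (m + 1)) 0 := by
          rw [ps_succ, hdm, zero_smul, add_zero]
          have h5 := (hxn m).mono H (show 2 * m < 2 * (m + 1) by omega)
          rcases m with _ | l
          · rw [ps_zero]
            have h6 : Pole i₀ i₁ z ρ (2 * (0 + 1)) (0 + c 0 • x ^ 0) 0 := by
              rw [zero_add (c 0 • x ^ 0)]; exact h5
            exact h6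
          · have h6 := ((pole_ps H hx hy c d l).mono H (show 2 * l + 3 < 2 * (l + 1 + 1) by omega)).add h5
            rwa [add_zero] at h6
        have h7 := h4.add (hxn (m + 1))
        rw [h1, zero_add] at h7
        exact Pole.unique H h7 (Pole.zero _)
    have h8 : ps x y c d n = 0 := by rwa [h2, zero_smul, add_zero] at h1
    intro i hi
    rcases Nat.lt_succ_iff_lt_or_eq.mp hi with hi | rfl
    · exact ih h8 i hi
    · exact ⟨h2, hdn⟩

end K857.WeiAlg

namespace K857.WeiField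

open CategoryTheory CategoryTheory.Limits AlgebraicGeometry TopologicalSpace Opposite
open Groth.Agent.Picfga.RegLocus Groth.Agent
open K857.OReg K857.WeiAlg

variable {Y : Scheme.{u}} [IsIntegral Y] {κ : Type u} [Field κ] {ι : κ →+* Y.functionField}
  {R : Subring κ} {D U U' V V' : Y.Opens} {e z : Y.functionField} {ρ : O U' →+* κ}

theorem Short.gen (hC : IsChart ι R D V V' e) (hE : IsEqn ι R D U U' z ρ)
    (hrel : Rel U U' V V' z⁻¹ e) {x y : Y.functionField} {a b : κ} (h : Short ι R U ρ z x y a b)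
    (S : Subring Y.functionField) (hS : ∀ r ∈ R, ι r ∈ S) (hx : x ∈ S) (hy : y ∈ S) : O U ≤ S := by
  let _ := alg ι R
  have H := wd hC hE hrel
  have h1 := isShort hC hE h
  let S' : Subalgebra R (sub ι R hC.mem (U := U) (hE.cover ▸ le_sup_left)) :=
    { carrier := {g | g.1 ∈ S}
      mul_mem' := fun ha hb => S.mul_mem ha hb
      add_mem' := fun ha hb => S.add_mem ha hb
      algebraMap_mem' := fun r => hS r.1 r.2 }
  have h2 := adjoin_eq_top H h1.px h1.py S' hx hy
  intro g hg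
  have h3 : (⟨g, hg⟩ : sub ι R hC.mem (U := U) (hE.cover ▸ le_sup_left)) ∈ S' := by
    rw [h2]; trivial
  exact h3

theorem Short.indep (hC : IsChart ι R D V V' e) (hE : IsEqn ι R D U U' z ρ)
    (hrel : Rel U U' V V' z⁻¹ e) {x y : Y.functionField} {a b : κ} (h : Short ι R U ρ z x y a b)
    (n : ℕ) (c d : ℕ → R)
    (h0 : ∑ i ∈ Finset.range n, (ι (c i) * x ^ i + ι (d i) * (x ^ i * y)) = 0) :
    ∀ i < n, c i = 0 ∧ d i = 0 := by
  let _ := alg ι R
  have H := wd hC hE hrel
  have h1 := isShort hC hE h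
  refine WeiAlg.indep H h1.px h1.py n c d (Subtype.ext ?_)
  unfold ps
  rw [AddSubmonoidClass.coe_finsetSum]
  refine Eq.trans (Finset.sum_congr rfl fun i _ => ?_) h0
  have e1 : ∀ (r : R) (t : sub ι R hC.mem (U := U) (hE.cover ▸ le_sup_left)),
      (r • t).1 = ι r * t.1 := fun r t => by
    change r • (t.1 : Y.functionField) = _
    rw [Algebra.smul_def]; rfl
  change (c i • _ : sub ι R hC.mem (U := U) (hE.cover ▸ le_sup_left)).1 + (d i • _ :
    sub ι R hC.mem (U := U) (hE.cover ▸ le_sup_left)).1 = _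
  rw [e1, e1]
  rfl

end K857.WeiField
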