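import Groth.Agent.Biell.K857.T2Smooth
import Groth.Agent.Biell.K857.T2Aff
import Groth.Agent.Biell.K857.WeiIndep

/-!
# Local generation and independence for the global Weierstrass coordinates
-/

set_option autoImplicit false
universe u

open CategoryTheory CategoryTheory.Limits AlgebraicGeometry TopologicalSpace Opposite
open Groth.Agent.Picfga.RegLocus
open K857.OReg K857.WeiField K857.EqnGeo K857.LD K857.Global K857.Square

namespace K857.T2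

variable {k : Type u} [Field k] [IsAlgClosed k] {X E : Scheme.{u}}
    [X.Over (Spec (CommRingCat.of k))] [E.Over (Spec (CommRingCat.of k))] {f : X ⟶ E}
    [LocallyOfFinitePresentation f]

theorem exists_cov_closed (h : Setup k f) [IsIntegral X] [IsIntegral E]
    [IsIntegral (Z f)]
    [IsIntegral (Y f)] [IsDominant f] [IsDominant (p f)] [IsDominant (q f)] [IsSeparated f]
    [QuasiSeparatedSpace X] [IsDominant (g f)]
    {A : E.Opens} {V V' : X.Opens} {e : X.functionField}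
    (hS : Sit f (g f) (p f) (q f) (δ f) A V V' e (Δc f))
    {x y : (Y f).functionField} {a b : (Z f).functionField}
    (hG : IsGlob f (g f) (p f) (q f) (δ f) A V V' e (Δc f) x y a b)
    (z₀ : Z f) (hz₀ : IsClosed ({z₀} : Set (Z f))) (hz₀A : z₀ ∈ g f ⁻¹ᵁ A) :
    ∃ W : (Z f).Opens, z₀ ∈ W ∧ IsAffineOpen W ∧ IsAffineOpen (q f ⁻¹ᵁ W ⊓ Δc f) ∧
      (∀ S : Subring (Y f).functionField, (∀ r ∈ O W, ff (q f) r ∈ S) → x ∈ S → y ∈ S →
        O (q f ⁻¹ᵁ W ⊓ Δc f) ≤ S) ∧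
      (∀ (n : ℕ) (c d : ℕ → (Z f).functionField), (∀ i, c i ∈ O W) → (∀ i, d i ∈ O W) →
        ∑ i ∈ Finset.range n, (ff (q f) (c i) * x ^ i + ff (q f) (d i) * (x ^ i * y)) = 0 →
          ∀ i < n, c i = 0 ∧ d i = 0) := by
  have := h.flat
  obtain ⟨T, hzT, hT⟩ := exists_aff h z₀ hz₀
  obtain ⟨W₀, U₀, z₁, hzW₀, hWA₀, hN₀⟩ := exists_nor hS hz₀A (unitAt' h hS z₀ hz₀)
  obtain ⟨z₁', hz₁', -⟩ := hN₀.dat
  obtain ⟨W, U, hW, hU, hxW, hpre, hle, hWW, hUU⟩ := LD.exists_nhd hS.hδ z₀ (W₀ ⊓ T)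
    ⟨hzW₀, hzT⟩ U₀ (by rw [← hz₁'.pre] at hzW₀; exact hzW₀)
  have hWne : Nonempty W := ⟨⟨_, hxW⟩⟩
  have hUx : δ f z₀ ∈ U := by rw [← hpre] at hxW; exact hxW
  have hUne : Nonempty U := ⟨⟨_, hUx⟩⟩
  have hUne' : Nonempty (δ f ⁻¹ᵁ U : (Z f).Opens) := ⟨⟨_, hUx⟩⟩
  have hN := hN₀.restrict hW hU hpre hle hWne hUne hUU (hWW.trans inf_le_left)
  have hWA : W ≤ g f ⁻¹ᵁ A := (hWW.trans inf_le_left).trans hWA₀
  have hs := hG.short W U z₁ hWA hN
  have hE := hN.isEqn hS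
  have hC := chart_at hS hW hWne hWA
  refine ⟨W, hxW, hW, hT W (hWW.trans inf_le_right) hW, ?_, ?_⟩
  · intro S hS hx hy
    exact Short.gen hC hE hN.rel hs S hS hx hy
  · intro n c d hc hd h0 i hi
    obtain ⟨h1, h2⟩ := Short.indep hC hE hN.rel hs n (fun i => ⟨c i, hc i⟩) (fun i => ⟨d i, hd i⟩)
      h0 i hi
    exact ⟨congrArg Subtype.val h1, congrArg Subtype.val h2⟩

theorem exists_cov (h : Setup k f) (h6 : (6 : k) ≠ 0) [IsIntegral X] [IsIntegral E]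
    [IsIntegral (Z f)]
    [IsIntegral (Y f)] [IsDominant f] [IsDominant (p f)] [IsDominant (q f)] [IsSeparated f]
    [QuasiSeparatedSpace X] [IsDominant (g f)]
    {A A₁ : E.Opens} {V V' V₁ V₁' : X.Opens} {e e₁ : X.functionField}
    (hT : Atlas f A A₁ V V' V₁ V₁' e e₁ 1) {x y : (Y f).functionField} {a b : (Z f).functionField}
    (hG : IsGlob f (g f) (p f) (q f) (δ f) A V V' e (Δc f) x y a b)
    (hG₁ : IsGlob f (g f) (p f) (q f) (δ f) A₁ V₁ V₁' e₁ (Δc f) x y a b) (z : Z f) :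
    ∃ W : (Z f).Opens, z ∈ W ∧ IsAffineOpen W ∧ IsAffineOpen (q f ⁻¹ᵁ W ⊓ Δc f) ∧
      (∀ S : Subring (Y f).functionField, (∀ r ∈ O W, ff (q f) r ∈ S) → x ∈ S → y ∈ S →
        O (q f ⁻¹ᵁ W ⊓ Δc f) ≤ S) ∧
      (∀ (n : ℕ) (c d : ℕ → (Z f).functionField), (∀ i, c i ∈ O W) → (∀ i, d i ∈ O W) →
        ∑ i ∈ Finset.range n, (ff (q f) (c i) * x ^ i + ff (q f) (d i) * (x ^ i * y)) = 0 →
          ∀ i < n, c i = 0 ∧ d i = 0) := by
  have := h.prop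
  have hS := sit h h6 hT.affA hT.chart hT.affV
  have hS₁ := sit h h6 hT.affA₁ hT.chart₁ hT.affV₁
  have hjZ : JacobsonSpace (Z f) :=
    LocallyOfFiniteType.jacobsonSpace (f.smoothLocus.ι ≫ (X ↘ Spec (CommRingCat.of k)))
  obtain ⟨z₀, hz1, hz2⟩ := nonempty_inter_closedPoints (Z := closure ({z} : Set (Z f)))
    ⟨z, subset_closure rfl⟩ isClosed_closure.isLocallyClosed
  have hsp : z ⤳ z₀ := specializes_iff_mem_closure.2 hz1
  have hmem : g f z₀ ∈ A ⊔ A₁ := by rw [hT.cover]; trivial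
  rcases hmem with hA | hA
  · obtain ⟨W, h1, h2⟩ := exists_cov_closed h hS hG z₀ hz2 hA
    exact ⟨W, hsp.mem_open W.2 h1, h2⟩
  · obtain ⟨W, h1, h2⟩ := exists_cov_closed h hS₁ hG₁ z₀ hz2 hA
    exact ⟨W, hsp.mem_open W.2 h1, h2⟩

end K857.T2
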