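import Groth.Agent.Biell.K857.T2Glob

/-!
# Smoothness of the fibration when the Weierstrass coefficients are constant
-/

set_option autoImplicit false
universe u

open CategoryTheory CategoryTheory.Limits AlgebraicGeometry TopologicalSpace
open Groth.Agent.Picfga.RegLocus
open K857.OReg K857.WeiField K857.EqnGeo K857.LD K857.Global K857.Square

namespace K857.T2

variable {k : Type u} [Field k] [IsAlgClosed k] {X E : Scheme.{u}}
    [X.Over (Spec (CommRingCat.of k))] [E.Over (Spec (CommRingCat.of k))] {f : X ⟶ E}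
    [LocallyOfFinitePresentation f]

theorem smooth_fibre_at (h : Setup k f) (h6 : (6 : k) ≠ 0) [IsIntegral X] [IsIntegral E]
    [IsIntegral (Z f)]
    [IsIntegral (Y f)] [IsDominant f] [IsDominant (p f)] [IsDominant (q f)] [IsSeparated f]
    [QuasiSeparatedSpace X] [IsDominant (g f)]
    {A : E.Opens} {V V' : X.Opens} {e : X.functionField}
    (hS : Sit f (g f) (p f) (q f) (δ f) A V V' e (Δc f))
    {x y : (Y f).functionField} {a b : (Z f).functionField}
    (hG : IsGlob f (g f) (p f) (q f) (δ f) A V V' e (Δc f) x y a b) (hAne : Nonempty A)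
    {z₀ : Z f} (hz₀ : IsClosed ({z₀} : Set (Z f))) (hz₀A : z₀ ∈ g f ⁻¹ᵁ A)
    (hz₀D : z₀ ∈ reg (4 * a ^ 3 + 27 * b ^ 2)⁻¹) :
    ∀ w : X, f w = g f z₀ → w ∈ f.smoothLocus := by
  have hlftZ := lftZ h
  have hflat := h.flat
  have hprop := h.isProper
  have hj : JacobsonSpace (Z f) :=
    LocallyOfFiniteType.jacobsonSpace (f.smoothLocus.ι ≫ (X ↘ Spec (CommRingCat.of k)))
  set D := 4 * a ^ 3 + 27 * b ^ 2 with hD
  have hD0 : D ≠ 0 := Disc.disc_ne_zero hS (fun y => (stalkY h y).2) hG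
  have hgA : Nonempty (g f ⁻¹ᵁ A : (Z f).Opens) := nonempty_preimage (g f) A
  obtain ⟨W₀, U₀, z₁, hzW₀, hWA₀, hN₀⟩ := exists_nor hS hz₀A (unitAt' h hS z₀ hz₀)
  obtain ⟨z₁', hz₁', -⟩ := hN₀.dat
  obtain ⟨W, U, hW, hU, hxW, hpre, hle, hWW, hUU⟩ := exists_nhd hS.hδ z₀ (W₀ ⊓ reg D⁻¹)
    ⟨hzW₀, hz₀D⟩ U₀ (by rw [← hz₁'.pre] at hzW₀; exact hzW₀)
  have hWne : Nonempty W := ⟨⟨_, hxW⟩⟩
  have hUx : δ f z₀ ∈ U := by rw [← hpre] at hxW; exact hxW
  have hUne : Nonempty U := ⟨⟨_, hUx⟩⟩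
  have hUne' : Nonempty (δ f ⁻¹ᵁ U : (Z f).Opens) := ⟨⟨_, hUx⟩⟩
  have hN := hN₀.restrict hW hU hpre hle hWne hUne hUU (hWW.trans inf_le_left)
  have hWA : W ≤ g f ⁻¹ᵁ A := (hWW.trans inf_le_left).trans hWA₀
  have hs := hG.short W U z₁ hWA hN
  have hE := hN.isEqn hS
  obtain ⟨zz, hDat, hzz⟩ := hN.dat
  have hzz' : (Y f).germToFunctionField U zz = z₁ := hzz
  clear hzz
  rw [← hzz'] at hs hE
  -- the fibre
  obtain ⟨xk, hx1, hx2, hx3⟩ := exists_point h z₀ hz₀
  have hFint := h.gen.integral _ hx3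
  have hH := h.not_subsingleton_H1 _ hx3
  have fd := FibData.exists_fd hS xk (fib f xk) _ (isPullback_fib xk) z₀ hx2 hH hDat hxW
  have haff := h.haff _ hx3 _ fd.ne_top
  have hinv := ClosedPt.inv_mem (pullback.snd f (xk ≫ g f))
  obtain ⟨x', y', a', b', hco, ha', hb', heq, hdisc⟩ := FibData.exists_co fd hE hs hD0
    (mem_O.mpr (hWW.trans inf_le_right)) hinv haff hH
  have n0 := fd.n0
  have hFN : IsLocallyNoetherian (pullback f (xk ≫ g f) : Scheme.{u}) :=
    LocallyOfFiniteType.isLocallyNoetherian (pullback.snd f (xk ≫ g f))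
  have h2 : (2 : (pullback f (xk ≫ g f) : Scheme.{u}).functionField) ≠ 0 := by
    obtain ⟨s, -, hs6⟩ := exists_sixth (IsUnit.mk0 _ h6) (pullback.snd f (xk ≫ g f))
    intro h0
    have : (6 : (pullback f (xk ≫ g f) : Scheme.{u}).functionField) = 3 * 2 := by norm_num
    rw [this, h0, mul_zero, zero_mul] at hs6
    exact zero_ne_one hs6
  have hreg : ∀ w : (pullback f (xk ≫ g f) : Scheme.{u}),
      IsClosed ({w} : Set (pullback f (xk ≫ g f) : Scheme.{u})) →
      IsRegularLocalRing ((pullback f (xk ≫ g f)).presheaf.stalk w) := by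
    intro w hw
    by_cases hwU : w ∈ fib f xk ⁻¹ᵁ (q f ⁻¹ᵁ W ⊓ Δc f)
    · exact FibReg.isRegular haff hco hinv ha' hb' heq hdisc h2 hwU
        (ClosedPt.exists_value (pullback.snd f (xk ≫ g f)) hwU hw)
    · -- the point of the section
      have h3 : fib f xk w ∈ Set.range (δ f) := by
        by_contra hr
        apply hwU
        refine ⟨?_, hr⟩
        have : w ∈ fib f xk ⁻¹ᵁ (q f ⁻¹ᵁ W) := by rw [fd.top]; trivial
        exact this
      obtain ⟨v, hv⟩ := h3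
      have h4 : pullback.fst f (xk ≫ g f) w ∈ f.smoothLocus := by
        have e1 : pullback.fst f (xk ≫ g f) = fib f xk ≫ p f := (pullback.lift_fst _ _ _).symm
        rw [e1, Scheme.Hom.comp_apply, ← hv, ← Scheme.Hom.comp_apply, δ_p]
        exact v.2
      rw [← Groth.Agent.VarietyA.SmoothReg.mem_smoothLocus_iff_of_perfectField
        (pullback.snd f (xk ≫ g f)) w]
      exact (Groth.Agent.Smoothlim.SmoothLocusBC.mem_smoothLocus_iff_of_isPullback
        (IsPullback.of_hasPullback f (xk ≫ g f)) w (Or.inl (Flat.stalkMap f _))).2 h4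
  intro w hw
  obtain ⟨o, ho⟩ := hx2
  obtain ⟨w', hw', -⟩ := Scheme.Pullback.exists_preimage_pullback (f := f) (g := xk ≫ g f) w o (by
    rw [hw, ← ho]; rfl)
  rw [← hw']
  exact mem_smoothLocus_of_regular h _ hreg w'


theorem mem_reg_inv_cst {F : Scheme.{u}} [IsIntegral F] (s : F ⟶ Spec (CommRingCat.of k)) (a b : k) (z : F) :
    z ∈ reg (4 * cst s a ^ 3 + 27 * cst s b ^ 2)⁻¹ := by
  have h1 : (4 * cst s a ^ 3 + 27 * cst s b ^ 2)⁻¹ = cst s (4 * a ^ 3 + 27 * b ^ 2)⁻¹ := by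
    rw [map_inv₀]
    simp only [map_add, map_mul, map_pow, map_ofNat]
  rw [h1]
  exact mem_O.mp (cst_mem s _ ⊤) (show z ∈ (⊤ : F.Opens) from trivial)

theorem smoothLocus_eq_top (h : Setup k f) (h6 : (6 : k) ≠ 0) [IsIntegral X] [IsIntegral E]
    [IsIntegral (Z f)]
    [IsIntegral (Y f)] [IsDominant f] [IsDominant (p f)] [IsDominant (q f)] [IsSeparated f]
    [QuasiSeparatedSpace X] [IsDominant (g f)]
    {A A₁ : E.Opens} {V V' V₁ V₁' : X.Opens} {e e₁ : X.functionField}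
    (hT : Atlas f A A₁ V V' V₁ V₁' e e₁ 1) {x y : (Y f).functionField} {a b : k}
    (hG : IsGlob f (g f) (p f) (q f) (δ f) A V V' e (Δc f) x y (cst (g f ≫ (E ↘ Spec (CommRingCat.of k))) a)
        (cst (g f ≫ (E ↘ Spec (CommRingCat.of k))) b))
    (hG₁ : IsGlob f (g f) (p f) (q f) (δ f) A₁ V₁ V₁' e₁ (Δc f) x y
        (cst (g f ≫ (E ↘ Spec (CommRingCat.of k))) a) (cst (g f ≫ (E ↘ Spec (CommRingCat.of k))) b)) :
    f.smoothLocus = ⊤ := by
  have := h.fibr.proper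
  have := h.prop
  have hprop := h.isProper
  have := lftZ h
  have hS := sit h h6 hT.affA hT.chart hT.affV
  have hS₁ := sit h h6 hT.affA₁ hT.chart₁ hT.affV₁
  rw [eq_top_iff]
  intro w₀ _
  by_contra hcon
  have hj : JacobsonSpace X := LocallyOfFiniteType.jacobsonSpace (X ↘ Spec (CommRingCat.of k))
  have hjZ : JacobsonSpace (Z f) :=
    LocallyOfFiniteType.jacobsonSpace (f.smoothLocus.ι ≫ (X ↘ Spec (CommRingCat.of k)))
  obtain ⟨w, hw1, hw2⟩ := nonempty_inter_closedPoints (Z := ((f.smoothLocus : Set X))ᶜ) ⟨w₀, hcon⟩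
    f.smoothLocus.2.isClosed_compl.isLocallyClosed
  apply hw1
  have hcl : IsClosed ({f w} : Set E) := by
    have h1 := f.isClosedMap _ hw2
    rwa [Set.image_singleton] at h1
  -- a closed point of `Z` over `f w`
  let xk := pointOfClosedPoint (E ↘ Spec (CommRingCat.of k)) (f w) hcl
  obtain ⟨w', hw'⟩ := h.exists_mem_smoothLocus xk (pointOfClosedPoint_comp _ _ _)
  have hgw' : g f ⟨pullback.fst f xk w', hw'⟩ = f w := by
    change f (pullback.fst f xk w') = f w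
    rw [← Scheme.Hom.comp_apply, pullback.condition, Scheme.Hom.comp_apply]
    exact pointOfClosedPoint_apply _ _ _ _
  obtain ⟨z₀, hz1, hz2⟩ := nonempty_inter_closedPoints (Z := (g f) ⁻¹' {f w}) ⟨_, hgw'⟩
    (hcl.preimage (g f).continuous).isLocallyClosed
  have hz1' : g f z₀ = f w := hz1
  have hmem : f w ∈ A ⊔ A₁ := by rw [hT.cover]; trivial
  rcases hmem with hA | hA
  · exact smooth_fibre_at h h6 hS hG hT.neA (z₀ := z₀) hz2
      (by change g f z₀ ∈ A; rw [hz1']; exact hA) (mem_reg_inv_cst _ _ _ _) w hz1'.symm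
  · exact smooth_fibre_at h h6 hS₁ hG₁ hT.neA₁ (z₀ := z₀) hz2
      (by change g f z₀ ∈ A₁; rw [hz1']; exact hA) (mem_reg_inv_cst _ _ _ _) w hz1'.symm

end K857.T2
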