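import Groth.Agent.Biell.K857.T2Sep
import Groth.Agent.Biell.K857.T2Smooth

/-!
# Separation of points of the fibre square by the first projection and the Weierstrass coordinates
-/

set_option autoImplicit false
universe u

open CategoryTheory CategoryTheory.Limits AlgebraicGeometry TopologicalSpace Opposite
open Groth.Agent.Picfga.RegLocus
open K857.OReg K857.WeiField K857.EqnGeo K857.LD K857.Global K857.Square

namespace K857.T2

variable {k : Type u} [Field k] [IsAlgClosed k] {X E : Scheme.{u}}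
    [X.Over (Spec (CommRingCat.of k))] [E.Over (Spec (CommRingCat.of k))] {f : X ⟶ E}
    [LocallyOfFinitePresentation f]

theorem isIso_ι (htop : f.smoothLocus = ⊤) : IsIso f.smoothLocus.ι := by
  rw [htop]
  exact inferInstanceAs (IsIso (Scheme.topIso X).hom)

omit [IsAlgClosed k] [X.Over (Spec (CommRingCat.of k))] [E.Over (Spec (CommRingCat.of k))] in
/-- the fibre of the first projection over a point -/
theorem isPullback_fst [IsIso f.smoothLocus.ι] (P : Spec (CommRingCat.of k) ⟶ X) :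
    IsPullback (pullback.lift (pullback.snd f (P ≫ f) ≫ P) (pullback.fst f (P ≫ f) ≫ inv f.smoothLocus.ι)
        (by simp [pullback.condition]) : pullback f (P ≫ f) ⟶ Y f)
      (pullback.snd f (P ≫ f)) (p f ≫ inv f.smoothLocus.ι) (P ≫ inv f.smoothLocus.ι) := by
  have h1 : IsPullback (inv f.smoothLocus.ι) f (g f) (𝟙 E) := IsPullback.of_horiz_isIso ⟨by simp⟩
  have h2 := (IsPullback.of_hasPullback f (P ≫ f)).paste_horiz h1
  rw [Category.comp_id] at h2
  have h3 : IsPullback (pullback.lift (pullback.snd f (P ≫ f) ≫ P)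
      (pullback.fst f (P ≫ f) ≫ inv f.smoothLocus.ι) (by simp [pullback.condition]) :
        pullback f (P ≫ f) ⟶ Y f) (pullback.snd f (P ≫ f)) (p f) P := by
    refine IsPullback.of_right (h₁₂ := q f) (v₁₃ := g f) (h₂₂ := f) ?_ (pullback.lift_fst _ _ _)
      (IsPullback.of_hasPullback f (g f)).flip
    have e1 : (pullback.lift (pullback.snd f (P ≫ f) ≫ P)
      (pullback.fst f (P ≫ f) ≫ inv f.smoothLocus.ι) (by simp [pullback.condition]) :
        pullback f (P ≫ f) ⟶ Y f) ≫ q f = pullback.fst f (P ≫ f) ≫ inv f.smoothLocus.ι :=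
      pullback.lift_snd _ _ _
    rw [e1]
    exact h2
  exact h3.of_iso (Iso.refl _) (Iso.refl _) (Iso.refl _) (asIso f.smoothLocus.ι).symm
    (by simp) (by simp) (by simp) (by simp)

theorem hsep (h : Setup k f) (h6 : (6 : k) ≠ 0) [IsIntegral X] [IsIntegral E]
    [IsIntegral (Z f)]
    [IsIntegral (Y f)] [IsDominant f] [IsDominant (p f)] [IsDominant (q f)] [IsSeparated f]
    [QuasiSeparatedSpace X] [IsDominant (g f)]
    {A A₁ : E.Opens} {V V' V₁ V₁' : X.Opens} {e e₁ : X.functionField}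
    (hT : Atlas f A A₁ V V' V₁ V₁' e e₁ 1) {a b : k} [Nonempty (Δc f)] (ax ay : Γ(Y f, Δc f))
    (hG : IsGlob f (g f) (p f) (q f) (δ f) A V V' e (Δc f) ((Y f).germToFunctionField (Δc f) ax)
      ((Y f).germToFunctionField (Δc f) ay) (cst (g f ≫ (E ↘ Spec (CommRingCat.of k))) a)
        (cst (g f ≫ (E ↘ Spec (CommRingCat.of k))) b))
    (hG₁ : IsGlob f (g f) (p f) (q f) (δ f) A₁ V₁ V₁' e₁ (Δc f) ((Y f).germToFunctionField (Δc f) ax)
      ((Y f).germToFunctionField (Δc f) ay)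
        (cst (g f ≫ (E ↘ Spec (CommRingCat.of k))) a) (cst (g f ≫ (E ↘ Spec (CommRingCat.of k))) b))
    (htop : f.smoothLocus = ⊤)
    (u u' : Spec (CommRingCat.of k) ⟶ Y f)
    (hu : u ≫ p f ≫ (X ↘ Spec (CommRingCat.of k)) = 𝟙 _) (hp : u ≫ p f = u' ≫ p f)
    (hΔ : ⊤ ≤ u ⁻¹ᵁ Δc f) (hΔ' : ⊤ ≤ u' ⁻¹ᵁ Δc f)
    (ex : u.appLE (Δc f) ⊤ hΔ ax = u'.appLE (Δc f) ⊤ hΔ' ax)
    (ey : u.appLE (Δc f) ⊤ hΔ ay = u'.appLE (Δc f) ⊤ hΔ' ay) : u = u' := by
  have := isIso_ι htop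
  have hprop := h.isProper
  have hlftZ := lftZ h
  have hfl := h.flat
  set π := u ≫ p f with hP
  have hPX : π ≫ (X ↘ Spec (CommRingCat.of k)) = 𝟙 _ := by rw [hP, Category.assoc]; exact hu
  have ht : (π ≫ f) ≫ (E ↘ Spec (CommRingCat.of k)) = 𝟙 _ := by
    rw [Category.assoc, h.fibr.over, hPX]
  let p' : Y f ⟶ Z f := p f ≫ inv f.smoothLocus.ι
  let P' : Spec (CommRingCat.of k) ⟶ Z f := π ≫ inv f.smoothLocus.ι
  have hδ : δ f ≫ p' = 𝟙 (Z f) := by
    change δ f ≫ p f ≫ inv f.smoothLocus.ι = _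
    rw [← Category.assoc, δ_p, IsIso.hom_inv_id]
  have hp'g : p' ≫ g f = q f ≫ g f := by
    change (p f ≫ inv f.smoothLocus.ι) ≫ f.smoothLocus.ι ≫ f = _
    rw [Category.assoc, IsIso.inv_hom_id_assoc]
    exact pullback.condition
  have hP's : P' ≫ f.smoothLocus.ι ≫ (X ↘ Spec (CommRingCat.of k)) = 𝟙 _ := by
    change (π ≫ inv f.smoothLocus.ι) ≫ _ = _
    rw [Category.assoc, IsIso.inv_hom_id_assoc, hPX]
  have hP'c : IsClosedImmersion P' := isClosedImmersion_of_comp_eq_id _ _ hP's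
  have hdom : IsDominant p' := inferInstanceAs (IsDominant (p f ≫ inv f.smoothLocus.ι))
  obtain ⟨pt⟩ : Nonempty (Spec (CommRingCat.of k)) := inferInstance
  have hz₀ : IsClosed ({P' pt} : Set (Z f)) := by
    have h1 := P'.isClosedEmbedding.isClosed_range
    have h2 : Set.range P' = {P' pt} := by
      ext w
      constructor
      · rintro ⟨v, rfl⟩
        rw [Subsingleton.elim v pt]; rfl
      · rintro rfl
        exact ⟨_, rfl⟩
    rwa [h2] at h1
  -- local data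
  obtain ⟨W₀, U₀, z₁, hxW₀, hD₀, n1, n2, px, py⟩ : ∃ (W₀ : (Z f).Opens) (U₀ : (Y f).Opens)
      (z₁ : Γ(Y f, U₀)) (_ : P' pt ∈ W₀) (_ : Dat (q f) (δ f) W₀ U₀ z₁) (_ : Nonempty U₀)
      (_ : Nonempty (δ f ⁻¹ᵁ U₀ : (Z f).Opens)),
      WeiField.P (pb (δ f) U₀) ((Y f).germToFunctionField U₀ z₁) 2 ((Y f).germToFunctionField (Δc f) ax) 1 ∧
      WeiField.P (pb (δ f) U₀) ((Y f).germToFunctionField U₀ z₁) 3 ((Y f).germToFunctionField (Δc f) ay) 1 := by
    have hmem : g f (P' pt) ∈ A ⊔ A₁ := by rw [hT.cover]; trivial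
    rcases hmem with hA | hA
    · have hS := sit h h6 hT.affA hT.chart hT.affV
      obtain ⟨W₀, U₀, z₁, hzW₀, hWA₀, hN₀⟩ := exists_nor hS hA (unitAt' h hS _ hz₀)
      obtain ⟨zz, hDat, hzz⟩ := hN₀.dat
      obtain ⟨n1, n2⟩ := hN₀.nonempty
      have hs := hG.short W₀ U₀ z₁ hWA₀ hN₀
      have hzz' : (Y f).germToFunctionField U₀ zz = z₁ := hzz
      rw [← hzz'] at hs
      exact ⟨W₀, U₀, zz, hzW₀, hDat, n1, n2, hs.px, hs.py⟩
    · have hS := sit h h6 hT.affA₁ hT.chart₁ hT.affV₁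
      obtain ⟨W₀, U₀, z₁, hzW₀, hWA₀, hN₀⟩ := exists_nor hS hA (unitAt' h hS _ hz₀)
      obtain ⟨zz, hDat, hzz⟩ := hN₀.dat
      obtain ⟨n1, n2⟩ := hN₀.nonempty
      have hs := hG₁.short W₀ U₀ z₁ hWA₀ hN₀
      have hzz' : (Y f).germToFunctionField U₀ zz = z₁ := hzz
      rw [← hzz'] at hs
      exact ⟨W₀, U₀, zz, hzW₀, hDat, n1, n2, hs.px, hs.py⟩
  have hFint := h.gen.integral _ ht
  let j : pullback f (π ≫ f) ⟶ Y f := pullback.lift (pullback.snd f (π ≫ f) ≫ π)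
    (pullback.fst f (π ≫ f) ≫ inv f.smoothLocus.ι) (by simp [pullback.condition])
  have hj : IsPullback j (pullback.snd f (π ≫ f)) p' P' := isPullback_fst π
  have hjp : j ≫ p f = pullback.snd f (π ≫ f) ≫ π := pullback.lift_fst _ _ _
  have hjq : j ≫ q f = pullback.fst f (π ≫ f) ≫ inv f.smoothLocus.ι := pullback.lift_snd _ _ _
  -- lifts
  have lift : ∀ v : Spec (CommRingCat.of k) ⟶ Y f, v ≫ p f = π →
      ∃ w : Spec (CommRingCat.of k) ⟶ pullback f (π ≫ f), w ≫ pullback.snd f (π ≫ f) = 𝟙 _ ∧ w ≫ j = v := by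
    intro v hv
    refine ⟨pullback.lift (v ≫ q f ≫ f.smoothLocus.ι) (𝟙 _) ?_, pullback.lift_snd _ _ _, ?_⟩
    · rw [← hv]
      simp only [Category.assoc, Category.id_comp]
      congr 1
      exact pullback.condition.symm
    · apply pullback.hom_ext
      · change (_ ≫ j) ≫ p f = v ≫ p f
        rw [Category.assoc, hjp, ← Category.assoc, pullback.lift_snd, Category.id_comp, hv]
      · change (_ ≫ j) ≫ q f = v ≫ q f
        rw [Category.assoc, hjq, ← Category.assoc, pullback.lift_fst, Category.assoc, Category.assoc,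
          IsIso.hom_inv_id, Category.comp_id]
  obtain ⟨w, hw1, hw2⟩ := lift u rfl
  obtain ⟨w', hw1', hw2'⟩ := lift u' hp.symm
  have hΔ1 : ⊤ ≤ (w ≫ j) ⁻¹ᵁ Δc f := by rw [hw2]; exact hΔ
  have hΔ1' : ⊤ ≤ (w' ≫ j) ⁻¹ᵁ Δc f := by rw [hw2']; exact hΔ'
  have ex1 : (w ≫ j).appLE (Δc f) ⊤ hΔ1 ax = (w' ≫ j).appLE (Δc f) ⊤ hΔ1' ax := by
    simp only [hw2, hw2']
    exact ex
  have ey1 : (w ≫ j).appLE (Δc f) ⊤ hΔ1 ay = (w' ≫ j).appLE (Δc f) ⊤ hΔ1' ay := by
    simp only [hw2, hw2']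
    exact ey
  have heq : (Y f).germToFunctionField (Δc f) ay ^ 2 = (Y f).germToFunctionField (Δc f) ax ^ 3 +
      ff p' (cst (g f ≫ (E ↘ Spec (CommRingCat.of k))) a) * (Y f).germToFunctionField (Δc f) ax +
        ff p' (cst (g f ≫ (E ↘ Spec (CommRingCat.of k))) b) := by
    have h1 := hG.eq
    rw [ff_cst, ff_cst] at h1 ⊢
    rw [← Category.assoc, hp'g, Category.assoc]
    exact h1
  have hk := sep (q := q f) hδ (mem_Δc f) P' j (pullback.snd f (π ≫ f)) hj (h.haff _ ht) (h.not_subsingleton_H1 _ ht)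
    hD₀ pt hxW₀ ax ay px py (cst_mem _ a _) (cst_mem _ b _) heq w w' hw1 hw1' hΔ1 hΔ1' ex1 ey1
  rw [← hw2, ← hw2', hk]

end K857.T2
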