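import Groth.Agent.Biell.K857.T2Chi
import Groth.Agent.Biell.K857.T2Sep2

/-!
# The data of a trivialisation when the canonical sheaf is trivial
-/

set_option autoImplicit false
universe u

open CategoryTheory CategoryTheory.Limits AlgebraicGeometry TopologicalSpace Opposite
open Groth.Agent.Picfga.RegLocus
open K857.OReg K857.WeiField K857.EqnGeo K857.LD K857.Global K857.Square

namespace K857.T2

variable {k : Type u} [Field k] [IsAlgClosed k] {X E : Scheme.{u}}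
    [X.Over (Spec (CommRingCat.of k))] [E.Over (Spec (CommRingCat.of k))] {f : X ⟶ E}

theorem finiteType_coordinateRing (a b : k) :
    Algebra.FiniteType k (K665.NodeB.W a b).CoordinateRing := by
  have h1 : Module.Finite (Polynomial k) (K665.NodeB.W a b).CoordinateRing :=
    Module.Finite.of_basis (WeierstrassCurve.Affine.CoordinateRing.basis (K665.NodeB.W a b))
  have h2 : Algebra.FiniteType (Polynomial k) (K665.NodeB.W a b).CoordinateRing := inferInstance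
  exact Algebra.FiniteType.trans (S := Polynomial k) inferInstance h2

theorem exists_data (h : Setup k f) (h6 : (6 : k) ≠ 0) (hproj : ∃ H : X.Modules, CohB1.IsAmple H)
    (ω : X.Modules) (hω : Canon.IsTopDiff (X ↘ Spec (CommRingCat.of k)) 2 ω)
    (hω0 : Nonempty (ω ≅ Coh.structureModule X)) :
    Smooth f ∧ ∃ (D C : Scheme.{u}) (pD qD : D ⟶ X) (χ : D ⟶ C) (sC : C ⟶ Spec (CommRingCat.of k)),
      IsIntegral C ∧ LocallyOfFiniteType sC ∧ QuasiCompact sC ∧ pD ≫ f = qD ≫ f ∧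
      (∀ P Q : Spec (CommRingCat.of k) ⟶ X, P ≫ (X ↘ Spec (CommRingCat.of k)) = 𝟙 _ →
        Q ≫ (X ↘ Spec (CommRingCat.of k)) = 𝟙 _ → P ≫ f = Q ≫ f → P ≠ Q →
          ∃ d : Spec (CommRingCat.of k) ⟶ D, d ≫ pD = P ∧ d ≫ qD = Q) ∧
      IsPullback χ qD sC (X ↘ Spec (CommRingCat.of k)) ∧
      (∀ d d' : Spec (CommRingCat.of k) ⟶ D, d ≫ qD ≫ (X ↘ Spec (CommRingCat.of k)) = 𝟙 _ →
        d' ≫ qD ≫ (X ↘ Spec (CommRingCat.of k)) = 𝟙 _ → d ≫ pD = d' ≫ pD → d ≫ χ = d' ≫ χ →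
          d = d') := by
  have := h.int
  have := h.fibr.integral
  have := h.prop
  have := h.smooth
  have := h.isDominant
  have := h.isNoetherianX
  have := h.isNoetherianE
  have := h.lfp
  have := h.isProper
  have := isIntegralZ h
  have := isIntegralY h
  have := isDominant_p h
  have := isDominant_q h
  have := isDominant_g h
  obtain ⟨A, A₁, V, V', V₁, V₁', e, e₁, w, hT⟩ := exists_atlas h hproj
  obtain ⟨a, a₁, ha0, ha10, ha, ha', ha1, ha1', haw⟩ := exists_split h h6 ω hω hω0 hT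
  have hT1 := Atlas.one hT ha0 ha10 ha ha' ha1 ha1' haw
  obtain ⟨x, y, c, d, hcd, hG, hG₁⟩ := exists_const h h6 hT1
  have htop := smoothLocus_eq_top h h6 hT1 hG hG₁
  have hι := isIso_ι htop
  have hne : Nonempty (Δc f) := nonempty_Δc (heff h)
  -- the coordinates as sections
  have hcovA : (q f ⁻¹ᵁ (g f ⁻¹ᵁ A) ⊓ Δc f) ⊔ (q f ⁻¹ᵁ (g f ⁻¹ᵁ A₁) ⊓ Δc f) = Δc f := by
    rw [← inf_sup_right]
    have h1 : q f ⁻¹ᵁ (g f ⁻¹ᵁ A) ⊔ q f ⁻¹ᵁ (g f ⁻¹ᵁ A₁) = ⊤ := by
      have h2 : q f ⁻¹ᵁ (g f ⁻¹ᵁ (A ⊔ A₁)) = ⊤ := by rw [hT.cover]; rfl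
      exact h2
    rw [h1, top_inf_eq]
  have hx : x ∈ O (Δc f) := by
    have := mem_O_sup hG.hx hG₁.hx
    rwa [hcovA] at this
  have hy : y ∈ O (Δc f) := by
    have := mem_O_sup hG.hy hG₁.hy
    rwa [hcovA] at this
  obtain ⟨ax, rfl⟩ := exists_sec hx
  obtain ⟨ay, rfl⟩ := exists_sec hy
  obtain ⟨χ, hχ, hχx, hχy⟩ := exists_chi h h6 hT1 ax ay hG hG₁
  have hιX : f.smoothLocus.ι ≫ (X ↘ Spec (CommRingCat.of k)) = g f ≫ (E ↘ Spec (CommRingCat.of k)) := by
    rw [Category.assoc, h.fibr.over]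
  have hpq : p f ≫ (X ↘ Spec (CommRingCat.of k)) = q f ≫ f.smoothLocus.ι ≫ (X ↘ Spec (CommRingCat.of k)) := by
    rw [hιX, ← h.fibr.over]
    exact pullback.condition_assoc _
  refine ⟨Scheme.Hom.smoothLocus_eq_top_iff.mp htop, (Δc f : Scheme.{u}), _, (Δc f).ι ≫ p f,
    (Δc f).ι ≫ q f ≫ f.smoothLocus.ι, χ,
    Spec.map (CommRingCat.ofHom (algebraMap k (K665.NodeB.W c d).CoordinateRing)), inferInstance, ?_,
    inferInstance, ?_, ?_, ?_, ?_⟩
  · rw [HasRingHomProperty.Spec_iff (P := @LocallyOfFiniteType)]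
    have h1 := finiteType_coordinateRing c d
    rw [CommRingCat.hom_ofHom, RingHom.finiteType_algebraMap]
    exact h1
  · simp only [Category.assoc]
    rw [pullback.condition]
  · intro P Q hP hQ hPQ hne
    let e : Spec (CommRingCat.of k) ⟶ Y f := pullback.lift P (Q ≫ inv f.smoothLocus.ι) (by
      rw [hPQ]; simp)
    have he1 : e ≫ p f = P := pullback.lift_fst _ _ _
    have he2 : e ≫ q f = Q ≫ inv f.smoothLocus.ι := pullback.lift_snd _ _ _
    have hmem : ∀ w, e w ∈ Δc f := by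
      intro w hw
      obtain ⟨z, hz⟩ := hw
      apply hne
      refine ext_of_apply_closedPoint_eq (X ↘ Spec (CommRingCat.of k)) hP hQ ?_
      rw [← Subsingleton.elim w (IsLocalRing.closedPoint k)]
      have e1 : P w = f.smoothLocus.ι z := by
        rw [← he1, Scheme.Hom.comp_apply, ← hz, ← Scheme.Hom.comp_apply, δ_p]
      have e2 : q f (e w) = z := by
        rw [← hz, ← Scheme.Hom.comp_apply, δ_q]; rfl
      have e3 : Q w = f.smoothLocus.ι z := by
        have e4 : Q = (e ≫ q f) ≫ f.smoothLocus.ι := by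
          rw [he2, Category.assoc, IsIso.inv_hom_id, Category.comp_id]
        rw [e4, Scheme.Hom.comp_apply, Scheme.Hom.comp_apply, e2]
      rw [e1, e3]
    have hr : Set.range e ⊆ Set.range (Δc f).ι := by
      rintro _ ⟨w, rfl⟩
      rw [Scheme.Opens.range_ι]
      exact hmem w
    refine ⟨IsOpenImmersion.lift (Δc f).ι e hr, ?_, ?_⟩
    · rw [IsOpenImmersion.lift_fac_assoc, he1]
    · rw [IsOpenImmersion.lift_fac_assoc, ← Category.assoc, he2, Category.assoc, IsIso.inv_hom_id,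
        Category.comp_id]
  · exact hχ.of_iso (Iso.refl _) (Iso.refl _) (asIso f.smoothLocus.ι) (Iso.refl _)
      (by simp) (by simp) (by simp) (by simp [hιX])
  · intro d₁ d₂ h1 h2 h3 h4
    have hm : ∀ d₀ : Spec (CommRingCat.of k) ⟶ (Δc f : Scheme.{u}), ⊤ ≤ (d₀ ≫ (Δc f).ι) ⁻¹ᵁ Δc f :=
      fun d₀ w _ => (d₀ w).2
    have hv : ∀ (d₀ : Spec (CommRingCat.of k) ⟶ (Δc f : Scheme.{u})) (t : Γ(Y f, Δc f)),
        (d₀ ≫ (Δc f).ι).appLE (Δc f) ⊤ (hm d₀) t = d₀.appTop (gsec (Δc f) t) := by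
      intro d₀ t
      have k1 : (Δc f).ι.appLE (Δc f) ⊤ (by simp) ≫ d₀.appLE ⊤ ⊤ le_rfl =
          (d₀ ≫ (Δc f).ι).appLE (Δc f) ⊤ (hm d₀) := Scheme.Hom.appLE_comp_appLE _ _ _ _ _ _ _
      have k2 : d₀.appLE ⊤ ⊤ le_rfl = d₀.appTop := Scheme.Hom.appLE_eq_app d₀
      rw [← k1, k2]
      rfl
    have hcx : d₁.appTop (gsec (Δc f) ax) = d₂.appTop (gsec (Δc f) ax) := by
      rw [← hχx]
      have k1 : χ.appTop ≫ d₁.appTop = χ.appTop ≫ d₂.appTop := by
        rw [← Scheme.Hom.comp_appTop, ← Scheme.Hom.comp_appTop, h4]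
      exact congr($(k1).hom _)
    have hcy : d₁.appTop (gsec (Δc f) ay) = d₂.appTop (gsec (Δc f) ay) := by
      rw [← hχy]
      have k1 : χ.appTop ≫ d₁.appTop = χ.appTop ≫ d₂.appTop := by
        rw [← Scheme.Hom.comp_appTop, ← Scheme.Hom.comp_appTop, h4]
      exact congr($(k1).hom _)
    rw [← cancel_mono (Δc f).ι]
    refine hsep h h6 hT1 ax ay hG hG₁ htop _ _ ?_ ?_ (hm d₁) (hm d₂) ?_ ?_
    · rw [hpq]
      simpa only [Category.assoc] using h1
    · simpa only [Category.assoc] using h3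
    · rw [hv, hv, hcx]
    · rw [hv, hv, hcy]

end K857.T2
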