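import Groth.Agent.Biell.K857.FibCo

/-!
# Weierstrass coordinates restricted to a closed fibre of a second projection
-/

set_option autoImplicit false
universe u

open CategoryTheory CategoryTheory.Limits AlgebraicGeometry TopologicalSpace Opposite
open Groth.Agent.Picfga.RegLocus
open K857.OReg K857.WeiField K857.EqnGeo K857.LD K857.Global K857.FibData

namespace K857.T2

section

variable {Z Y F : Scheme.{u}} [IsIntegral Z] [IsIntegral Y] [IsIntegral F]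

variable {q : Y ⟶ Z} {δ : Z ⟶ Y} [IsDominant q] {Δc : Y.Opens} [IsClosedImmersion δ]

theorem exists_fd (hδ : δ ≫ q = 𝟙 Z) (hΔ : ∀ y, y ∈ Δc ↔ y ∉ Set.range δ) (hne : Nonempty Δc) {K : Scheme.{u}}
    [Subsingleton K] (xk : K ⟶ Z) [IsClosedImmersion xk] (i : F ⟶ Y) (s : F ⟶ K)
    (hF : IsPullback i s q xk) (x : Z) (hx : x ∈ Set.range xk)
    (hH : ¬ Subsingleton (Coh.HH F (Coh.structureModule F) 1))
    {W : Z.Opens} {U : Y.Opens} {z : Γ(Y, U)} (hD : Dat q δ W U z) (hxW : x ∈ W) :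
    FD q i Δc W U z := by
  have hi : IsClosedImmersion i := MorphismProperty.of_isPullback hF.flip inferInstance
  obtain ⟨y, rfl⟩ := hx
  have hyall : ∀ y', xk y' = xk y := fun y' => by rw [Subsingleton.elim y' y]
  have hWne : Nonempty W := hD.ne
  obtain ⟨hUne, hUne'⟩ := nonempty_of_dat hD
  have hΔne := hne
  -- the point of the fibre on the section
  have hq : q (δ (xk y)) = xk y := by
    rw [← Scheme.Hom.comp_apply, hδ]; rfl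
  obtain ⟨y₀, hy₀⟩ : ∃ y₀ : F, i y₀ = δ (xk y) := by
    have : δ (xk y) ∈ Set.range i := by
      rw [← hF.isoPullback_hom_fst]
      obtain ⟨w, hw⟩ : δ (xk y) ∈ Set.range (pullback.fst q xk) := by
        rw [Scheme.Pullback.range_fst]
        exact ⟨y, hq.symm⟩
      exact ⟨hF.isoPullback.inv w, by
        rw [← Scheme.Hom.comp_apply, Iso.inv_hom_id_assoc, hw]⟩
    exact this
  have hFW : i ⁻¹ᵁ (q ⁻¹ᵁ W) = ⊤ := by
    ext w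
    refine ⟨fun _ => trivial, fun _ => ?_⟩
    change q (i w) ∈ W
    have : q (i w) = xk (s w) := by rw [← Scheme.Hom.comp_apply, hF.w]; rfl
    rw [this, hyall]
    exact hxW
  have hFU : IsAffineOpen (i ⁻¹ᵁ U) := hD.affU.preimage i
  have hy₀U : y₀ ∈ i ⁻¹ᵁ U := by
    change i y₀ ∈ U
    rw [hy₀]
    change xk y ∈ δ ⁻¹ᵁ U
    rw [hD.pre]; exact hxW
  have n1 : Nonempty (i ⁻¹ᵁ U : F.Opens) := ⟨⟨y₀, hy₀U⟩⟩
  have hcovU : i ⁻¹ᵁ (q ⁻¹ᵁ W ⊓ Δc) ⊔ i ⁻¹ᵁ U = ⊤ := by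
    rw [eq_top_iff]
    intro w _
    by_cases hw : i w ∈ Set.range δ
    · right
      obtain ⟨v, hv'⟩ := hw
      have h1 : v ∈ W := by
        have h2 : q (i w) ∈ W := by
          have : w ∈ i ⁻¹ᵁ (q ⁻¹ᵁ W) := by rw [hFW]; trivial
          exact this
        rw [← hv', ← Scheme.Hom.comp_apply, hδ] at h2
        exact h2
      change i w ∈ U
      rw [← hv']
      rw [← hD.pre] at h1
      exact h1
    · left
      refine ⟨?_, (hΔ _).2 hw⟩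
      have : w ∈ i ⁻¹ᵁ (q ⁻¹ᵁ W) := by rw [hFW]; trivial
      exact this
  have n0 : Nonempty (i ⁻¹ᵁ (q ⁻¹ᵁ W ⊓ Δc) : F.Opens) := by
    by_contra hne
    rw [not_nonempty_iff] at hne
    have h1 : i ⁻¹ᵁ (q ⁻¹ᵁ W ⊓ Δc) = ⊥ := by
      ext w; exact ⟨fun hw => (hne.false ⟨w, hw⟩).elim, fun hw => hw.elim⟩
    rw [h1, bot_sup_eq] at hcovU
    rw [hcovU] at hFU
    exact hH (subsingleton_of_affine hFU)
  have hE := EqnGeo.isEqn q δ hδ hD.affU hD.pre hD.le z hD.z0 hD.ideal Δc hΔ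
  have e5 : F.basicOpen (i.app U z) = i ⁻¹ᵁ (Δc ⊓ U) := by
    rw [← Scheme.preimage_basicOpen, basicOpen_eq δ hD.affU z hD.ideal Δc hΔ]
  have e6 : F.basicOpen (i.app U z) ≤ i ⁻¹ᵁ (q ⁻¹ᵁ W ⊓ Δc) ⊓ i ⁻¹ᵁ U := by
    rw [e5]
    exact le_inf (i.preimage_mono (le_inf (inf_le_right.trans hD.le) inf_le_left))
      (i.preimage_mono inf_le_right)
  refine ⟨n1, n0, hFW, hcovU, hFU, ?_, ?_, ?_, ?_⟩
  · intro htop
    have : y₀ ∈ i ⁻¹ᵁ (q ⁻¹ᵁ W ⊓ Δc) := by rw [htop]; trivial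
    exact (hΔ _).1 this.2 ⟨xk y, hy₀.symm⟩
  · intro h0
    have h1 : F.basicOpen (i.app U z) = ⊥ := by rw [basicOpen_eq_bot_iff]; exact h0
    rw [e5] at h1
    have h2 : genericPoint F ∈ i ⁻¹ᵁ (Δc ⊓ U) :=
      ⟨(genericPoint_mem (i ⁻¹ᵁ (q ⁻¹ᵁ W ⊓ Δc))).2, genericPoint_mem (i ⁻¹ᵁ U)⟩
    rw [h1] at h2
    exact h2
  · intro g₁ hg₁
    obtain ⟨g', rfl⟩ := exists_sec hg₁
    obtain ⟨G, rfl⟩ := i.app_surjective U hD.affU g'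
    have hGm : Y.germToFunctionField U G ∈ O U := germ_mem G
    let c : Z.functionField := pb δ U ⟨Y.germToFunctionField U G, hGm⟩
    have hcW : c ∈ O W := hE.mem _
    have hcU : ff q c ∈ O U := O_mono hD.le (ff_mem q hcW)
    have hρ : pb δ U ⟨Y.germToFunctionField U G - ff q c, sub_mem hGm hcU⟩ = 0 := by
      have e1 : (⟨Y.germToFunctionField U G - ff q c, sub_mem hGm hcU⟩ : O U) =
        ⟨Y.germToFunctionField U G, hGm⟩ - ⟨ff q c, hcU⟩ := rfl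
      rw [e1, map_sub, hE.sec c hcW hcU]
      exact sub_self _
    obtain ⟨H, hH', hGH⟩ := hE.ker _ hρ
    have hGH' : Y.germToFunctionField U G - ff q c = Y.germToFunctionField U z * H := hGH
    refine ⟨pb i U ⟨ff q c, hcU⟩, ?_, pb i U ⟨H, hH'⟩, pb_mem _ _ _, ?_⟩
    · have b1 := pb_mem_of_le i hD.le (ff_mem q hcW) hcU
      rw [hFW] at b1
      exact b1
    · have e2 : (⟨Y.germToFunctionField U G, hGm⟩ : O U) = ⟨ff q c, hcU⟩ +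
          ⟨Y.germToFunctionField U z, germ_mem z⟩ * ⟨H, hH'⟩ := Subtype.ext (by
        change Y.germToFunctionField U G = ff q c + Y.germToFunctionField U z * H
        rw [← hGH']; ring)
      have e3 := congrArg (pb i U) e2
      rw [map_add, map_mul, pb_germ] at e3
      rw [e3, ← pb_germ i U z (germ_mem z)]
  · intro t ht
    exact exists_pow_mul_mem hFU (i.app U z) (O_mono e6 ht)


end

section

variable {Z Y F : Scheme.{u}} [IsIntegral Z] [IsIntegral Y] [IsIntegral F]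
variable {q : Y ⟶ Z} {δ : Z ⟶ Y} [IsDominant q] {Δc : Y.Opens}

theorem exists_co {i : F ⟶ Y} {W : Z.Opens} {U : Y.Opens} {z : Γ(Y, U)} [Nonempty U]
    [Nonempty (δ ⁻¹ᵁ U : Z.Opens)] [Nonempty W]
    (fd : FD q i Δc W U z)
    (hE : IsEqn (ff q) (O W) (q ⁻¹ᵁ W) (q ⁻¹ᵁ W ⊓ Δc) U (Y.germToFunctionField U z) (pb δ U))
    {x y : Y.functionField} {a b : Z.functionField}
    (hs : Short (ff q) (O W) (q ⁻¹ᵁ W ⊓ Δc) (pb δ U) (Y.germToFunctionField U z) x y a b)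
    (hinv : ∀ c ∈ O (⊤ : F.Opens), c ≠ 0 → c⁻¹ ∈ O (⊤ : F.Opens))
    (haff : IsAffineOpen (i ⁻¹ᵁ (q ⁻¹ᵁ W ⊓ Δc)))
    (hH : ¬ Subsingleton (Coh.HH F (Coh.structureModule F) 1)) :
    ∃ (nU : Nonempty (i ⁻¹ᵁ U : F.Opens)) (nP : Nonempty ((q ⁻¹ᵁ W ⊓ Δc) ⊓ U : Y.Opens))
      (nP' : Nonempty (i ⁻¹ᵁ ((q ⁻¹ᵁ W ⊓ Δc) ⊓ U) : F.Opens))
      (mx : x ∈ O ((q ⁻¹ᵁ W ⊓ Δc) ⊓ U)) (my : y ∈ O ((q ⁻¹ᵁ W ⊓ Δc) ⊓ U)),
      FibGen.Co (i ⁻¹ᵁ (q ⁻¹ᵁ W ⊓ Δc)) (i ⁻¹ᵁ U)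
        (F.germToFunctionField (i ⁻¹ᵁ U) (i.app U z))
        (pb i ((q ⁻¹ᵁ W ⊓ Δc) ⊓ U) ⟨x, mx⟩) (pb i ((q ⁻¹ᵁ W ⊓ Δc) ⊓ U) ⟨y, my⟩) := by
  have nU := fd.nU
  have n0 := fd.n0
  set z' := Y.germToFunctionField U z with hz'def
  let P₀ : Y.Opens := (q ⁻¹ᵁ W ⊓ Δc) ⊓ U
  have l0 : P₀ ≤ q ⁻¹ᵁ W ⊓ Δc := inf_le_left
  have lU : P₀ ≤ U := inf_le_right
  have lW : P₀ ≤ q ⁻¹ᵁ W := l0.trans inf_le_left
  have hiP : genericPoint F ∈ i ⁻¹ᵁ P₀ :=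
    ⟨genericPoint_mem (i ⁻¹ᵁ (q ⁻¹ᵁ W ⊓ Δc)), genericPoint_mem (i ⁻¹ᵁ U)⟩
  have nP : Nonempty (i ⁻¹ᵁ P₀ : F.Opens) := ⟨⟨_, hiP⟩⟩
  have nP' : Nonempty P₀ := ⟨⟨i (genericPoint F), hiP⟩⟩
  have mx : x ∈ O P₀ := O_mono l0 hs.hx
  have my : y ∈ O P₀ := O_mono l0 hs.hy
  have mz : z' ∈ O P₀ := O_mono lU (germ_mem z)
  let ψ := pb i P₀
  have hζ : F.germToFunctionField (i ⁻¹ᵁ U) (i.app U z) = ψ ⟨z', mz⟩ := by
    have b1 : ψ ⟨z', mz⟩ = pb i U ⟨z', germ_mem z⟩ := pb_restrict i lU z' (germ_mem z) mz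
    rw [b1, pb_germ]
  have hζ0 : F.germToFunctionField (i ⁻¹ᵁ U) (i.app U z) ≠ 0 := fun h0 => fd.z0
    (F.germToFunctionField_injective (i ⁻¹ᵁ U) (by rw [map_zero]; exact h0))
  -- restriction of a pole condition
  have pole : ∀ (n : ℕ) (t : Y.functionField) (mt : t ∈ O P₀), P (pb δ U) z' n t 1 →
      ∃ h ∈ O (i ⁻¹ᵁ U), F.germToFunctionField (i ⁻¹ᵁ U) (i.app U z) ^ n * ψ ⟨t, mt⟩ =
        1 + F.germToFunctionField (i ⁻¹ᵁ U) (i.app U z) * h := by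
    intro n t mt ⟨h1, h2⟩
    have h3 : pb δ U (⟨z' ^ n * t, h1⟩ - 1) = 0 := by rw [map_sub, h2, map_one, sub_self]
    obtain ⟨H, hH', e1⟩ := hE.ker _ h3
    have e2 : z' ^ n * t - 1 = z' * H := e1
    have mH : H ∈ O P₀ := O_mono lU hH'
    refine ⟨pb i U ⟨H, hH'⟩, pb_mem _ _ _, ?_⟩
    have e3 : pb i U ⟨H, hH'⟩ = ψ ⟨H, mH⟩ := (pb_restrict i lU H hH' mH).symm
    rw [e3, hζ]
    have e4 : (⟨z', mz⟩ : O P₀) ^ n * ⟨t, mt⟩ = 1 + ⟨z', mz⟩ * ⟨H, mH⟩ := Subtype.ext (by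
      change z' ^ n * t = 1 + z' * H
      linear_combination e2)
    have e5 := congrArg ψ e4
    rwa [map_mul, map_pow, map_add, map_mul, map_one] at e5
  have hloc : ∀ t ∈ O (i ⁻¹ᵁ (q ⁻¹ᵁ W ⊓ Δc)), ∃ n : ℕ,
      F.germToFunctionField (i ⁻¹ᵁ U) (i.app U z) ^ n * t ∈ O (i ⁻¹ᵁ U) := fun t ht =>
    fd.loc t (O_mono inf_le_left ht)
  exact ⟨nU, nP', nP, mx, my, fd.cov, hζ0, germ_mem _, fd.ker, hloc,
    FibGen.simple_of_H1 fd.cov haff fd.affU hζ0 (germ_mem _) hinv fd.ker fd.loc hH,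
    pb_mem_of_le i l0 hs.hx mx, pb_mem_of_le i l0 hs.hy my, pole 2 x mx hs.px, pole 3 y my hs.py⟩

end

end K857.T2
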