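import Groth.Agent.Biell.K857.T2Red
import Groth.Agent.Biell.K856.NodeD
import Groth.Agent.Biell.K115.NodeA

/-!
# `h²(O) = 0` for bielliptic surfaces in characteristic different from 2 and 3
-/

set_option autoImplicit false
universe u

open CategoryTheory CategoryTheory.Limits AlgebraicGeometry TopologicalSpace Opposite

namespace K857.T2

/-- **T2.** `h²(O) = 0` for bielliptic surfaces over algebraically closed fields with `6 ≠ 0`. -/
theorem main : K440.Fam.T2.{u} := by
  refine of_noTriv ?_
  intro k _ _ X E _ _ f h h0 hproj hsm D C pD qD hcomm hex χ sC _ _ _ hpb hsep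
  exact K856.NodeD.main (fun k _ _ F _ _ _ _ h1 L hL M H => K115.NodeA.no_transitive k F h1 L hL M H)
    h h0 hproj hsm pD qD hcomm hex χ sC hpb hsep

end K857.T2
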