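import Groth.Agent.Biell.K857.T2Unit

/-!
# Constant Weierstrass coefficients
-/

set_option autoImplicit false
universe u

open CategoryTheory CategoryTheory.Limits AlgebraicGeometry TopologicalSpace Opposite
open Groth.Agent Groth.Agent.Picfga.RegLocus
open K857.OReg K857.WeiField K857.GenSec K857.Global K857.Square

namespace K857.T2

section

variable {k : Type u} [Field k] {X Y : Scheme.{u}} [IsIntegral X] [IsIntegral Y]

/-- constants in the function field -/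
noncomputable def cst (s : X ⟶ Spec (CommRingCat.of k)) : k →+* X.functionField :=
  haveI : Nonempty (⊤ : X.Opens) := ⟨⟨genericPoint X, trivial⟩⟩
  (X.germToFunctionField ⊤).hom.comp (s.appTop.hom.comp (Scheme.ΓSpecIso (CommRingCat.of k)).inv.hom)

theorem cst_apply (s : X ⟶ Spec (CommRingCat.of k)) [Nonempty (⊤ : X.Opens)] (c : k) :
    cst s c = X.germToFunctionField ⊤ (s.appTop ((Scheme.ΓSpecIso (CommRingCat.of k)).inv c)) := rfl

theorem cst_mem (s : X ⟶ Spec (CommRingCat.of k)) (c : k) (U : X.Opens) : cst s c ∈ O U := by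
  have : Nonempty (⊤ : X.Opens) := ⟨⟨genericPoint X, trivial⟩⟩
  exact O_mono le_top (germ_mem _)

theorem cst_germ (s : X ⟶ Spec (CommRingCat.of k)) (U : X.Opens) [Nonempty U] (c : k) :
    cst s c = X.germToFunctionField U (s.appLE ⊤ U le_top ((Scheme.ΓSpecIso (CommRingCat.of k)).inv c)) := by
  have : Nonempty (⊤ : X.Opens) := ⟨⟨genericPoint X, trivial⟩⟩
  rw [cst_apply, ← germ_rs (le_top : U ≤ ⊤)]
  rfl

theorem ff_cst (q : Y ⟶ X) [IsDominant q] (s : X ⟶ Spec (CommRingCat.of k)) (c : k) :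
    ff q (cst s c) = cst (q ≫ s) c := by
  have : Nonempty (⊤ : X.Opens) := ⟨⟨genericPoint X, trivial⟩⟩
  have : Nonempty (⊤ : Y.Opens) := ⟨⟨genericPoint Y, trivial⟩⟩
  have h1 : q.appLE ⊤ ⊤ le_top = q.appTop := Scheme.Hom.appLE_eq_app q
  rw [cst_apply, ff_germ_appLE q ⊤ ⊤ le_top, cst_apply, h1, Scheme.Hom.comp_appTop]
  rfl

theorem exists_cst [IsAlgClosed k] (s : X ⟶ Spec (CommRingCat.of k)) [IsProper s] {g : X.functionField}
    (hg : g ∈ O (⊤ : X.Opens)) : ∃ c : k, cst s c = g := by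
  have : Nonempty (⊤ : X.Opens) := ⟨⟨genericPoint X, trivial⟩⟩
  obtain ⟨a, rfl⟩ := exists_sec hg
  let _ : X.Over (Spec (CommRingCat.of k)) := ⟨s⟩
  have : IsProper (X ↘ Spec (CommRingCat.of k)) := inferInstanceAs (IsProper s)
  obtain ⟨c, hc⟩ := SecLib.const k X a
  exact ⟨c, by rw [← hc]; rfl⟩

end

variable {k : Type u} [Field k] [IsAlgClosed k] {X E : Scheme.{u}}
    [X.Over (Spec (CommRingCat.of k))] [E.Over (Spec (CommRingCat.of k))] {f : X ⟶ E}
    [LocallyOfFinitePresentation f]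

theorem exists_const (h : Setup k f) (h6 : (6 : k) ≠ 0) [IsIntegral X] [IsIntegral E]
    [IsIntegral (Z f)]
    [IsIntegral (Y f)] [IsDominant f] [IsDominant (p f)] [IsDominant (q f)] [IsSeparated f]
    [QuasiSeparatedSpace X] [IsDominant (g f)]
    {A A₁ : E.Opens} {V V' V₁ V₁' : X.Opens} {e e₁ : X.functionField}
    (hT : Atlas f A A₁ V V' V₁ V₁' e e₁ 1) :
    ∃ (x y : (Y f).functionField) (a b : k), 4 * a ^ 3 + 27 * b ^ 2 ≠ 0 ∧
      IsGlob f (g f) (p f) (q f) (δ f) A V V' e (Δc f) x y (cst (g f ≫ (E ↘ Spec (CommRingCat.of k))) a)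
        (cst (g f ≫ (E ↘ Spec (CommRingCat.of k))) b) ∧
      IsGlob f (g f) (p f) (q f) (δ f) A₁ V₁ V₁' e₁ (Δc f) x y
        (cst (g f ≫ (E ↘ Spec (CommRingCat.of k))) a) (cst (g f ≫ (E ↘ Spec (CommRingCat.of k))) b) := by
  have := h.fibr.proper
  have hS := sit h h6 hT.affA hT.chart hT.affV
  have hS₁ := sit h h6 hT.affA₁ hT.chart₁ hT.affV₁
  obtain ⟨x, y, α, β, hα, hβ, hd, hG⟩ := exists_coef h h6 hT.neA hS
  obtain ⟨x₁, y₁, α₁, β₁, hα₁, hβ₁, hd₁, hG₁⟩ := exists_coef h h6 hT.neA₁ hS₁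
  obtain ⟨e1, e2, e3, e4⟩ := IsGlob.change hS hS₁ hT.w0 hT.hw hT.hw' hT.rel hG hG₁
  rw [map_one, map_one, one_pow, one_mul] at e1 e2
  rw [map_one, one_pow, one_mul] at e3 e4
  have e5 := ff_injective (g f) e3
  have e6 := ff_injective (g f) e4
  subst e1 e2 e5 e6
  have hα2 := mem_O_sup hα hα₁
  have hβ2 := mem_O_sup hβ hβ₁
  rw [hT.cover] at hα2 hβ2
  obtain ⟨a, rfl⟩ := exists_cst (E ↘ Spec (CommRingCat.of k)) hα2
  obtain ⟨b, rfl⟩ := exists_cst (E ↘ Spec (CommRingCat.of k)) hβ2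
  rw [ff_cst, ff_cst] at hG hG₁
  refine ⟨x, y, a, b, fun h0 => hd ?_, hG, hG₁⟩
  have h1 := congrArg (cst (E ↘ Spec (CommRingCat.of k))) h0
  simpa only [map_add, map_mul, map_pow, map_ofNat, map_zero] using h1

end K857.T2
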