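import Groth.Agent.Biell.K857.T2Data
import Groth.Agent.Biell.K857.T1Final
import Groth.Agent.Biell.K440.Fam
import Groth.Agent.S15376

/-!
# Vanishing of `h²(O)` on bielliptic surfaces, from the non-existence of a trivialisation
-/

set_option autoImplicit false
universe u

open CategoryTheory CategoryTheory.Limits AlgebraicGeometry TopologicalSpace Opposite

namespace K857.T2

open Groth.Agent Groth.Agent.Grpsch.PicGrp Groth.Agent.Pic13.H138.AlgEquiv

/-- Non-existence of a trivialisation. -/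
def NoTriv : Prop := ∀ {k : Type u} [Field k] [IsAlgClosed k] {X E : Scheme.{u}}
    [X.Over (Spec (CommRingCat.of k))] [E.Over (Spec (CommRingCat.of k))] {f : X ⟶ E}
    (_ : K857.Setup k f) (_ : ∀ c ∈ alg0 k X, ∃ d : Pic E, pull f d = c)
    (_ : ∃ H : X.Modules, CohB1.IsAmple H) (_ : Smooth f)
    {D C : Scheme.{u}} (pD qD : D ⟶ X) (_ : pD ≫ f = qD ≫ f)
    (_ : ∀ P Q : Spec (CommRingCat.of k) ⟶ X, P ≫ (X ↘ Spec (CommRingCat.of k)) = 𝟙 _ →
      Q ≫ (X ↘ Spec (CommRingCat.of k)) = 𝟙 _ → P ≫ f = Q ≫ f → P ≠ Q →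
        ∃ d : Spec (CommRingCat.of k) ⟶ D, d ≫ pD = P ∧ d ≫ qD = Q)
    (χ : D ⟶ C) (sC : C ⟶ Spec (CommRingCat.of k)) [IsIntegral C] [LocallyOfFiniteType sC]
    [QuasiCompact sC] (_ : IsPullback χ qD sC (X ↘ Spec (CommRingCat.of k)))
    (_ : ∀ d d' : Spec (CommRingCat.of k) ⟶ D, d ≫ qD ≫ (X ↘ Spec (CommRingCat.of k)) = 𝟙 _ →
      d' ≫ qD ≫ (X ↘ Spec (CommRingCat.of k)) = 𝟙 _ → d ≫ pD = d' ≫ pD → d ≫ χ = d' ≫ χ → d = d'),
    False

/-- `h²(O) = 0`, given the non-existence of a trivialisation. -/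
theorem of_noTriv (hD : NoTriv.{u}) : K440.Fam.T2.{u} := by
  intro k _ _ X _ _ _ _ hproj ω hω hnum hb2 h6
  by_contra hcon
  have hdim : topologicalKrullDim X = 2 := by
    exact_mod_cast CurvesA.CSpecD1.topologicalKrullDim_eq_of_smoothOfRelativeDimension 2
      (X ↘ Spec (CommRingCat.of k))
  have hs : Smooth (X ↘ Spec (CommRingCat.of k)) := SmoothOfRelativeDimension.smooth 2 _
  have hωi := K455.Canon.isInvertible _ 2 hω
  have h1 := K455.SmoothRR.finrank_dual k hω (L := Coh.structureModule X) (L' := Coh.structureModule X)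
    Fdesc.LocGen.isInvertible_structureModule ⟨Ega2.Tens.runit _⟩ 0 2 rfl
  rw [h1, K464.Cohom.finrank_congr k (Ega2.Tens.runit ω) 0] at hcon
  have h2 : Nontrivial (Coh.HH X ω 0) := Module.nontrivial_of_finrank_pos (R := k) (by omega)
  have hω0 : Nonempty (ω ≅ Coh.structureModule X) :=
    (mk_eq_one_iff hωi).1 (K856.Num.eq_one_of_num k hdim hproj hωi hnum h2)
  obtain ⟨E, hE, f, h, h0, -⟩ := T1Final.exists_setup k X hproj ω hω hnum hb2
  obtain ⟨hsm, D, C, pD, qD, χ, sC, i1, i2, i3, hcomm, hex, hpb, hsep⟩ :=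
    exists_data h h6 hproj ω hω hω0
  exact hD h h0 hproj hsm pD qD hcomm hex χ sC hpb hsep

end K857.T2
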