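import Groth.Agent.Biell.K857.T2Glob

/-!
# Points of an affine open are separated by generating functions
-/

set_option autoImplicit false
universe u

open CategoryTheory CategoryTheory.Limits AlgebraicGeometry TopologicalSpace Opposite
open Groth.Agent.Picfga.RegLocus
open K857.OReg

namespace K857.T2

theorem hom_eq_of_appLE {S F : Scheme.{u}} {U : F.Opens} (hU : IsAffineOpen U) (u u' : S ⟶ F)
    (h : ⊤ ≤ u ⁻¹ᵁ U) (h' : ⊤ ≤ u' ⁻¹ᵁ U) (e : u.appLE U ⊤ h = u'.appLE U ⊤ h') : u = u' := by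
  have hr : Set.range u ⊆ Set.range U.ι := by
    rintro _ ⟨y, rfl⟩
    rw [Scheme.Opens.range_ι]
    exact h (x := y) trivial
  have hr' : Set.range u' ⊆ Set.range U.ι := by
    rintro _ ⟨y, rfl⟩
    rw [Scheme.Opens.range_ι]
    exact h' (x := y) trivial
  have hUa : IsAffine (U : Scheme.{u}) := hU
  let v := IsOpenImmersion.lift U.ι u hr
  let v' := IsOpenImmersion.lift U.ι u' hr'
  have hv : v ≫ U.ι = u := IsOpenImmersion.lift_fac _ _ _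
  have hv' : v' ≫ U.ι = u' := IsOpenImmersion.lift_fac _ _ _
  suffices h1 : v = v' by rw [← hv, ← hv', h1]
  apply ext_of_isAffine
  have hle : (⊤ : (U : Scheme.{u}).Opens) ≤ U.ι ⁻¹ᵁ U := by simp
  have hl1 : (⊤ : S.Opens) ≤ v ⁻¹ᵁ ⊤ := fun _ _ => trivial
  have hl2 : (⊤ : S.Opens) ≤ v' ⁻¹ᵁ ⊤ := fun _ _ => trivial
  have k1 : U.ι.appLE U ⊤ hle ≫ v.appLE ⊤ ⊤ hl1 = u.appLE U ⊤ h :=
    (Scheme.Hom.appLE_comp_appLE v U.ι U ⊤ ⊤ hle hl1).trans (by simp only [hv])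
  have k2 : U.ι.appLE U ⊤ hle ≫ v'.appLE ⊤ ⊤ hl2 = u'.appLE U ⊤ h' :=
    (Scheme.Hom.appLE_comp_appLE v' U.ι U ⊤ ⊤ hle hl2).trans (by simp only [hv'])
  have hiso : IsIso (U.ι.appLE U ⊤ hle) := inferInstanceAs (IsIso (U.ι.appLE U ⊤ U.ι_preimage_self.ge))
  have k3 : v.appLE ⊤ ⊤ hl1 = v'.appLE ⊤ ⊤ hl2 := by
    rw [← cancel_epi (U.ι.appLE U ⊤ hle), k1, k2, e]
  have k4 : v.appLE ⊤ ⊤ hl1 = v.appTop := Scheme.Hom.appLE_eq_app v
  have k5 : v'.appLE ⊤ ⊤ hl2 = v'.appTop := Scheme.Hom.appLE_eq_app v'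
  rw [← k4, ← k5, k3]

variable {k : Type u} [Field k] [IsAlgClosed k]

theorem eq_of_values {F : Scheme.{u}} [IsIntegral F] (s : F ⟶ Spec (CommRingCat.of k)) [IsProper s]
    {U : F.Opens} [Nonempty U] (hU : IsAffineOpen U) (xF yF : Γ(F, U))
    (hgen : ∀ S : Subring F.functionField, O (⊤ : F.Opens) ≤ S → F.germToFunctionField U xF ∈ S →
      F.germToFunctionField U yF ∈ S → O U ≤ S)
    (u u' : Spec (CommRingCat.of k) ⟶ F) (hu : u ≫ s = 𝟙 _) (hu' : u' ≫ s = 𝟙 _)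
    (h : ⊤ ≤ u ⁻¹ᵁ U) (h' : ⊤ ≤ u' ⁻¹ᵁ U) (ex : u.appLE U ⊤ h xF = u'.appLE U ⊤ h' xF)
    (ey : u.appLE U ⊤ h yF = u'.appLE U ⊤ h' yF) : u = u' := by
  refine hom_eq_of_appLE hU u u' h h' ?_
  ext t
  let S : Subring F.functionField :=
    (RingHom.eqLocus (u.appLE U ⊤ h).hom (u'.appLE U ⊤ h').hom).map (F.germToFunctionField U).hom
  have h1 := hgen S (fun g hg => ?_) ⟨xF, ex, rfl⟩ ⟨yF, ey, rfl⟩
  · obtain ⟨t', ht', e⟩ := h1 (germ_mem t)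
    have : t' = t := F.germToFunctionField_injective U e
    rw [← this]
    exact ht'
  · obtain ⟨c, rfl⟩ := exists_cst s hg
    rw [cst_germ s U]
    refine ⟨_, ?_, rfl⟩
    have k1 : s.appLE ⊤ U le_top ≫ u.appLE U ⊤ h = (u ≫ s).appLE ⊤ ⊤ le_top :=
      Scheme.Hom.appLE_comp_appLE _ _ _ _ _ _ _
    have k2 : s.appLE ⊤ U le_top ≫ u'.appLE U ⊤ h' = (u' ≫ s).appLE ⊤ ⊤ le_top :=
      Scheme.Hom.appLE_comp_appLE _ _ _ _ _ _ _
    have k3 : s.appLE ⊤ U le_top ≫ u.appLE U ⊤ h = s.appLE ⊤ U le_top ≫ u'.appLE U ⊤ h' := by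
      rw [k1, k2]
      simp only [hu, hu']
    exact congr($(k3).hom ((Scheme.ΓSpecIso (CommRingCat.of k)).inv c))

end K857.T2
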