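import Groth.Agent.Biell.K857.T2Fd
import Groth.Agent.Biell.K857.T2Val

/-!
# Separation of points by the Weierstrass coordinates on the fibres of a second projection
-/

set_option autoImplicit false
universe u

open CategoryTheory CategoryTheory.Limits AlgebraicGeometry TopologicalSpace Opposite
open Groth.Agent.Picfga.RegLocus
open K857.OReg K857.WeiField K857.EqnGeo K857.LD K857.Global K857.FibData

namespace K857.T2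

section

variable {Z Y : Scheme.{u}}

/-- Local data of a section only depend on the retraction through one inclusion. -/
theorem dat_change {q p' : Y ⟶ Z} {δ : Z ⟶ Y} [IsIntegral Y] [IsClosedImmersion δ] {W W' : Z.Opens}
    {U U' : Y.Opens} {z : Γ(Y, U)}
    (h : Dat q δ W U z) (hW' : IsAffineOpen W') (hU' : IsAffineOpen U') (hpre : δ ⁻¹ᵁ U' = W')
    (hle : U' ≤ p' ⁻¹ᵁ W') [Nonempty W'] [Nonempty U'] (hUU : U' ≤ U) : Dat p' δ W' U' (rs hUU z) := by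
  refine ⟨hW', hU', hpre, hle, inferInstance, ?_, ?_⟩
  · intro h0
    have : Nonempty U := ⟨⟨_, hUU (genericPoint_mem U')⟩⟩
    apply h.z0
    apply Y.germToFunctionField_injective U
    rw [map_zero, ← germ_rs hUU, h0, map_zero]
  · have h1 := δ.ker.map_ideal (U := ⟨U', hU'⟩) (V := ⟨U, h.affU⟩) hUU
    rw [← h1, h.ideal, Ideal.map_span, Set.image_singleton]
    rfl

theorem P_restrict [IsIntegral Z] [IsIntegral Y] (δ : Z ⟶ Y) {U U' : Y.Opens} [Nonempty U] [Nonempty U']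
    [Nonempty (δ ⁻¹ᵁ U : Z.Opens)] [Nonempty (δ ⁻¹ᵁ U' : Z.Opens)] (hUU : U' ≤ U)
    {z : Y.functionField} {n : ℕ} {g : Y.functionField} {c : Z.functionField}
    (h : P (pb δ U) z n g c) : P (pb δ U') z n g c := by
  obtain ⟨h1, h2⟩ := h
  refine ⟨O_mono hUU h1, ?_⟩
  rw [pb_restrict δ hUU _ h1]
  exact h2

end

section

variable {k : Type u} [Field k] [IsAlgClosed k]
variable {Z Y F : Scheme.{u}} [IsIntegral Z] [IsIntegral Y] [IsIntegral F]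

theorem sep {q p' : Y ⟶ Z} {δ : Z ⟶ Y} [IsDominant p'] {Δc : Y.Opens} [IsClosedImmersion δ]
    (hδ : δ ≫ p' = 𝟙 Z) (hΔ : ∀ y, y ∈ Δc ↔ y ∉ Set.range δ) [hne : Nonempty Δc]
    (xk : Spec (CommRingCat.of k) ⟶ Z) [IsClosedImmersion xk] (i : F ⟶ Y)
    (s : F ⟶ Spec (CommRingCat.of k)) [IsProper s] (hF : IsPullback i s p' xk)
    (haff : ∀ U : F.Opens, U ≠ ⊤ → IsAffineOpen U)
    (hH : ¬ Subsingleton (Coh.HH F (Coh.structureModule F) 1))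
    {W₀ : Z.Opens} {U₀ : Y.Opens} {z₀ : Γ(Y, U₀)} [Nonempty U₀] [Nonempty (δ ⁻¹ᵁ U₀ : Z.Opens)]
    (hD₀ : Dat q δ W₀ U₀ z₀) (pt : Spec (CommRingCat.of k))
    (hxW₀ : xk pt ∈ W₀) (ax ay : Γ(Y, Δc))
    (px : P (pb δ U₀) (Y.germToFunctionField U₀ z₀) 2 (Y.germToFunctionField Δc ax) 1)
    (py : P (pb δ U₀) (Y.germToFunctionField U₀ z₀) 3 (Y.germToFunctionField Δc ay) 1)
    {a b : Z.functionField} (ha : a ∈ O (⊤ : Z.Opens)) (hb : b ∈ O (⊤ : Z.Opens))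
    (heq : Y.germToFunctionField Δc ay ^ 2 = Y.germToFunctionField Δc ax ^ 3 +
      ff p' a * Y.germToFunctionField Δc ax + ff p' b)
    (u u' : Spec (CommRingCat.of k) ⟶ F) (hu : u ≫ s = 𝟙 _) (hu' : u' ≫ s = 𝟙 _)
    (h : ⊤ ≤ (u ≫ i) ⁻¹ᵁ Δc) (h' : ⊤ ≤ (u' ≫ i) ⁻¹ᵁ Δc)
    (ex : (u ≫ i).appLE Δc ⊤ h ax = (u' ≫ i).appLE Δc ⊤ h' ax)
    (ey : (u ≫ i).appLE Δc ⊤ h ay = (u' ≫ i).appLE Δc ⊤ h' ay) : u = u' := by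
  obtain ⟨W, U, hW, hU, hxW, hpre, hle, hWW, hUU⟩ := LD.exists_nhd hδ (xk pt) W₀
    hxW₀ U₀ (by rw [← hD₀.pre] at hxW₀; exact hxW₀)
  have hWne : Nonempty W := ⟨⟨_, hxW⟩⟩
  have hUx : δ (xk pt) ∈ U := by rw [← hpre] at hxW; exact hxW
  have hUne : Nonempty U := ⟨⟨_, hUx⟩⟩
  have hUne' : Nonempty (δ ⁻¹ᵁ U : Z.Opens) := ⟨⟨_, hUx⟩⟩
  have hD : Dat p' δ W U (rs hUU z₀) := dat_change hD₀ hW hU hpre hle hUU
  have fd := exists_fd hδ hΔ hne xk i s hF (xk pt) ⟨pt, rfl⟩ hH hD hxW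
  have hE := EqnGeo.isEqn p' δ hδ hU hpre hle (rs hUU z₀) hD.z0 hD.ideal Δc hΔ
  have hs : Short (ff p') (O W) (p' ⁻¹ᵁ W ⊓ Δc) (pb δ U) (Y.germToFunctionField U (rs hUU z₀))
      (Y.germToFunctionField Δc ax) (Y.germToFunctionField Δc ay) a b := by
    refine ⟨O_mono inf_le_right (germ_mem _), O_mono inf_le_right (germ_mem _), ?_, ?_,
      O_mono le_top ha, O_mono le_top hb, heq⟩
    · rw [germ_rs]; exact P_restrict δ hUU px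
    · rw [germ_rs]; exact P_restrict δ hUU py
  have hinv := ClosedPt.inv_mem s
  have haff' := haff _ fd.ne_top
  obtain ⟨nU, nP, nP', mx, my, co⟩ := exists_co fd hE hs hinv haff' hH
  have n0 := fd.n0
  have nV : Nonempty (p' ⁻¹ᵁ W ⊓ Δc : Y.Opens) := by
    obtain ⟨⟨w, hw⟩⟩ := n0
    exact ⟨⟨_, hw⟩⟩
  have hgx : ∀ (t : Γ(Y, Δc)) (mt : Y.germToFunctionField Δc t ∈ O ((p' ⁻¹ᵁ W ⊓ Δc) ⊓ U)),
      F.germToFunctionField (i ⁻¹ᵁ (p' ⁻¹ᵁ W ⊓ Δc)) (i.app (p' ⁻¹ᵁ W ⊓ Δc) (rs inf_le_right t)) =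
        pb i ((p' ⁻¹ᵁ W ⊓ Δc) ⊓ U) ⟨Y.germToFunctionField Δc t, mt⟩ := by
    intro t mt
    have e1 : Y.germToFunctionField (p' ⁻¹ᵁ W ⊓ Δc) (rs inf_le_right t) = Y.germToFunctionField Δc t :=
      germ_rs _ _
    have mt' : Y.germToFunctionField Δc t ∈ O (p' ⁻¹ᵁ W ⊓ Δc) := O_mono inf_le_right (germ_mem _)
    have e2 : pb i ((p' ⁻¹ᵁ W ⊓ Δc) ⊓ U) ⟨Y.germToFunctionField Δc t, mt⟩ =
        pb i (p' ⁻¹ᵁ W ⊓ Δc) ⟨Y.germToFunctionField Δc t, mt'⟩ :=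
      pb_restrict i (inf_le_left : (p' ⁻¹ᵁ W ⊓ Δc) ⊓ U ≤ _) _ mt' mt
    have e3 : (⟨Y.germToFunctionField Δc t, mt'⟩ : O (p' ⁻¹ᵁ W ⊓ Δc)) =
        ⟨Y.germToFunctionField (p' ⁻¹ᵁ W ⊓ Δc) (rs inf_le_right t), germ_mem _⟩ := Subtype.ext e1.symm
    rw [e2, e3, pb_germ]
  have hmem : ∀ v : Spec (CommRingCat.of k) ⟶ F, ⊤ ≤ (v ≫ i) ⁻¹ᵁ Δc →
      (⊤ : (Spec (CommRingCat.of k)).Opens) ≤ v ⁻¹ᵁ (i ⁻¹ᵁ (p' ⁻¹ᵁ W ⊓ Δc)) := by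
    intro v hv w _
    refine ⟨?_, hv (x := w) trivial⟩
    have : v w ∈ i ⁻¹ᵁ (p' ⁻¹ᵁ W) := by rw [fd.top]; trivial
    exact this
  have hval : ∀ (v : Spec (CommRingCat.of k) ⟶ F) (hv : ⊤ ≤ (v ≫ i) ⁻¹ᵁ Δc) (t : Γ(Y, Δc)),
      v.appLE (i ⁻¹ᵁ (p' ⁻¹ᵁ W ⊓ Δc)) ⊤ (hmem v hv) (i.app (p' ⁻¹ᵁ W ⊓ Δc) (rs inf_le_right t)) =
        (v ≫ i).appLE Δc ⊤ hv t := by
    intro v hv t
    have e1 : i.app (p' ⁻¹ᵁ W ⊓ Δc) = i.appLE (p' ⁻¹ᵁ W ⊓ Δc) (i ⁻¹ᵁ (p' ⁻¹ᵁ W ⊓ Δc)) le_rfl :=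
      Scheme.Hom.app_eq_appLE _
    have e2 : i.appLE (p' ⁻¹ᵁ W ⊓ Δc) (i ⁻¹ᵁ (p' ⁻¹ᵁ W ⊓ Δc)) le_rfl ≫
        v.appLE (i ⁻¹ᵁ (p' ⁻¹ᵁ W ⊓ Δc)) ⊤ (hmem v hv) =
        (v ≫ i).appLE (p' ⁻¹ᵁ W ⊓ Δc) ⊤ (hmem v hv) := Scheme.Hom.appLE_comp_appLE _ _ _ _ _ _ _
    have e3 : Y.presheaf.map (homOfLE (inf_le_right : p' ⁻¹ᵁ W ⊓ Δc ≤ Δc)).op ≫
        (v ≫ i).appLE (p' ⁻¹ᵁ W ⊓ Δc) ⊤ (hmem v hv) = (v ≫ i).appLE Δc ⊤ hv :=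
      Scheme.Hom.map_appLE _ _ _
    rw [← e3, ← e2, e1]
    rfl
  refine eq_of_values s haff' _ _ (fun S hS hx hy => ?_) u u' hu hu' (hmem u h) (hmem u' h')
    ((hval u h ax).trans (ex.trans (hval u' h' ax).symm))
    ((hval u h ay).trans (ey.trans (hval u' h' ay).symm))
  rw [hgx ax mx] at hx
  rw [hgx ay my] at hy
  exact FibGen.gen co S hS hx hy

end

end K857.T2
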