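import Groth.Agent.Biell.K857.T1Core
import Groth.Agent.PicF.K246.Basic
import Groth.Agent.S14809

/-!
# If the canonical sheaf is trivial, the comparison unit of two charts splits
-/

set_option autoImplicit false
universe u

open CategoryTheory CategoryTheory.Limits AlgebraicGeometry TopologicalSpace Opposite
open Groth.Agent Groth.Agent.Fdesc.LocGen Groth.Agent.Picfga.RegLocus
open K857.OReg K857.WeiField K857.GenSec

namespace K857.T2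

variable {k : Type u} [Field k] [IsAlgClosed k] {X E : Scheme.{u}}
    [X.Over (Spec (CommRingCat.of k))] [E.Over (Spec (CommRingCat.of k))] {f : X ⟶ E}

/-- Two generators over an open differ by a unit. -/
theorem exists_unit_gen {X : Scheme.{u}} {M : X.Modules} {U : X.Opens}
    {m l : Γ(M, U)} (hm : IsGen m) (hl : IsGen l) :
    ∃ a b : Γ(X, U), m = a • l ∧ a * b = 1 := by
  obtain ⟨a, ha, hml⟩ := hl.exists_unit hm
  obtain ⟨b, hb⟩ := ha.exists_right_inv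
  exact ⟨a, b, hml, hb⟩

theorem exists_split (h : Setup k f) (h6 : (6 : k) ≠ 0)
    [IsIntegral X] [IsIntegral E] [IsDominant f]
    (ω : X.Modules) (hω : Canon.IsTopDiff (X ↘ Spec (CommRingCat.of k)) 2 ω)
    (hω0 : Nonempty (ω ≅ Coh.structureModule X))
    {A A₁ : E.Opens} {V V' V₁ V₁' : X.Opens} {e e₁ : X.functionField} {w : E.functionField}
    (hT : Atlas f A A₁ V V' V₁ V₁' e e₁ w) :
    ∃ a a₁ : E.functionField, a ≠ 0 ∧ a₁ ≠ 0 ∧ a ∈ O A ∧ a⁻¹ ∈ O A ∧ a₁ ∈ O A₁ ∧ a₁⁻¹ ∈ O A₁ ∧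
      a * w = a₁ := by
  have := h.prop
  have := h.smooth
  have := h.isNoetherianX
  have := h.isNoetherianE
  have := h.lfp
  have := hT.neA
  have := hT.neA₁
  obtain ⟨α, β, hα, hβ, hα', hβ', hd⟩ := Square.exists_coef_two h h6 hT.affA hT.affA₁ hT.neA hT.neA₁
    hT.chart hT.affV hT.chart₁ hT.affV₁ hT.w0 hT.hw hT.hw' hT.rel
  have hUcov : f ⁻¹ᵁ A ⊔ f ⁻¹ᵁ A₁ = ⊤ := by
    have h1 : f ⁻¹ᵁ (A ⊔ A₁) = ⊤ := by rw [hT.cover]; rfl
    exact h1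
  have := nonempty_preimage f A
  have := nonempty_preimage f A₁
  have hc0 : ff f w ≠ 0 := (map_ne_zero (ff f)).mpr hT.w0
  have hc : ff f w ∈ O (f ⁻¹ᵁ A ⊓ f ⁻¹ᵁ A₁) := ff_mem f hT.hw
  have hc' : (ff f w)⁻¹ ∈ O (f ⁻¹ᵁ A ⊓ f ⁻¹ᵁ A₁) := by
    rw [← map_inv₀]; exact ff_mem f hT.hw'
  obtain ⟨M, l₀, l₁, hM, g0, g1, h01, h10⟩ := T1.exists_line hUcov hc0 hc hc'
  -- non-vanishing of `H²(X, M)`
  have hH2 : ¬ Subsingleton (Coh.HH X M 2) := by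
    intro hs
    have h1 := H2Ne.exists_sub_of_H2 f hM hs hT.cover hT.chart hT.chart₁ hT.chartB hT.w0 hT.hw' hT.rel g0 g1
      (by
        intro hne hm
        have h2 := h10 hne
        have h3 : (⟨(ff f w)⁻¹, hc'⟩ : O (f ⁻¹ᵁ A ⊓ f ⁻¹ᵁ A₁)) = ⟨ff f w⁻¹, hm⟩ :=
          Subtype.ext (map_inv₀ (ff f) w).symm
        rw [h3] at h2
        exact h2)
    have h4 : Subsingleton (Coh.HH E (Coh.structureModule E) 1) := by
      refine H1Cech.subsingleton hT.cover hT.affA hT.affA₁ fun t ht => ?_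
      obtain ⟨a, ha, b, hb, hab⟩ := h1 t ht
      exact ⟨-a, neg_mem ha, -b, neg_mem hb, by rw [hab]; ring⟩
    have h5 := h.fibr.genus
    have h6 := Module.finrank_zero_of_subsingleton (R := k) (M := Coh.HH E (Coh.structureModule E) 1)
    exact one_ne_zero (h5.symm.trans h6)
  have hinv : PicF.IsInvertible ω := K455.Canon.isInvertible (X ↘ Spec (CommRingCat.of k)) 2 hω
  obtain ⟨M', hM', eM⟩ := Grpsch.PicGrp.exists_inverse hM
  have hpos : 0 < Module.finrank k (Coh.HH X M 2) := by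
    have hfin : Module.Finite k (Coh.HH X M 2) := by
      refine Groth.Agent.S0002.result k X M ?_ 2
      exact S2329.isCoh_of_isInvertible hM
    have hnt : Nontrivial (Coh.HH X M 2) := not_subsingleton_iff_nontrivial.mp hH2
    exact Module.finrank_pos
  rw [K455.SmoothRR.finrank_dual k hω hM eM 0 2 rfl] at hpos
  obtain ⟨s, hs⟩ := SecLib.exists_section k hpos
  -- `M'` has a section
  obtain ⟨s', hs'⟩ : ∃ s' : Γ(M', ⊤), s' ≠ 0 := by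
    have h2 : Nonempty (CohB1.tensorMod ω M' ≅ M') := by
      rw [← Fga.PicMon.mc_eq_iff, Fga.PicMon.mc_tensor]
      have h3 : Fga.PicMon.mc ω = 1 := by
        rw [← Fga.PicMon.mc_one, Fga.PicMon.mc_eq_iff]; exact hω0
      rw [h3, one_mul]
    obtain ⟨φ⟩ := h2
    refine ⟨φ.hom.app ⊤ s, fun h0 => hs ?_⟩
    have h4 : s = φ.inv.app ⊤ (φ.hom.app ⊤ s) :=
      (congr($(congrArg (fun q => Scheme.Modules.Hom.app q ⊤) φ.hom_inv_id) s)).symm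
    rw [h4, h0, map_zero]
  have hF := isField_of_universallyClosed k (X ↘ Spec (CommRingCat.of k))
  -- a power of `M` has a section
  have hpow : ∃ n : ℕ, 0 < n ∧ ∃ t : Γ(CohB1.tensorPow M n, ⊤), t ≠ 0 := by
    by_cases hα0 : α = 0
    · have hβ0 : β ≠ 0 := by
        rintro rfl
        exact hd (by rw [hα0]; ring)
      refine ⟨6, by norm_num, T1.exists_sec_pow hUcov hc g0 h01 6 (ff_mem f hβ) ?_
        ((map_ne_zero (ff f)).mpr hβ0)⟩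
      rw [← map_pow, ← map_mul]
      exact ff_mem f hβ'
    · refine ⟨4, by norm_num, T1.exists_sec_pow hUcov hc g0 h01 4 (ff_mem f hα) ?_
        ((map_ne_zero (ff f)).mpr hα0)⟩
      rw [← map_pow, ← map_mul]
      exact ff_mem f hα'
  obtain ⟨n, hn, t, ht⟩ := hpow
  obtain ⟨t', ht'⟩ := K456.SecTriv.exists_ne_zero_tensorPow hM' hs' n
  have hinvn : Grpsch.PicGrp.mk (CohB1.tensorPow M' n) (isInvertible_tensorPow hM' n) *
      Grpsch.PicGrp.mk (CohB1.tensorPow M n) (isInvertible_tensorPow hM n) = 1 := by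
    rw [Grpsch.PicGrp.mk_tensorPow hM', Grpsch.PicGrp.mk_tensorPow hM, ← mul_pow]
    have h3 : Grpsch.PicGrp.mk M hM * Grpsch.PicGrp.mk M' hM' = 1 := by
      obtain ⟨eM'⟩ := eM
      exact Grpsch.PicGrp.mk_congr eM'
    rw [mul_comm, h3, one_pow]
  have h5 := K456.SecTriv.eq_one_of_sections hF (isInvertible_tensorPow hM' n)
    (isInvertible_tensorPow hM n) hinvn t' ht' t ht
  have h6' : Nonempty (CohB1.tensorPow M' n ≅ Coh.structureModule X) :=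
    (Grpsch.PicGrp.mk_eq_one_iff _).1 h5
  have h7 : Nonempty (M' ≅ Coh.structureModule X) := by
    refine S14809.result X hF M' hM' (homOf s') (fun h0 => hs' ?_) n hn h6'
    have h1 := sec_homOf s' ⊤
    rw [h0, res_refl] at h1
    rw [← h1]
    rfl
  have h8 : Nonempty (M ≅ Coh.structureModule X) := by
    rw [← Grpsch.PicGrp.mk_eq_one_iff hM]
    have h3 : Grpsch.PicGrp.mk M hM * Grpsch.PicGrp.mk M' hM' = 1 := by
      obtain ⟨eM'⟩ := eM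
      exact Grpsch.PicGrp.mk_congr eM'
    rwa [(Grpsch.PicGrp.mk_eq_one_iff hM').2 h7, mul_one] at h3
  obtain ⟨m, hm⟩ := K246.Basic.nonempty_iso_iff_top.1 h8
  obtain ⟨a, b, hma, hab⟩ := exists_unit_gen (hm.res (le_top : f ⁻¹ᵁ A ≤ ⊤)) g0
  obtain ⟨a₁, b₁, hma₁, hab₁⟩ := exists_unit_gen (hm.res (le_top : f ⁻¹ᵁ A₁ ≤ ⊤)) g1
  have hB := nonempty_inf A A₁
  have hB' := nonempty_inf (f ⁻¹ᵁ A) (f ⁻¹ᵁ A₁)
  -- comparison
  obtain ⟨c, hcc⟩ := exists_sec hc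
  have key : rs inf_le_left a * c = rs (inf_le_right : f ⁻¹ᵁ A ⊓ f ⁻¹ᵁ A₁ ≤ f ⁻¹ᵁ A₁) a₁ := by
    refine (g1.res (inf_le_right : f ⁻¹ᵁ A ⊓ f ⁻¹ᵁ A₁ ≤ f ⁻¹ᵁ A₁)).ext ?_
    have h1 : res M (inf_le_left : f ⁻¹ᵁ A ⊓ f ⁻¹ᵁ A₁ ≤ f ⁻¹ᵁ A) l₀ =
        c • res M (inf_le_right : f ⁻¹ᵁ A ⊓ f ⁻¹ᵁ A₁ ≤ f ⁻¹ᵁ A₁) l₁ := by
      rw [h01 hB']
      have h3 : (⟨ff f w, hc⟩ : O (f ⁻¹ᵁ A ⊓ f ⁻¹ᵁ A₁)) =
          ⟨X.germToFunctionField (f ⁻¹ᵁ A ⊓ f ⁻¹ᵁ A₁) c, germ_mem c⟩ := Subtype.ext hcc.symm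
      rw [h3, mk_germ]
    have h2 : res M (inf_le_left : f ⁻¹ᵁ A ⊓ f ⁻¹ᵁ A₁ ≤ f ⁻¹ᵁ A) (res M le_top m) =
        res M (inf_le_right : f ⁻¹ᵁ A ⊓ f ⁻¹ᵁ A₁ ≤ f ⁻¹ᵁ A₁) (res M le_top m) := by
      rw [res_res, res_res]
    rw [hma, hma₁, res_smul, res_smul, h1, smul_smul] at h2
    exact h2
  have key' : X.germToFunctionField (f ⁻¹ᵁ A) a * ff f w = X.germToFunctionField (f ⁻¹ᵁ A₁) a₁ := by
    have h1 := congrArg (X.germToFunctionField (f ⁻¹ᵁ A ⊓ f ⁻¹ᵁ A₁)) key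
    rwa [map_mul, germ_rs, germ_rs, hcc] at h1
  obtain ⟨α₀, hα₀, e0⟩ := hT.chart.H0 _ (germ_mem a)
  obtain ⟨β₀, hβ₀, e0'⟩ := hT.chart.H0 _ (germ_mem b)
  obtain ⟨α₁, hα₁, e1⟩ := hT.chart₁.H0 _ (germ_mem a₁)
  obtain ⟨β₁, hβ₁, e1'⟩ := hT.chart₁.H0 _ (germ_mem b₁)
  have i0 : α₀ * β₀ = 1 := by
    apply (ff f).injective
    rw [map_mul, e0, e0', ← map_mul, hab, map_one, map_one]
  have i1 : α₁ * β₁ = 1 := by
    apply (ff f).injective
    rw [map_mul, e1, e1', ← map_mul, hab₁, map_one, map_one]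
  refine ⟨α₀, α₁, left_ne_zero_of_mul_eq_one i0, left_ne_zero_of_mul_eq_one i1, hα₀, ?_, hα₁, ?_, ?_⟩
  · rw [← eq_inv_of_mul_eq_one_right i0]; exact hβ₀
  · rw [← eq_inv_of_mul_eq_one_right i1]; exact hβ₁
  · apply (ff f).injective
    rw [map_mul, e0, e1, key']

/-- Scaling the generator of a chart by a unit. -/
theorem IsChart.scale {Y : Scheme.{u}} [IsIntegral Y] {κ : Type u} [Field κ] {ι : κ →+* Y.functionField}
    {R : Subring κ} {D V V' : Y.Opens} {e : Y.functionField} (h : IsChart ι R D V V' e) {r : κ}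
    (hr0 : r ≠ 0) (hr : r ∈ R) (hr' : r⁻¹ ∈ R) : IsChart ι R D V V' (ι r * e) := by
  have hVD : V ⊓ V' ≤ D := inf_le_left.trans (h.cover ▸ le_sup_left)
  refine ⟨h.aff, h.aff', h.cover, h.ne, h.ne', h.H0, h.mem, mul_mem (O_mono hVD (h.mem r hr)) h.he, ?_, ?_⟩
  · intro d hd
    obtain ⟨s, hs, a, ha, b, hb, e1⟩ := h.gen d hd
    refine ⟨s * r⁻¹, mul_mem hs hr', a, ha, b, hb, ?_⟩
    rw [e1, ← mul_assoc, ← map_mul, mul_assoc, inv_mul_cancel₀ hr0, mul_one]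
  · intro s hs a ha b hb e1
    have h1 := h.free (s * r) (mul_mem hs hr) a ha b hb (by rw [← e1, map_mul, mul_assoc])
    exact (mul_eq_zero.mp h1).resolve_right hr0

theorem Atlas.one [IsIntegral X] [IsIntegral E] [IsDominant f] {A A₁ : E.Opens}
    {V V' V₁ V₁' : X.Opens} {e e₁ : X.functionField} {w : E.functionField}
    (hT : Atlas f A A₁ V V' V₁ V₁' e e₁ w) {a a₁ : E.functionField} (ha0 : a ≠ 0) (ha10 : a₁ ≠ 0)
    (ha : a ∈ O A) (ha' : a⁻¹ ∈ O A) (ha1 : a₁ ∈ O A₁) (ha1' : a₁⁻¹ ∈ O A₁) (haw : a * w = a₁) :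
    Atlas f A A₁ V V' V₁ V₁' (ff f a⁻¹ * e) (ff f a₁⁻¹ * e₁) 1 := by
  have := hT.neA
  have := hT.neA₁
  refine ⟨hT.affA, hT.affA₁, hT.neA, hT.neA₁, hT.cover,
    IsChart.scale hT.chart (inv_ne_zero ha0) ha' (by rwa [inv_inv]),
    IsChart.scale hT.chart₁ (inv_ne_zero ha10) ha1' (by rwa [inv_inv]),
    IsChart.scale hT.chartB (inv_ne_zero ha0) (O_mono inf_le_left ha')
      (by rw [inv_inv]; exact O_mono inf_le_left ha), hT.affV, hT.affV₁, one_ne_zero, one_mem _, ?_, ?_⟩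
  · rw [inv_one]; exact one_mem _
  · have hm : ff f a₁⁻¹ ∈ O (f ⁻¹ᵁ (A ⊓ A₁)) := ff_mem f (O_mono inf_le_right ha1')
    have h1 := hT.rel.mul (r := ff f a₁⁻¹) (O_mono inf_le_right hm) (O_mono inf_le_right hm)
    convert h1 using 1
    rw [map_one, one_mul, mul_neg, ← mul_assoc, ← map_mul]
    congr 3
    rw [← haw, mul_inv, mul_assoc, inv_mul_cancel₀ hT.w0, mul_one]

end K857.T2
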