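import Groth.Agent.S2324
import Groth.Agent.Picfga.CurvePts
import Groth.Agent.Biell.K857.FibGeo

/-!
# Two affine opens covering the fibres over a finite set of points
-/

set_option autoImplicit false
universe u

open CategoryTheory CategoryTheory.Limits AlgebraicGeometry TopologicalSpace

namespace K857.TwoOpens

theorem isAffineOpen_inf_preimage {X E : Scheme.{u}} (f : X ⟶ E) (hE : E.IsSeparated) {V : X.Opens}
    (hV : IsAffineOpen V) {A : E.Opens} (hA : IsAffineOpen A) : IsAffineOpen (V ⊓ f ⁻¹ᵁ A) := by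
  have : IsAffine V := hV
  have h1 : IsAffineHom (V.ι ≫ f) := by
    have h2 : IsAffineHom ((V.ι ≫ f) ≫ terminal.from E) := by
      have : (V.ι ≫ f) ≫ terminal.from E = terminal.from _ := Subsingleton.elim _ _
      rw [this]
      infer_instance
    have h3 : IsSeparated (terminal.from E) := hE.isSeparated_terminal_from
    exact IsAffineHom.of_comp _ (terminal.from E)
  have h2 : IsAffineOpen ((V.ι ≫ f) ⁻¹ᵁ A) := hA.preimage (V.ι ≫ f)
  have h3 := h2.image_of_isOpenImmersion V.ι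
  have h4 : V.ι ''ᵁ ((V.ι ≫ f) ⁻¹ᵁ A) = V ⊓ f ⁻¹ᵁ A := by
    change V.ι ''ᵁ (V.ι ⁻¹ᵁ (f ⁻¹ᵁ A)) = _
    rw [Scheme.Hom.image_preimage_eq_opensRange_inf, Scheme.Opens.opensRange_ι]
  rwa [h4] at h3

variable {k : Type u} [Field k] [IsAlgClosed k] {X E : Scheme.{u}}
    [X.Over (Spec (CommRingCat.of k))] [E.Over (Spec (CommRingCat.of k))] {f : X ⟶ E}

theorem _root_.K857.Setup.sepE (h : Setup k f) : E.IsSeparated := by
  have := h.fibr.proper
  exact ⟨by
    have h1 : IsSeparated ((E ↘ Spec (CommRingCat.of k)) ≫ terminal.from _) := inferInstance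
    have h2 : (E ↘ Spec (CommRingCat.of k)) ≫ terminal.from _ = terminal.from E := Subsingleton.elim _ _
    rwa [h2] at h1⟩

theorem _root_.K857.Setup.sepX (h : Setup k f) : X.IsSeparated := by
  have := h.prop
  exact ⟨by
    have h1 : IsSeparated ((X ↘ Spec (CommRingCat.of k)) ≫ terminal.from _) := inferInstance
    have h2 : (X ↘ Spec (CommRingCat.of k)) ≫ terminal.from _ = terminal.from X := Subsingleton.elim _ _
    rwa [h2] at h1⟩

theorem exists_two_opens (h : Setup k f) (hproj : ∃ H : X.Modules, CohB1.IsAmple H) {ι : Type}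
    [Finite ι] (x : ι → (Spec (CommRingCat.of k) ⟶ E))
    (hk : ∀ j, x j ≫ (E ↘ Spec (CommRingCat.of k)) = 𝟙 _) {A₁ : E.Opens} (hA₁ : A₁ ≠ ⊤)
    (hx : ∀ j, ⊤ ≤ x j ⁻¹ᵁ A₁) :
    ∃ (A : E.Opens) (V V' : X.Opens), IsAffineOpen A ∧ A ≤ A₁ ∧ (∀ j, ⊤ ≤ x j ⁻¹ᵁ A) ∧
      IsAffineOpen V ∧ IsAffineOpen V' ∧ IsAffineOpen (V ⊓ V') ∧ V ⊔ V' = f ⁻¹ᵁ A := by
  classical
  obtain ⟨H, hH⟩ := hproj
  have := h.isProper
  have := h.isNoetherianX
  have := h.isNoetherianE
  have := h.sepX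
  have hEs := h.sepE
  have := h.fibr.integral
  have := h.fibr.proper
  have hint : ∀ j, IsIntegral (pullback f (x j)) := fun j => h.gen.integral _ (hk j)
  have hnoeth : ∀ j, IsNoetherian (pullback f (x j) : Scheme.{u}) := fun j => by
    have h1 : IsLocallyNoetherian (pullback f (x j) : Scheme.{u}) :=
      LocallyOfFiniteType.isLocallyNoetherian (pullback.snd f (x j))
    have h2 : CompactSpace (pullback f (x j) : Scheme.{u}) :=
      QuasiCompact.compactSpace_of_compactSpace (pullback.snd f (x j))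
    exact {}
  -- the first open
  let Z₁ : Set X := Set.range fun j => pullback.fst f (x j) (genericPoint (pullback f (x j) : Scheme.{u}))
  obtain ⟨n, s, hs1, -, hs2⟩ := Groth.Agent.S2324.result X H hH Z₁ (Set.finite_range _) ⊤ (fun _ _ => trivial)
  set V₀ := CohB1.genLocus _ s with hV₀
  let C : ∀ j, Set (pullback f (x j) : Scheme.{u}) := fun j =>
    ((pullback.fst f (x j) ⁻¹ᵁ V₀ : (pullback f (x j) : Scheme.{u}).Opens) : Set _)ᶜ
  have hCfin : ∀ j, (C j).Finite := fun j => by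
    refine Groth.Agent.Picfga.CurvePts.finite_of_forall_isClosed_singleton
      (pullback.fst f (x j) ⁻¹ᵁ V₀).2.isClosed_compl fun w hw => ?_
    refine Groth.Agent.Picfga.CurvePts.isClosed_singleton_of_dim_le_one (h.dim_fibre (x j) (hk j)).le ?_
    rintro rfl
    exact hw (hs1 ⟨j, rfl⟩)
  let Z₂ : Set X := ⋃ j, pullback.fst f (x j) '' C j
  have hZ₂ : Z₂.Finite := Set.finite_iUnion fun j => (hCfin j).image _
  obtain ⟨n', s', hs1', -, hs2'⟩ := Groth.Agent.S2324.result X H hH Z₂ hZ₂ ⊤ (fun _ _ => trivial)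
  set V₀' := CohB1.genLocus _ s' with hV₀'
  let B : Set E := f '' ((V₀ ⊔ V₀' : X.Opens) : Set X)ᶜ
  have hB : IsClosed B := f.isClosedMap _ (V₀ ⊔ V₀').2.isClosed_compl
  let A : E.Opens := A₁ ⊓ ⟨Bᶜ, hB.isOpen_compl⟩
  have hA : IsAffineOpen A := by
    refine CurveAff.isAffineOpen_of_ne_top (E ↘ Spec (CommRingCat.of k)) h.dimE.le A fun htop => hA₁ ?_
    rw [eq_top_iff, ← htop]
    exact inf_le_left
  have hfA : f ⁻¹ᵁ A ≤ V₀ ⊔ V₀' := by
    intro w hw
    by_contra hcon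
    exact hw.2 ⟨w, hcon, rfl⟩
  have hxA : ∀ j, ⊤ ≤ x j ⁻¹ᵁ A := by
    intro j y _
    refine ⟨hx j (x := y) trivial, ?_⟩
    rintro ⟨w, hw, hwy⟩
    obtain ⟨w', rfl⟩ : w ∈ Set.range (pullback.fst f (x j)) := by
      rw [Scheme.Pullback.range_fst]
      exact ⟨y, hwy.symm⟩
    apply hw
    by_cases hw' : pullback.fst f (x j) w' ∈ V₀
    · exact Or.inl hw'
    · exact Or.inr (hs1' (Set.mem_iUnion.mpr ⟨j, w', hw', rfl⟩))
  have hdiag : IsAffineOpen (V₀ ⊓ V₀') := hs2.inf hs2'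
  refine ⟨A, V₀ ⊓ f ⁻¹ᵁ A, V₀' ⊓ f ⁻¹ᵁ A, hA, inf_le_left, hxA, isAffineOpen_inf_preimage f hEs hs2 hA,
    isAffineOpen_inf_preimage f hEs hs2' hA, ?_, ?_⟩
  · rw [← inf_inf_distrib_right]
    exact isAffineOpen_inf_preimage f hEs hdiag hA
  · rw [← inf_sup_right]
    exact inf_eq_right.mpr hfA

end K857.TwoOpens
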