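import Mathlib.RingTheory.Ideal.Quotient.Operations
import Mathlib.Algebra.Algebra.Subalgebra.Basic
import Mathlib.Tactic.LinearCombination
import Mathlib.Tactic.Ring

/-!
# Short Weierstrass coordinates from two-chart data

`R` is a ring, `B₀` the functions on the complement of a section, `B₁` the functions on a
neighbourhood of the section, `T` the functions on the intersection, `z` a local equation of the
section and `ρ` the restriction to the section.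
-/

set_option autoImplicit false
universe u v

namespace K857.WeiAlg

variable {R : Type u} [CommRing R] {B₀ B₁ T : Type v} [CommRing B₀] [CommRing B₁] [CommRing T]
  [Algebra R B₀] [Algebra R B₁] [Algebra R T]

/-- Two-chart data of a pointed curve of genus one. -/
structure WD (i₀ : B₀ →ₐ[R] T) (i₁ : B₁ →ₐ[R] T) (z : B₁) (w : T) (ρ : B₁ →ₐ[R] R) : Prop where
  inj₀ : Function.Injective i₀
  inj₁ : Function.Injective i₁
  zw : i₁ z * w = 1
  ker : ∀ h : B₁, ρ h = 0 → ∃ h' : B₁, h = z * h'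
  rz : ρ z = 0
  loc : ∀ g : B₀, ∃ (n : ℕ) (h : B₁), i₁ h = i₁ z ^ n * i₀ g
  H0 : ∀ (g : B₀) (h : B₁), i₀ g = i₁ h → ∃ c : R, g = algebraMap R B₀ c
  H1 : ∀ n : ℕ, ∃ (c : R) (g : B₀) (h : B₁), w ^ n = c • w + i₀ g + i₁ h
  H1' : ∀ (c : R) (g : B₀) (h : B₁), c • w = i₀ g + i₁ h → c = 0

/-- `g` has a pole of order at most `n` along the section with leading coefficient `c`. -/
def Pole (i₀ : B₀ →ₐ[R] T) (i₁ : B₁ →ₐ[R] T) (z : B₁) (ρ : B₁ →ₐ[R] R) (n : ℕ) (g : B₀) (c : R) :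
    Prop :=
  ∃ h : B₁, i₁ h = i₁ z ^ n * i₀ g ∧ ρ h = c

section

variable {i₀ : B₀ →ₐ[R] T} {i₁ : B₁ →ₐ[R] T} {z : B₁} {w : T} {ρ : B₁ →ₐ[R] R}

theorem Pole.add {n : ℕ} {g g' : B₀} {c c' : R} (h : Pole i₀ i₁ z ρ n g c)
    (h' : Pole i₀ i₁ z ρ n g' c') : Pole i₀ i₁ z ρ n (g + g') (c + c') := by
  obtain ⟨a, ha, rfl⟩ := h
  obtain ⟨b, hb, rfl⟩ := h'
  exact ⟨a + b, by rw [map_add, map_add, ha, hb, mul_add], by rw [map_add]⟩

theorem Pole.mul {n m : ℕ} {g g' : B₀} {c c' : R} (h : Pole i₀ i₁ z ρ n g c)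
    (h' : Pole i₀ i₁ z ρ m g' c') : Pole i₀ i₁ z ρ (n + m) (g * g') (c * c') := by
  obtain ⟨a, ha, rfl⟩ := h
  obtain ⟨b, hb, rfl⟩ := h'
  exact ⟨a * b, by rw [map_mul, map_mul, ha, hb, pow_add]; ring, by rw [map_mul]⟩

theorem Pole.pow {n : ℕ} {g : B₀} {c : R} (h : Pole i₀ i₁ z ρ n g c) (k : ℕ) :
    Pole i₀ i₁ z ρ (n * k) (g ^ k) (c ^ k) := by
  induction k with
  | zero => exact ⟨1, by simp, by simp⟩
  | succ k ih => rw [pow_succ, pow_succ, Nat.mul_succ]; exact ih.mul h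

theorem Pole.const (c : R) : Pole i₀ i₁ z ρ 0 (algebraMap R B₀ c) c :=
  ⟨algebraMap R B₁ c, by simp, by simp⟩

theorem Pole.smul {n : ℕ} {g : B₀} {c : R} (h : Pole i₀ i₁ z ρ n g c) (r : R) :
    Pole i₀ i₁ z ρ n (r • g) (r * c) := by
  have := (Pole.const (i₀ := i₀) (i₁ := i₁) (z := z) (ρ := ρ) r).mul h
  rwa [zero_add, ← Algebra.smul_def] at this

theorem Pole.neg {n : ℕ} {g : B₀} {c : R} (h : Pole i₀ i₁ z ρ n g c) :
    Pole i₀ i₁ z ρ n (-g) (-c) := by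
  have := h.smul (-1)
  simpa using this

theorem Pole.sub {n : ℕ} {g g' : B₀} {c c' : R} (h : Pole i₀ i₁ z ρ n g c)
    (h' : Pole i₀ i₁ z ρ n g' c') : Pole i₀ i₁ z ρ n (g - g') (c - c') := by
  rw [sub_eq_add_neg, sub_eq_add_neg]; exact h.add h'.neg

/-- weakening the pole order -/
theorem Pole.succ (H : WD i₀ i₁ z w ρ) {n : ℕ} {g : B₀} {c : R} (h : Pole i₀ i₁ z ρ n g c) :
    Pole i₀ i₁ z ρ (n + 1) g 0 := by
  obtain ⟨a, ha, rfl⟩ := h
  exact ⟨z * a, by rw [map_mul, ha, pow_succ]; ring, by rw [map_mul, H.rz, zero_mul]⟩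

theorem Pole.mono (H : WD i₀ i₁ z w ρ) {n m : ℕ} (hnm : n < m) {g : B₀} {c : R}
    (h : Pole i₀ i₁ z ρ n g c) : Pole i₀ i₁ z ρ m g 0 := by
  induction m, hnm using Nat.le_induction with
  | base => exact h.succ H
  | succ m _ ih => exact ih.succ H

theorem Pole.unique (H : WD i₀ i₁ z w ρ) {n : ℕ} {g : B₀} {c c' : R} (h : Pole i₀ i₁ z ρ n g c)
    (h' : Pole i₀ i₁ z ρ n g c') : c = c' := by
  obtain ⟨a, ha, rfl⟩ := h
  obtain ⟨b, hb, rfl⟩ := h'
  rw [H.inj₁ (ha.trans hb.symm)]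

/-- a vanishing leading coefficient lowers the pole order -/
theorem Pole.pred (H : WD i₀ i₁ z w ρ) {n : ℕ} {g : B₀} (h : Pole i₀ i₁ z ρ (n + 1) g 0) :
    ∃ c, Pole i₀ i₁ z ρ n g c := by
  obtain ⟨a, ha, ha0⟩ := h
  obtain ⟨b, rfl⟩ := H.ker a ha0
  refine ⟨ρ b, b, ?_, rfl⟩
  have h1 : i₁ z * i₁ b = i₁ z * (i₁ z ^ n * i₀ g) := by rw [← map_mul, ha, pow_succ]; ring
  linear_combination w * h1 + (i₁ z ^ n * i₀ g - i₁ b) * H.zw

theorem pole_zero (H : WD i₀ i₁ z w ρ) {g : B₀} {c : R} (h : Pole i₀ i₁ z ρ 0 g c) :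
    g = algebraMap R B₀ c := by
  obtain ⟨a, ha, rfl⟩ := h
  rw [pow_zero, one_mul] at ha
  obtain ⟨c, rfl⟩ := H.H0 g a ha.symm
  have : a = algebraMap R B₁ c := H.inj₁ (by rw [ha]; simp)
  rw [this]; simp

theorem pole_one (H : WD i₀ i₁ z w ρ) {g : B₀} {c : R} (h : Pole i₀ i₁ z ρ 1 g c) :
    c = 0 ∧ ∃ r : R, g = algebraMap R B₀ r := by
  have hc : c = 0 := by
    obtain ⟨a, ha, rfl⟩ := h
    have : ρ (a - algebraMap R B₁ (ρ a)) = 0 := by simp
    obtain ⟨b, hb⟩ := H.ker _ this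
    have hab : a = algebraMap R B₁ (ρ a) + z * b := by rw [← hb]; ring
    have h1 : i₀ g = w * i₁ a := by
      rw [ha, pow_one, ← mul_assoc, mul_comm w, H.zw, one_mul]
    have h2 : i₀ g = ρ a • w + i₁ b := by
      rw [h1]
      conv_lhs => rw [hab]
      rw [map_add, map_mul, mul_add, ← mul_assoc, mul_comm w (i₁ z), H.zw, one_mul,
        AlgHom.commutes, Algebra.smul_def, mul_comm]
    refine H.H1' (ρ a) g (-b) ?_
    rw [h2, map_neg]; ring
  refine ⟨hc, ?_⟩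
  rw [hc] at h
  obtain ⟨c', h'⟩ := Pole.pred H (n := 0) h
  exact ⟨c', pole_zero H h'⟩

theorem exists_pole (H : WD i₀ i₁ z w ρ) {n : ℕ} (hn : 2 ≤ n) : ∃ g : B₀, Pole i₀ i₁ z ρ n g 1 := by
  obtain ⟨c, g, h, hgh⟩ := H.H1 n
  obtain ⟨m, rfl⟩ : ∃ m, n = m + 2 := ⟨n - 2, by omega⟩
  have hzw : ∀ k : ℕ, i₁ z ^ k * w ^ k = 1 := fun k => by rw [← mul_pow, H.zw, one_pow]
  refine ⟨g, 1 - c • z ^ (m + 1) - z ^ (m + 2) * h, ?_, ?_⟩
  · have h1 : i₀ g = w ^ (m + 2) - c • w - i₁ h := by rw [hgh]; ring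
    rw [h1]
    simp only [map_sub, map_one, map_mul, map_pow, Algebra.smul_def, mul_sub, AlgHom.commutes]
    rw [hzw]
    have : i₁ z ^ (m + 2) * ((algebraMap R T) c * w) = algebraMap R T c * i₁ z ^ (m + 1) := by
      rw [pow_succ]
      linear_combination (i₁ z ^ (m + 1) * algebraMap R T c) * H.zw
    rw [this]
  · simp only [map_sub, map_one, map_smul, map_mul, map_pow, H.rz]
    simp

theorem exists_pole_of (H : WD i₀ i₁ z w ρ) (g : B₀) : ∃ (n : ℕ) (c : R), Pole i₀ i₁ z ρ n g c := by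
  obtain ⟨n, h, hh⟩ := H.loc g
  exact ⟨n, ρ h, h, hh, rfl⟩

/-- Short Weierstrass coordinates. -/
structure IsShort (i₀ : B₀ →ₐ[R] T) (i₁ : B₁ →ₐ[R] T) (z : B₁) (ρ : B₁ →ₐ[R] R) (x y : B₀)
    (a b : R) : Prop where
  px : Pole i₀ i₁ z ρ 2 x 1
  py : Pole i₀ i₁ z ρ 3 y 1
  eq : y ^ 2 = x ^ 3 + a • x + algebraMap R B₀ b

theorem red5 (H : WD i₀ i₁ z w ρ) {x y : B₀} (hx : Pole i₀ i₁ z ρ 2 x 1)
    (hy : Pole i₀ i₁ z ρ 3 y 1) {g : B₀} (hg : Pole i₀ i₁ z ρ 6 g 0) :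
    ∃ c5 c4 c3 c2 c0 : R, g = c5 • (x * y) + c4 • x ^ 2 + c3 • y + c2 • x + algebraMap R B₀ c0 := by
  obtain ⟨c5, h5⟩ := Pole.pred H hg
  have e5 := Pole.sub h5 ((hx.mul hy).smul c5)
  rw [mul_one, mul_one, sub_self] at e5
  obtain ⟨c4, h4⟩ := Pole.pred H (n := 4) e5
  have e4 := Pole.sub h4 ((hx.pow 2).smul c4)
  rw [one_pow, mul_one, sub_self] at e4
  obtain ⟨c3, h3⟩ := Pole.pred H (n := 3) e4
  have e3 := Pole.sub h3 (hy.smul c3)
  rw [mul_one, sub_self] at e3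
  obtain ⟨c2, h2⟩ := Pole.pred H (n := 2) e3
  have e2 := Pole.sub h2 (hx.smul c2)
  rw [mul_one, sub_self] at e2
  obtain ⟨c1, h1⟩ := Pole.pred H (n := 1) e2
  obtain ⟨-, c0, h0⟩ := pole_one H h1
  exact ⟨c5, c4, c3, c2, c0, by linear_combination h0⟩

theorem indep5 (H : WD i₀ i₁ z w ρ) {x y : B₀} (hx : Pole i₀ i₁ z ρ 2 x 1)
    (hy : Pole i₀ i₁ z ρ 3 y 1) {c5 c4 c3 c2 c0 : R}
    (h : c5 • (x * y) + c4 • x ^ 2 + c3 • y + c2 • x + algebraMap R B₀ c0 = 0) :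
    c5 = 0 ∧ c4 = 0 ∧ c3 = 0 ∧ c2 = 0 ∧ c0 = 0 := by
  have hp0 : ∀ n : ℕ, Pole i₀ i₁ z ρ n 0 0 := fun n => ⟨0, by simp, by simp⟩
  have k5 := (((((hx.mul hy).smul c5).add (((hx.pow 2).smul c4).mono H (show 4 < 5 by omega))).add
    ((hy.smul c3).mono H (show 3 < 5 by omega))).add ((hx.smul c2).mono H (show 2 < 5 by omega))).add
    ((Pole.const c0).mono H (show 0 < 5 by omega))
  rw [h] at k5
  have e5 : c5 = 0 := by simpa using Pole.unique H k5 (hp0 5)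
  subst e5
  rw [zero_smul, zero_add] at h
  have k4 := (((((hx.pow 2).smul c4)).add
    ((hy.smul c3).mono H (show 3 < 4 by omega))).add ((hx.smul c2).mono H (show 2 < 4 by omega))).add
    ((Pole.const c0).mono H (show 0 < 4 by omega))
  rw [h] at k4
  have e4 : c4 = 0 := by simpa using Pole.unique H k4 (hp0 4)
  subst e4
  rw [zero_smul, zero_add] at h
  have k3 := ((hy.smul c3).add ((hx.smul c2).mono H (show 2 < 3 by omega))).add
    ((Pole.const c0).mono H (show 0 < 3 by omega))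
  rw [h] at k3
  have e3 : c3 = 0 := by simpa using Pole.unique H k3 (hp0 3)
  subst e3
  rw [zero_smul, zero_add] at h
  have k2 := (hx.smul c2).add
    ((Pole.const c0).mono H (show 0 < 2 by omega))
  rw [h] at k2
  have e2 : c2 = 0 := by simpa using Pole.unique H k2 (hp0 2)
  subst e2
  rw [zero_smul, zero_add] at h
  have k0 := Pole.const (i₀ := i₀) (i₁ := i₁) (z := z) (ρ := ρ) c0
  rw [h] at k0
  have e0 : c0 = 0 := by simpa using Pole.unique H k0 (hp0 0)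
  exact ⟨rfl, rfl, rfl, rfl, e0⟩

theorem exists_short (H : WD i₀ i₁ z w ρ) (h6 : IsUnit (6 : R)) :
    ∃ (x y : B₀) (a b : R), IsShort i₀ i₁ z ρ x y a b := by
  obtain ⟨x, hx⟩ := exists_pole H (n := 2) le_rfl
  obtain ⟨y, hy⟩ := exists_pole H (n := 3) (by omega)
  have h66 : Pole i₀ i₁ z ρ 6 (y ^ 2 - x ^ 3) 0 := by
    have := (hy.pow 2).sub (hx.pow 3)
    simpa using this
  obtain ⟨c5, c4, c3, c2, c0, hc⟩ := red5 H hx hy h66
  obtain ⟨u, hu⟩ := h6
  set s : R := ↑u⁻¹ with hs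
  have hs6 : 6 * s = 1 := by rw [← hu]; simp [hs]
  -- `2⁻¹ = 3 s`, `3⁻¹ = 2 s`
  set p : R := -(3 * s * c5) with hp
  set q : R := -(3 * s * c3) with hq
  set r : R := 2 * s * (c4 + p ^ 2) with hr
  have hpp : 2 * p = -c5 := by rw [hp]; linear_combination (-c5) * hs6
  have hqq : 2 * q = -c3 := by rw [hq]; linear_combination (-c3) * hs6
  have hrr : 3 * r = c4 + p ^ 2 := by rw [hr]; linear_combination (c4 + p ^ 2) * hs6
  refine ⟨x + algebraMap R B₀ r, y + p • x + algebraMap R B₀ q,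
    c2 + 2 * p * q - 3 * r ^ 2, c0 + q ^ 2 - r * (c2 + 2 * p * q) + 2 * r ^ 3, ?_, ?_, ?_⟩
  · have := hx.add ((Pole.const r).mono H (show 0 < 2 by omega))
    simpa using this
  · have := (hy.add ((hx.smul p).mono H (show 2 < 3 by omega))).add
      ((Pole.const q).mono H (show 0 < 3 by omega))
    simpa using this
  · simp only [Algebra.smul_def] at hc ⊢
    have e1 := congrArg (algebraMap R B₀) hpp
    have e2 := congrArg (algebraMap R B₀) hqq
    have e3 := congrArg (algebraMap R B₀) hrr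
    simp only [map_mul, map_add, map_pow, map_neg, map_sub, map_ofNat] at e1 e2 e3 ⊢
    generalize algebraMap R B₀ p = P at *
    generalize algebraMap R B₀ q = Q at *
    generalize algebraMap R B₀ r = S at *
    generalize algebraMap R B₀ c5 = C5 at *
    generalize algebraMap R B₀ c4 = C4 at *
    generalize algebraMap R B₀ c3 = C3 at *
    generalize algebraMap R B₀ c2 = C2 at *
    generalize algebraMap R B₀ c0 = C0 at *
    linear_combination hc + (x * y) * e1 + y * e2 - x ^ 2 * e3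

theorem short_unique (H : WD i₀ i₁ z w ρ) (h6 : IsUnit (6 : R)) {x y x' y' : B₀} {a b a' b' : R}
    (h : IsShort i₀ i₁ z ρ x y a b) (h' : IsShort i₀ i₁ z ρ x' y' a' b') :
    x = x' ∧ y = y' ∧ a = a' ∧ b = b' := by
  have hx0 : Pole i₀ i₁ z ρ 2 (x' - x) 0 := by simpa using h'.px.sub h.px
  obtain ⟨c, hc⟩ := Pole.pred H (n := 1) hx0
  obtain ⟨-, r, hr⟩ := pole_one H hc
  have hy0 : Pole i₀ i₁ z ρ 3 (y' - y) 0 := by simpa using h'.py.sub h.py
  obtain ⟨s, hs⟩ := Pole.pred H (n := 2) hy0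
  have hs0 : Pole i₀ i₁ z ρ 2 (y' - y - s • x) 0 := by simpa using hs.sub (h.px.smul s)
  obtain ⟨c', hc'⟩ := Pole.pred H (n := 1) hs0
  obtain ⟨-, t, ht⟩ := pole_one H hc'
  have ex : x' = x + algebraMap R B₀ r := by linear_combination hr
  have ey : y' = y + s • x + algebraMap R B₀ t := by linear_combination ht
  have key : (2 * s) • (x * y) + (s ^ 2 - 3 * r) • x ^ 2 + (2 * t) • y +
      (a - a' + 2 * s * t - 3 * r ^ 2) • x +
      algebraMap R B₀ (b - b' + t ^ 2 - r ^ 3 - a' * r) = 0 := by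
    have e := h'.eq
    rw [ex, ey] at e
    have e0 := h.eq
    simp only [Algebra.smul_def, map_mul, map_add, map_pow, map_sub, map_ofNat] at e e0 ⊢
    linear_combination e - e0
  obtain ⟨k5, k4, k3, k2, k0⟩ := indep5 H h.px h.py key
  obtain ⟨u, hu⟩ := h6
  set v : R := ↑u⁻¹ with hv
  have hv6 : 6 * v = 1 := by rw [← hu]; simp [hv]
  have s0 : s = 0 := by linear_combination (3 * v) * k5 - s * hv6
  have t0 : t = 0 := by linear_combination (3 * v) * k3 - t * hv6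
  have r0 : r = 0 := by
    rw [s0] at k4
    linear_combination -(2 * v) * k4 - r * hv6
  subst s0 t0 r0
  refine ⟨by rw [ex]; simp, by rw [ey]; simp, ?_, ?_⟩
  · linear_combination k2
  · linear_combination k0

end

end K857.WeiAlg
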